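import Cfsg.Agent.Lib.BlockHeights.Galois
import Cfsg.Agent.Lib.Characters.Realizable
import Mathlib.NumberTheory.Cyclotomic.Gal

/-!
Composing a character with a coprime power map gives a character.
-/

namespace Cfsg.Agent.Lib.OddChar

open Cfsg Cfsg.Agent.Lib.Characters Cfsg.Agent.Lib.BlockHeights

universe u

variable {G : Type u} [Group G] [Finite G]

/-- Some automorphism of the cyclotomic field raises every root of unity to a given coprime power. -/
theorem exists_galAut {n : ℕ} [NeZero n] {k : ℕ} (hk : Nat.Coprime k n) :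
    ∃ σ : cycField n ≃ₐ[ℚ] cycField n, ∀ z : cycField n, (z : ℂ) ^ n = 1 → σ z = z ^ k := by
  haveI := isCyclotomic_cycField n
  have hζ := IsCyclotomicExtension.zeta_spec n ℚ (cycField n)
  have hμ : IsPrimitiveRoot (IsCyclotomicExtension.zeta n ℚ (cycField n) ^ k) n := hζ.pow_of_coprime k hk
  have hirr := Polynomial.cyclotomic.irreducible_rat (NeZero.pos n)
  refine ⟨IsCyclotomicExtension.fromZetaAut hμ hirr, fun z hz => ?_⟩
  have hz' : z ^ n = 1 := Subtype.ext (by simpa using hz)
  obtain ⟨i, -, rfl⟩ := hζ.eq_pow_of_pow_eq_one hz'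
  rw [map_pow, IsCyclotomicExtension.fromZetaAut_spec hμ hirr, ← pow_mul, ← pow_mul, mul_comm]

/-- Characters composed with a coprime power map. -/
theorem isCharacter_comp_pow {k : ℕ} (hk : Nat.Coprime k (Nat.card G)) {χ : G → ℂ}
    (hχ : IsCharacter G χ) : IsCharacter G (fun g => χ (g ^ k)) := by
  haveI : NeZero (Nat.card G) := ⟨Nat.card_pos.ne'⟩
  obtain ⟨σ, hσ⟩ := exists_galAut hk
  have hK : ∀ z : ℂ, z ^ Monoid.exponent G = 1 → z ∈ cycField (Nat.card G) := by
    intro z hz
    refine mem_cycField_of_pow_eq_one ?_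
    obtain ⟨c, hc⟩ := Group.exponent_dvd_nat_card (G := G)
    rw [hc, pow_mul, hz, one_pow]
  haveI := Fintype.ofFinite G
  obtain ⟨n, A, hA⟩ := isRealizable_of_isCharacter hK hχ
  have hgal : ∀ g, σ ⟨χ g, apply_mem_cycField hχ g⟩ = ⟨χ (g ^ k), apply_mem_cycField hχ (g ^ k)⟩ := by
    intro g
    obtain ⟨ι, hι, μ, hμ, h⟩ := exists_eigen_sum hχ g
    obtain ⟨c, hc⟩ := orderOf_dvd_natCard g
    have hμn : ∀ i, μ i ^ Nat.card G = 1 := fun i => by rw [hc, pow_mul, hμ i, one_pow]
    let ν : ι → cycField (Nat.card G) := fun i => ⟨μ i, mem_cycField_of_pow_eq_one (hμn i)⟩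
    have h1 : (⟨χ g, apply_mem_cycField hχ g⟩ : cycField (Nat.card G)) = ∑ i, ν i := by
      apply Subtype.ext
      have := h 1
      simp only [pow_one] at this
      simpa [ν] using this
    rw [h1, map_sum]
    apply Subtype.ext
    simp only [h k]
    rw [AddSubmonoidClass.coe_finsetSum]
    refine Finset.sum_congr rfl fun i _ => ?_
    rw [hσ (ν i) (hμn i)]
    simp [ν]
  let A' : G →* Matrix (Fin n) (Fin n) (cycField (Nat.card G)) :=
    (σ.toRingEquiv.toRingHom.mapMatrix (m := Fin n)).toMonoidHom.comp A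
  have hA' : IsRealizable (cycField (Nat.card G)) (fun g => χ (g ^ k)) := by
    refine ⟨n, A', funext fun g => ?_⟩
    have h1 : (A' g).trace = σ (A g).trace := (map_sum σ _ _).symm
    have h2 : (⟨χ g, apply_mem_cycField hχ g⟩ : cycField (Nat.card G)) = (A g).trace :=
      Subtype.ext (congrFun hA g)
    rw [h1, ← h2, hgal g]
  exact IsRealizable.isCharacter hA'

/-- Irreducibility is preserved by a coprime power map. -/
theorem isIrrCharacter_comp_pow {k : ℕ} (hk : Nat.Coprime k (Nat.card G)) {χ : G → ℂ}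
    (hχ : IsIrrCharacter G χ) : IsIrrCharacter G (fun g => χ (g ^ k)) := by
  haveI := Fintype.ofFinite G
  rw [IsCharacter.isIrr_iff (isCharacter_comp_pow hk (IsIrrCharacter.isCharacter hχ)),
    ← IsIrrCharacter.classInner_self hχ]
  simp only [classInner]
  congr 1
  exact Fintype.sum_equiv (powCoprime hk.symm) _ _ fun g => rfl

end Cfsg.Agent.Lib.OddChar
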