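import Mathlib
import Cfsg.Agent.S2421
import Cfsg.Agent.Lib.Characters.DegreeRatio
import Cfsg.Agent.Lib.Characters.Kernel
import Cfsg.Agent.Lib.Characters.Values

/-! The Steinberg character of `GL_n(q)` restricted to `SL_n(q)`, and its image in `PSL_n(q)`. -/

set_option autoImplicit false

namespace Cfsg.Agent.Lib.OddChar

open scoped MatrixGroups
open Cfsg Cfsg.Agent.Lib.Flag Cfsg.Agent.Lib.Characters

section degree

theorem qint_diff (q i j : ℕ) (h : i < j) :
    (qint q (j + 1) : ℂ) - (qint q (i + 1) : ℂ) = (q : ℂ) ^ (i + 1) * (qint q (j - i) : ℂ) := by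
  have hs : qint q (j + 1) = qint q (i + 1) + q ^ (i + 1) * qint q (j - i) := by
    rw [show j + 1 = (i + 1) + (j - i) by omega, qint, Finset.sum_range_add, qint, qint, Finset.mul_sum]
    congr 1
    exact Finset.sum_congr rfl fun l _ => by rw [pow_add]
  rw [hs]
  push_cast
  ring

theorem prod_qint_diff (q j : ℕ) :
    ∏ i ∈ Finset.range j, ((qint q (j + 1) : ℂ) - (qint q (i + 1) : ℂ)) =
      (q : ℂ) ^ tri (j + 1) * (qfac q j : ℂ) := by
  rw [Finset.prod_congr rfl fun i hi => qint_diff q i j (Finset.mem_range.mp hi), Finset.prod_mul_distrib,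
    Finset.prod_pow_eq_pow_sum, tri, Finset.sum_range_succ' (fun i => i) j, add_zero, qfac, Nat.cast_prod]
  congr 1
  rw [← Finset.prod_range_reflect (fun i => ((qint q (i + 1) : ℕ) : ℂ)) j]
  refine Finset.prod_congr rfl fun i hi => ?_
  rw [Finset.mem_range] at hi
  rw [show j - 1 - i + 1 = j - i by omega]

end degree

variable {F : Type*} [Field F] [Fintype F] {n : ℕ}

theorem steinGL_one :
    Cfsg.unipotentCharacterGL n F (fun _ => 1) 1 = ((Fintype.card F : ℕ) : ℂ) ^ tri n := by
  have h := unipotent_degree (F := F) (ν := fun _ : Fin n => 1) (by simp)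
  obtain ⟨q, hq⟩ : ∃ q, Fintype.card F = q := ⟨_, rfl⟩
  have hq0 : (q : ℂ) ≠ 0 := by rw [← hq]; exact Nat.cast_ne_zero.mpr Fintype.card_ne_zero
  rw [hq] at h ⊢
  have hswap : (∏ i : Fin n, ∏ j ∈ Finset.Ioi i,
      ((qint q (1 + j.val) : ℂ) - (qint q (1 + i.val) : ℂ))) =
      ∏ j : Fin n, ∏ i ∈ Finset.Iio j, ((qint q (1 + j.val) : ℂ) - (qint q (1 + i.val) : ℂ)) :=
    Finset.prod_comm' (by simp)
  have hin : ∀ j : Fin n, ∏ i ∈ Finset.Iio j, ((qint q (1 + j.val) : ℂ) - (qint q (1 + i.val) : ℂ)) =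
      (q : ℂ) ^ tri (j.val + 1) * (qfac q j.val : ℂ) := fun j => by
    rw [← prod_qint_diff q j.val, ← Nat.Iio_eq_range, ← Fin.map_valEmbedding_Iio, Finset.prod_map]
    simp [add_comm]
  simp only [hswap, hin, Finset.prod_mul_distrib, Finset.prod_pow_eq_pow_sum,
    Fin.prod_univ_eq_prod_range (fun i => ((qfac q i : ℕ) : ℂ)) n,
    Fin.prod_univ_eq_prod_range (fun i => ((qfac q (1 + i) : ℕ) : ℂ)) n] at h
  have hf : (qfac q n : ℂ) * ∏ i ∈ Finset.range n, (qfac q i : ℂ) = ∏ i ∈ Finset.range n, (qfac q (1 + i) : ℂ) := by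
    rw [show (∏ i ∈ Finset.range n, (qfac q (1 + i) : ℂ)) = ∏ i ∈ Finset.range n, (qfac q (i + 1) : ℂ) from
      Finset.prod_congr rfl fun i _ => by rw [add_comm]]
    have h0 : (qfac q 0 : ℂ) = 1 := by simp [qfac]
    have e := Finset.prod_range_succ (fun i => (qfac q i : ℂ)) n
    rw [Finset.prod_range_succ' (fun i => (qfac q i : ℂ)) n, h0, mul_one] at e
    rw [e, mul_comm]
  have hexp : ∑ i : Fin n, tri (i.val + 1) = tri n + n * (n - 1) * (n - 2) / 6 := by
    rw [Fin.sum_univ_eq_sum_range (fun i => tri (i + 1)) n]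
    have e := Finset.sum_range_succ tri n
    rw [Finset.sum_range_succ' tri n, show tri 0 = 0 from rfl, add_zero] at e
    rw [e, ← six_sum_tri n, Nat.mul_div_cancel_left _ (by norm_num)]
    ring
  rw [hexp, pow_add] at h
  have hne : ∏ i ∈ Finset.range n, (qfac q (1 + i) : ℂ) ≠ 0 :=
    Finset.prod_ne_zero_iff.mpr fun i _ => Nat.cast_ne_zero.mpr (qfac_pos _).ne'
  apply mul_right_cancel₀ (mul_ne_zero (pow_ne_zero (n * (n - 1) * (n - 2) / 6) hq0) hne)
  rw [← mul_assoc, h, ← hf]
  ring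

theorem steinGL_central {z : GL (Fin n) F} (hz : ∀ g, g * z = z * g)
    (hd : ∀ i j, i ≠ j → (z : Matrix (Fin n) (Fin n) F) i j = 0) (ν : Fin n → ℕ) :
    Cfsg.unipotentCharacterGL n F ν z = Cfsg.unipotentCharacterGL n F ν 1 := by
  unfold Cfsg.unipotentCharacterGL
  refine Finset.sum_congr rfl fun κ _ => ?_
  split_ifs with h
  · congr 1
    unfold Cfsg.fixedPointCharacter
    congr 1
    refine Nat.card_congr ((Equiv.subtypeUnivEquiv fun x => ?_).trans (Equiv.subtypeUnivEquiv fun x => one_smul _ x).symm)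
    induction x using QuotientGroup.induction_on with
    | H g =>
      refine (QuotientGroup.eq).mpr ?_
      change (z * g)⁻¹ * g ∈ _
      rw [← hz g, _root_.mul_inv_rev, mul_assoc, inv_mul_cancel, mul_one]
      refine Subgroup.inv_mem _ fun i j hij => hd i j fun e => ?_
      subst e
      exact lt_irrefl _ hij
  · rfl

theorem index_det_ker_dvd :
    (Matrix.GeneralLinearGroup.det (n := Fin n) (R := F)).ker.index ∣ Fintype.card F - 1 := by
  rw [Subgroup.index_ker]
  have := Subgroup.card_subgroup_dvd_card (Matrix.GeneralLinearGroup.det (n := Fin n) (R := F)).range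
  rwa [Nat.card_units, Nat.card_eq_fintype_card (α := F)] at this

/-- The restriction of the Steinberg character to `SL_n`. -/
theorem steinSLn_isIrr (p : ℕ) [Fact p.Prime] [CharP F p] :
    IsIrrCharacter (Matrix.SpecialLinearGroup (Fin n) F)
      (Cfsg.unipotentCharacterGL n F (fun _ => 1) ∘ Matrix.SpecialLinearGroup.toGL) := by
  classical
  have hχ := Cfsg.Agent.S2421.result (F := F) (fun _ : Fin n => 1) monotone_const (by simp)
  set χ := Cfsg.unipotentCharacterGL n F (fun _ : Fin n => 1) with hχdef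
  let N := (Matrix.GeneralLinearGroup.det (n := Fin n) (R := F)).ker
  haveI : N.Normal := MonoidHom.normal_ker _
  haveI := Fintype.ofFinite N
  haveI := Fintype.ofFinite (IrrCharacter N)
  have hres : IsCharacter N (fun k : N => χ k) := IsCharacter.comp (IsIrrCharacter.isCharacter hχ) N.subtype
  obtain ⟨m, hm, -⟩ := IsCharacter.exists_nat_decomp hres
  obtain ⟨θ, hθ⟩ : ∃ θ : IrrCharacter N, m θ ≠ 0 := by
    by_contra hcon
    push Not at hcon
    have h1 := congrFun hm 1
    simp [hcon] at h1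
    exact IsIrrCharacter.apply_one_ne_zero hχ h1
  have hinner : classInner (fun k : N => χ k) (θ : N → ℂ) ≠ 0 := by
    rw [hm, classInner_irr_sum]
    exact Nat.cast_ne_zero.mpr hθ
  obtain ⟨e, he, hed⟩ := degree_ratio_dvd_index N hχ θ.2 hinner
  obtain ⟨d, hd0, hd⟩ := IsIrrCharacter.exists_apply_one θ.2
  rw [hd, hχdef, steinGL_one] at he
  have he' : Fintype.card F ^ tri n = e * d := by exact_mod_cast he
  have he1 : e = 1 := by
    refine Nat.dvd_one.mp ?_
    have h1 : e ∣ Fintype.card F - 1 := hed.trans index_det_ker_dvd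
    have hc : Nat.Coprime (Fintype.card F - 1) (Fintype.card F) := by
      have := Fintype.one_lt_card (α := F)
      exact (Nat.coprime_self_sub_left (by omega)).mpr (Nat.coprime_one_left _)
    rw [← (hc.pow_right (tri n)).gcd_eq_one]
    exact Nat.dvd_gcd h1 ⟨d, he'⟩
  subst he1
  have hsum : ∑ ψ : IrrCharacter N, (m ψ : ℂ) * (ψ : N → ℂ) 1 = (d : ℂ) := by
    have h1 : χ ((1 : N) : GL (Fin n) F) = ∑ ψ : IrrCharacter N, (m ψ : ℂ) * (ψ : N → ℂ) 1 := by
      simpa [Finset.sum_apply] using congrFun hm 1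
    rw [← h1, OneMemClass.coe_one, hχdef, steinGL_one, ← Nat.cast_pow, he', one_mul]
  choose deg hdeg0 hdeg using fun ψ : IrrCharacter N => IsIrrCharacter.exists_apply_one ψ.2
  simp only [hdeg] at hsum
  have hsum' : ∑ ψ : IrrCharacter N, m ψ * deg ψ = d := by exact_mod_cast hsum
  have hdθ : deg θ = d := by
    have := hdeg θ
    rw [hd] at this
    exact_mod_cast this.symm
  have hsplit := Finset.add_sum_erase Finset.univ (fun ψ => m ψ * deg ψ) (Finset.mem_univ θ)
  rw [hsum', hdθ] at hsplit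
  have hge : d ≤ m θ * d := Nat.le_mul_of_pos_left _ (Nat.pos_of_ne_zero hθ)
  have hz : ∀ ψ, ψ ≠ θ → m ψ = 0 := fun ψ hψ => by
    have h0 : ∑ ψ ∈ Finset.univ.erase θ, m ψ * deg ψ = 0 := by omega
    have := Finset.sum_eq_zero_iff.mp h0 ψ (Finset.mem_erase.mpr ⟨hψ, Finset.mem_univ _⟩)
    rcases Nat.mul_eq_zero.mp this with h | h
    · exact h
    · have := hdeg0 ψ; omega
  have hm1 : m θ = 1 := by
    have : m θ * d = 1 * d := by omega
    exact Nat.eq_of_mul_eq_mul_right hd0 this
  have hθeq : (fun k : N => χ k) = (θ : N → ℂ) := by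
    rw [hm, Finset.sum_eq_single θ (fun ψ _ hψ => by simp [hz ψ hψ]) (by simp), hm1]
    simp
  let f : Matrix.SpecialLinearGroup (Fin n) F →* N :=
    Matrix.SpecialLinearGroup.toGL.codRestrict N fun s => Units.ext (by simp)
  have hf : Function.Surjective f := fun k => by
    refine ⟨⟨(k : GL (Fin n) F), by simpa using congrArg Units.val k.2⟩, Subtype.ext (Units.ext rfl)⟩
  have h := IsIrrCharacter.comp_surjective θ.2 f hf
  rw [← hθeq] at h
  exact h

theorem qint_mod {q r : ℕ} (hq : 2 ≤ q) : qint q (r + 1) % q = 1 := by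
  rw [qint, Finset.sum_range_succ', pow_zero]
  have : q ∣ ∑ k ∈ Finset.range r, q ^ (k + 1) := Finset.dvd_sum fun k _ => dvd_pow_self q (Nat.succ_ne_zero k)
  obtain ⟨c, hc⟩ := this
  rw [hc, Nat.mul_add_mod, Nat.one_mod_eq_one.mpr (by omega)]

theorem psl_steinberg (p : ℕ) [hp : Fact p.Prime] [CharP F p] :
    ∃ χ : Matrix.ProjectiveSpecialLinearGroup (Fin n) F → ℂ,
      IsIrrCharacter (Matrix.ProjectiveSpecialLinearGroup (Fin n) F) χ ∧
      ∀ P : Sylow p (Matrix.ProjectiveSpecialLinearGroup (Fin n) F), χ 1 = Nat.card P ∧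
        ∀ x : Matrix.ProjectiveSpecialLinearGroup (Fin n) F, x ∈ P → x ≠ 1 → χ x = 0 := by
  classical
  have hψ0 := steinSLn_isIrr (F := F) (n := n) p
  obtain ⟨ψ, hψ, e⟩ := IsIrrCharacter.exists_quotient hψ0
    (Subgroup.center (Matrix.SpecialLinearGroup (Fin n) F)) (fun z hz => by
      obtain ⟨r, -, hr⟩ := Matrix.SpecialLinearGroup.mem_center_iff.mp hz
      simp only [Function.comp_apply, map_one]
      refine steinGL_central (fun g => Units.ext ?_) (fun i j hij => ?_) _
      · change (g : Matrix (Fin n) (Fin n) F) * (z : Matrix (Fin n) (Fin n) F) =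
          (z : Matrix (Fin n) (Fin n) F) * (g : Matrix (Fin n) (Fin n) F)
        rw [← hr]
        exact ((Matrix.scalar_commute r (fun r' => Commute.all r r') _).symm).eq
      · change (z : Matrix (Fin n) (Fin n) F) i j = 0
        rw [← hr]
        simp [hij])
  obtain ⟨k, -, hk⟩ := FiniteField.card F p
  have hd : ψ 1 = ((p ^ ((k : ℕ) * tri n) : ℕ) : ℂ) := by
    have h := congrFun e 1
    simp only [Function.comp_apply, map_one] at h
    rw [← h, steinGL_one, hk]
    push_cast
    rw [pow_mul]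
  set G := Matrix.ProjectiveSpecialLinearGroup (Fin n) F
  have hle : (Nat.card G).factorization p ≤ (k : ℕ) * tri n := by
    have h1 : Nat.card G ∣ Nat.card (Matrix.SpecialLinearGroup (Fin n) F) :=
      Subgroup.card_quotient_dvd_card _
    have h2 : Nat.card (Matrix.SpecialLinearGroup (Fin n) F) ∣ Nat.card (GL (Fin n) F) :=
      Subgroup.card_dvd_of_injective _ Matrix.SpecialLinearGroup.toGL_injective
    have h3 := h1.trans h2
    rw [card_GL_index, Fintype.card_fin, mul_assoc] at h3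
    have hq2 : 2 ≤ Fintype.card F := Fintype.one_lt_card
    have hpq : p ∣ Fintype.card F := hk ▸ dvd_pow_self p k.ne_zero
    have hnd : ¬ p ∣ (Fintype.card F - 1) ^ n * qfac (Fintype.card F) n := by
      intro h
      rcases hp.out.dvd_mul.mp h with h | h
      · have := Nat.dvd_sub hpq (hp.out.dvd_of_dvd_pow h)
        rw [Nat.sub_sub_self (by omega)] at this
        exact hp.out.not_dvd_one this
      · obtain ⟨j, -, hj⟩ := ((Nat.Prime.prime hp.out).dvd_finset_prod_iff _).mp h
        have h5 := (Nat.dvd_mod_iff hpq).mpr hj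
        rw [qint_mod hq2] at h5
        exact hp.out.not_dvd_one h5
    have h4 : p ^ (Nat.card G).factorization p ∣ Fintype.card F ^ tri n :=
      ((hp.out.coprime_iff_not_dvd.mpr hnd).pow_left _).dvd_of_dvd_mul_right ((Nat.ordProj_dvd _ p).trans h3)
    rw [hk, ← pow_mul] at h4
    exact (Nat.pow_dvd_pow_iff_le_right hp.out.one_lt).mp h4
  have hge : (k : ℕ) * tri n ≤ (Nat.card G).factorization p := by
    obtain ⟨m, -, hm, hdvd⟩ := IsIrrCharacter.exists_degree_dvd hψ
    rw [hd, Nat.cast_inj] at hm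
    subst hm
    exact (hp.out.pow_dvd_iff_le_factorization Nat.card_pos.ne').mp hdvd
  have hv : (k : ℕ) * tri n = (Nat.card G).factorization p := le_antisymm hge hle
  refine ⟨ψ, hψ, fun P => ⟨by rw [hd, hv, P.card_eq_multiplicity], fun x hx hx1 => ?_⟩⟩
  refine vanish_of_defect_zero hψ hp.out hd (by rw [hv]) ?_
  obtain ⟨j, hj⟩ := P.2 ⟨x, hx⟩
  have hj' : x ^ p ^ j = 1 := congrArg Subtype.val hj
  obtain ⟨i, -, hi⟩ := (Nat.dvd_prime_pow hp.out).mp (orderOf_dvd_of_pow_eq_one hj')
  rw [hi]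
  rcases Nat.eq_zero_or_pos i with rfl | hi0
  · exact absurd (orderOf_eq_one_iff.mp (by simpa using hi)) hx1
  · exact dvd_pow_self p hi0.ne'

end Cfsg.Agent.Lib.OddChar
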