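import Cfsg.Prelude.Def_OddOrderChar
import Cfsg.Prelude.Def_OddOrderLocal
import Cfsg.Agent.Lib.Characters.Clifford
import Mathlib.GroupTheory.FiniteAbelian.Duality
import Mathlib.GroupTheory.NoncommCoprod
import Mathlib.Analysis.Complex.Polynomial.Basic

/-!
Linear characters of a direct product `W₁ ⊔ W₂` of commuting cyclic subgroups.
-/

namespace Cfsg.Agent.Lib.OddChar

open Cfsg.Agent.Lib.Characters
open scoped ComplexConjugate

universe u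

/-- Orthogonality for a finite abelian group. -/
theorem sum_hom_apply {A : Type*} [Group A] [Finite A] (hA : ∀ a b : A, a * b = b * a) [Fintype (A →* ℂˣ)]
    [DecidableEq A] (a : A) :
    ∑ lam : A →* ℂˣ, (lam a : ℂ) = if a = 1 then (Nat.card (A →* ℂˣ) : ℂ) else 0 := by
  classical
  split_ifs with h
  · subst h; simp [Nat.card_eq_fintype_card]
  · let _ : CommGroup A := { (inferInstance : Group A) with mul_comm := hA }
    haveI : NeZero (Monoid.exponent A) := ⟨Monoid.exponent_ne_zero_of_finite⟩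
    obtain ⟨m₀, hm⟩ := CommGroup.exists_apply_ne_one_of_hasEnoughRootsOfUnity A ℂ h
    have hs : ∑ lam : A →* ℂˣ, (lam a : ℂ) = (m₀ a : ℂ) * ∑ lam : A →* ℂˣ, (lam a : ℂ) := by
      rw [Finset.mul_sum]
      refine (Fintype.sum_equiv (Equiv.mulLeft m₀) _ _ fun lam => ?_).symm
      show _ = (((m₀ * lam) a : ℂˣ) : ℂ)
      rw [MonoidHom.mul_apply, Units.val_mul]
    have hne : (1 : ℂ) - (m₀ a : ℂ) ≠ 0 := fun e =>
      hm (Units.ext (sub_eq_zero.mp e).symm)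
    have : (1 - (m₀ a : ℂ)) * ∑ lam : A →* ℂˣ, (lam a : ℂ) = 0 := by linear_combination hs
    exact (mul_eq_zero.mp this).resolve_left hne

/-- The linear characters of a finite abelian group are as many as its elements. -/
theorem card_hom {A : Type*} [Group A] [Finite A] (hA : ∀ a b : A, a * b = b * a) :
    Nat.card (A →* ℂˣ) = Nat.card A := by
  let _ : CommGroup A := { (inferInstance : Group A) with mul_comm := hA }
  haveI : NeZero (Monoid.exponent A) := ⟨Monoid.exponent_ne_zero_of_finite⟩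
  exact CommGroup.card_monoidHom_of_hasEnoughRootsOfUnity A ℂ

theorem finite_hom {A : Type*} [Group A] [Finite A] (hA : ∀ a b : A, a * b = b * a) :
    Finite (A →* ℂˣ) :=
  Nat.finite_of_card_ne_zero (card_hom hA ▸ Nat.card_pos.ne')

variable {G : Type u} [Group G]

/-- The two projections of `W₁ ⊔ W₂`. -/
theorem exists_proj (W₁ W₂ : Subgroup G) (hdisj : W₁ ⊓ W₂ = ⊥)
    (hcomm : ∀ a ∈ W₁, ∀ b ∈ W₂, a * b = b * a) :
    ∃ (p₁ : ↥(W₁ ⊔ W₂) →* W₁) (p₂ : ↥(W₁ ⊔ W₂) →* W₂),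
      (∀ w, (p₁ w : G) * (p₂ w : G) = w) ∧
      (∀ a : W₁, p₁ (Subgroup.inclusion le_sup_left a) = a ∧ p₂ (Subgroup.inclusion le_sup_left a) = 1) ∧
      (∀ b : W₂, p₁ (Subgroup.inclusion le_sup_right b) = 1 ∧ p₂ (Subgroup.inclusion le_sup_right b) = b) := by
  let f : W₁ × W₂ →* ↥(W₁ ⊔ W₂) :=
    MonoidHom.noncommCoprod (Subgroup.inclusion le_sup_left) (Subgroup.inclusion le_sup_right)
      fun a b => Subtype.ext (hcomm a a.2 b b.2)
  have hf : ∀ x, ((f x : ↥(W₁ ⊔ W₂)) : G) = (x.1 : G) * x.2 := fun x => rfl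
  have hinj : Function.Injective f := by
    rw [injective_iff_map_eq_one]
    intro x hx
    have h1 : (x.1 : G) * x.2 = 1 := (hf x).symm.trans (congrArg Subtype.val hx)
    have h2 : (x.1 : G) ∈ W₁ ⊓ W₂ := ⟨x.1.2, eq_inv_of_mul_eq_one_left h1 ▸ W₂.inv_mem x.2.2⟩
    rw [hdisj, Subgroup.mem_bot] at h2
    rw [h2, one_mul] at h1
    exact Prod.ext (Subtype.ext h2) (Subtype.ext h1)
  have hsurj : Function.Surjective f := by
    rintro ⟨w, hw⟩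
    have hle : W₂ ≤ Subgroup.normalizer (W₁ : Set G) := by
      intro b hb
      rw [Subgroup.mem_set_normalizer_iff]
      intro a
      constructor
      · intro ha
        rwa [← hcomm a ha b hb, mul_inv_cancel_right]
      · intro ha
        have e : b⁻¹ * (b * a * b⁻¹) * b = b * a * b⁻¹ := by
          rw [← hcomm _ ha b⁻¹ (W₂.inv_mem hb)]; group
        have : a = b⁻¹ * (b * a * b⁻¹) * b := by group
        rw [this, e]
        exact ha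
    rw [← SetLike.mem_coe, Subgroup.coe_mul_of_right_le_normalizer_left W₁ W₂ hle] at hw
    obtain ⟨a, ha, b, hb, rfl⟩ := Set.mem_mul.mp hw
    exact ⟨(⟨a, ha⟩, ⟨b, hb⟩), Subtype.ext (hf _)⟩
  let e : W₁ × W₂ ≃* ↥(W₁ ⊔ W₂) := MulEquiv.ofBijective f ⟨hinj, hsurj⟩
  refine ⟨(MonoidHom.fst W₁ W₂).comp e.symm.toMonoidHom, (MonoidHom.snd W₁ W₂).comp e.symm.toMonoidHom,
    fun w => ?_, fun a => ?_, fun b => ?_⟩
  · exact (hf (e.symm w)).symm.trans (congrArg Subtype.val (e.apply_symm_apply w))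
  · have h : e.symm (Subgroup.inclusion le_sup_left a) = (a, 1) := by
      rw [MulEquiv.symm_apply_eq]
      exact Subtype.ext (by rw [show (e (a, (1 : W₂)) : G) = (a : G) * ((1 : W₂) : G) from hf _]; simp)
    exact ⟨congrArg Prod.fst h, congrArg Prod.snd h⟩
  · have h : e.symm (Subgroup.inclusion le_sup_right b) = (1, b) := by
      rw [MulEquiv.symm_apply_eq]
      exact Subtype.ext (by rw [show (e ((1 : W₁), b) : G) = ((1 : W₁) : G) * (b : G) from hf _]; simp)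
    exact ⟨congrArg Prod.fst h, congrArg Prod.snd h⟩

variable {W₁ W₂ : Subgroup G}

theorem mem_left_iff {p₁ : ↥(W₁ ⊔ W₂) →* W₁} {p₂ : ↥(W₁ ⊔ W₂) →* W₂}
    (h : ∀ w, (p₁ w : G) * (p₂ w : G) = w)
    (h₁ : ∀ a : W₁, p₁ (Subgroup.inclusion le_sup_left a) = a ∧ p₂ (Subgroup.inclusion le_sup_left a) = 1)
    (w : ↥(W₁ ⊔ W₂)) : (w : G) ∈ W₁ ↔ p₂ w = 1 :=
  ⟨fun hw => (h₁ ⟨w, hw⟩).2, fun hw => by rw [← h w, hw]; simp⟩

theorem mem_right_iff {p₁ : ↥(W₁ ⊔ W₂) →* W₁} {p₂ : ↥(W₁ ⊔ W₂) →* W₂}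
    (h : ∀ w, (p₁ w : G) * (p₂ w : G) = w)
    (h₂ : ∀ b : W₂, p₁ (Subgroup.inclusion le_sup_right b) = 1 ∧ p₂ (Subgroup.inclusion le_sup_right b) = b)
    (w : ↥(W₁ ⊔ W₂)) : (w : G) ∈ W₂ ↔ p₁ w = 1 :=
  ⟨fun hw => (h₂ ⟨w, hw⟩).1, fun hw => by rw [← h w, hw]; simp⟩

/-- Homomorphisms on `W₁ ⊔ W₂` agreeing on both factors are equal. -/
theorem hom_ext {M : Type*} [Monoid M] {φ φ' : ↥(W₁ ⊔ W₂) →* M}
    (h₁ : ∀ w : ↥(W₁ ⊔ W₂), (w : G) ∈ W₁ → φ w = φ' w)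
    (h₂ : ∀ w : ↥(W₁ ⊔ W₂), (w : G) ∈ W₂ → φ w = φ' w) : φ = φ' := by
  have hle : W₁ ⊔ W₂ ≤ (φ.eqLocus φ').map (W₁ ⊔ W₂).subtype := by
    refine sup_le (fun a ha => ?_) (fun b hb => ?_)
    · exact Subgroup.mem_map.mpr ⟨⟨a, Subgroup.mem_sup_left ha⟩, h₁ _ ha, rfl⟩
    · exact Subgroup.mem_map.mpr ⟨⟨b, Subgroup.mem_sup_right hb⟩, h₂ _ hb, rfl⟩
  refine MonoidHom.ext fun w => ?_
  obtain ⟨v, hv, e⟩ := Subgroup.mem_map.mp (hle w.2)
  rw [← Subtype.ext e]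
  exact hv

/-- If a function on `W₁ ⊔ W₂` is orthogonal to every `(1 - φ) * (1 - ψ)`, then it vanishes off
`W₁ ∪ W₂`. -/
theorem vanish_of_orth [Finite G] [Fintype ↥(W₁ ⊔ W₂)] (hdisj : W₁ ⊓ W₂ = ⊥)
    (hcomm : ∀ a ∈ W₁, ∀ b ∈ W₂, a * b = b * a) (hW : ∀ a b : ↥(W₁ ⊔ W₂), a * b = b * a)
    (f : ↥(W₁ ⊔ W₂) → ℂ)
    (horth : ∀ φ ψ : ↥(W₁ ⊔ W₂) →* ℂˣ, φ ≠ 1 → ψ ≠ 1 →
      (∀ w : ↥(W₁ ⊔ W₂), (w : G) ∈ W₂ → φ w = 1) → (∀ w : ↥(W₁ ⊔ W₂), (w : G) ∈ W₁ → ψ w = 1) →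
      classInner f (fun w => 1 - (φ w : ℂ) - (ψ w : ℂ) + (φ w : ℂ) * (ψ w : ℂ)) = 0)
    (w : ↥(W₁ ⊔ W₂)) (hw₁ : (w : G) ∉ W₁) (hw₂ : (w : G) ∉ W₂) : f w = 0 := by
  classical
  obtain ⟨p₁, p₂, hp, hp₁, hp₂⟩ := exists_proj W₁ W₂ hdisj hcomm
  have hA₁ : ∀ a b : W₁, a * b = b * a := fun a b => Subtype.ext (congrArg Subtype.val
    (hW (Subgroup.inclusion le_sup_left a) (Subgroup.inclusion le_sup_left b)) :)
  have hA₂ : ∀ a b : W₂, a * b = b * a := fun a b => Subtype.ext (congrArg Subtype.val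
    (hW (Subgroup.inclusion le_sup_right a) (Subgroup.inclusion le_sup_right b)) :)
  haveI := finite_hom hA₁
  haveI := finite_hom hA₂
  haveI := Fintype.ofFinite (W₁ →* ℂˣ)
  haveI := Fintype.ofFinite (W₂ →* ℂˣ)
  have hF : ∀ (l₁ : W₁ →* ℂˣ) (l₂ : W₂ →* ℂˣ),
      ∑ x : ↥(W₁ ⊔ W₂), f x * conj ((1 - (l₁ (p₁ x) : ℂ)) * (1 - (l₂ (p₂ x) : ℂ))) = 0 := by
    intro l₁ l₂
    by_cases h1 : l₁ = 1
    · simp [h1]
    by_cases h2 : l₂ = 1
    · simp [h2]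
    have h := horth (l₁.comp p₁) (l₂.comp p₂)
      (fun e => h1 (MonoidHom.ext fun a => by
        have := DFunLike.congr_fun e (Subgroup.inclusion le_sup_left a)
        simpa [(hp₁ a).1] using this))
      (fun e => h2 (MonoidHom.ext fun b => by
        have := DFunLike.congr_fun e (Subgroup.inclusion le_sup_right b)
        simpa [(hp₂ b).2] using this))
      (fun x hx => by rw [MonoidHom.comp_apply, (mem_right_iff hp hp₂ x).mp hx, map_one])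
      (fun x hx => by rw [MonoidHom.comp_apply, (mem_left_iff hp hp₁ x).mp hx, map_one])
    rw [classInner, mul_eq_zero] at h
    rw [← h.resolve_left (inv_ne_zero natCard_ne_zero_complex)]
    refine Finset.sum_congr rfl fun x _ => ?_
    congr 2
    simp only [MonoidHom.comp_apply]
    ring
  have hS : ∀ {A : Type u} [Group A] [Finite A] [Fintype (A →* ℂˣ)] (hA : ∀ a b : A, a * b = b * a)
      (a x : A), a ≠ 1 → ∑ l : A →* ℂˣ, (l a⁻¹ : ℂ) * (1 - (l x : ℂ)) =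
        if x = a then -(Nat.card (A →* ℂˣ) : ℂ) else 0 := by
    intro A _ _ _ hA a x ha
    simp only [mul_sub, mul_one, Finset.sum_sub_distrib]
    simp only [← Units.val_mul, ← map_mul]
    rw [sum_hom_apply hA, sum_hom_apply hA, if_neg (inv_ne_one.mpr ha)]
    by_cases hx : x = a
    · simp [hx]
    · rw [if_neg hx, if_neg (fun e => hx (inv_mul_eq_one.mp e).symm), sub_zero]
  set a := p₁ w with hadef
  set b := p₂ w with hbdef
  have ha : a ≠ 1 := fun e => hw₂ ((mem_right_iff hp hp₂ w).mpr e)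
  have hb : b ≠ 1 := fun e => hw₁ ((mem_left_iff hp hp₁ w).mpr e)
  have key : ∀ x : ↥(W₁ ⊔ W₂),
      ∑ l₁ : W₁ →* ℂˣ, ∑ l₂ : W₂ →* ℂˣ,
        conj ((l₁ a⁻¹ : ℂ) * (l₂ b⁻¹ : ℂ)) * (f x * conj ((1 - (l₁ (p₁ x) : ℂ)) * (1 - (l₂ (p₂ x) : ℂ)))) =
      if x = w then f x * ((Nat.card (W₁ →* ℂˣ) : ℂ) * (Nat.card (W₂ →* ℂˣ) : ℂ)) else 0 := by
    intro x
    have e : ∀ (l₁ : W₁ →* ℂˣ) (l₂ : W₂ →* ℂˣ),
        conj ((l₁ a⁻¹ : ℂ) * (l₂ b⁻¹ : ℂ)) * (f x * conj ((1 - (l₁ (p₁ x) : ℂ)) * (1 - (l₂ (p₂ x) : ℂ)))) =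
        f x * conj (((l₁ a⁻¹ : ℂ) * (1 - (l₁ (p₁ x) : ℂ))) * ((l₂ b⁻¹ : ℂ) * (1 - (l₂ (p₂ x) : ℂ)))) := by
      intro l₁ l₂
      simp only [map_mul]
      ring
    simp only [e, ← Finset.mul_sum, ← map_sum, ← Finset.sum_mul]
    rw [hS hA₁ a (p₁ x) ha, hS hA₂ b (p₂ x) hb]
    by_cases hx : x = w
    · subst hx; simp [hadef, hbdef]
    · rw [if_neg hx]
      have : p₁ x ≠ a ∨ p₂ x ≠ b := by
        by_contra hc
        rw [not_or, not_not, not_not] at hc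
        exact hx (Subtype.ext (by rw [← hp x, ← hp w, hc.1, hc.2]))
      rcases this with h | h <;> simp [h]
  have htot : ∑ x : ↥(W₁ ⊔ W₂), (if x = w then
      f x * ((Nat.card (W₁ →* ℂˣ) : ℂ) * (Nat.card (W₂ →* ℂˣ) : ℂ)) else 0) = 0 := by
    rw [← Finset.sum_congr rfl fun x _ => key x, Finset.sum_comm]
    refine Finset.sum_eq_zero fun l₁ _ => ?_
    rw [Finset.sum_comm]
    refine Finset.sum_eq_zero fun l₂ _ => ?_
    rw [← Finset.mul_sum, hF l₁ l₂, mul_zero]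
  rw [Finset.sum_ite_eq' Finset.univ w, if_pos (Finset.mem_univ w)] at htot
  exact (mul_eq_zero.mp htot).resolve_right
    (mul_ne_zero natCard_ne_zero_complex natCard_ne_zero_complex)

/-- A class function vanishing on `W` off `W₁ ∪ W₂` has additive coordinates along the family. -/
theorem coord_add [Fintype G] {χ : (↥(W₁ ⊔ W₂) →* ℂˣ) → (G → ℂ)} (hχ : Cfsg.IsCyclicTIFamily W₁ W₂ χ)
    {θ : G → ℂ} (hθ : Cfsg.IsClassFunction G θ)
    (hθV : ∀ w : ↥(W₁ ⊔ W₂), (w : G) ∉ W₁ → (w : G) ∉ W₂ → θ w = 0)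
    {φ ψ : ↥(W₁ ⊔ W₂) →* ℂˣ} (hφ : ∀ w : ↥(W₁ ⊔ W₂), (w : G) ∈ W₂ → φ w = 1)
    (hψ : ∀ w : ↥(W₁ ⊔ W₂), (w : G) ∈ W₁ → ψ w = 1) :
    classInner θ (χ (φ * ψ)) = classInner θ (χ φ) + classInner θ (χ ψ) - classInner θ (χ 1) := by
  by_cases h1 : φ = 1
  · subst h1; rw [show (1 : ↥(W₁ ⊔ W₂) →* ℂˣ) * ψ = ψ from MonoidHom.ext fun w => one_mul _]; ring
  by_cases h2 : ψ = 1
  · subst h2; rw [show φ * (1 : ↥(W₁ ⊔ W₂) →* ℂˣ) = φ from MonoidHom.ext fun w => mul_one _]; ring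
  haveI := Fintype.ofFinite ↥(W₁ ⊔ W₂)
  have h := classInner_indFun_right (W₁ ⊔ W₂)
    (fun w => 1 - (φ w : ℂ) - (ψ w : ℂ) + (φ w : ℂ) * (ψ w : ℂ)) hθ
  have h0 : classInner (fun w : ↥(W₁ ⊔ W₂) => θ w)
      (fun w => 1 - (φ w : ℂ) - (ψ w : ℂ) + (φ w : ℂ) * (ψ w : ℂ)) = 0 := by
    rw [classInner, Finset.sum_eq_zero, mul_zero]
    intro w _
    by_cases ha : (w : G) ∈ W₁
    · simp [hψ w ha]
    by_cases hb : (w : G) ∈ W₂
    · simp [hφ w hb]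
    simp [hθV w ha hb]
  rw [h0, hχ.induced_eq φ ψ h1 h2 hφ hψ] at h
  have e : (fun g => 1 - χ φ g - χ ψ g + χ (φ * ψ) g) = χ 1 - χ φ - χ ψ + χ (φ * ψ) := by
    funext g; simp [hχ.map_one]
  rw [e, classInner_add_right, classInner_sub_right, classInner_sub_right] at h
  linear_combination h

end Cfsg.Agent.Lib.OddChar
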