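import Cfsg.Agent.Lib.Characters.Clifford
import Cfsg.Agent.Lib.Characters.ExtensionCoprime
import Cfsg.Agent.Lib.OddChar.CyclicTI

/-!
Characters above an invariant character of a normal subgroup with abelian quotient, and the
resulting decomposition of the induced character.
-/

namespace Cfsg.Agent.Lib.OddChar

open Cfsg.Agent.Lib.Characters

set_option linter.unusedSectionVars false
set_option linter.style.haveILetI false

universe u

variable {T : Type u} [Group T] [Fintype T] (N : Subgroup T) [hN : N.Normal]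

theorem quot_comm (hcomm : ∀ x y : T, x * y * x⁻¹ * y⁻¹ ∈ N) (a b : T ⧸ N) : a * b = b * a := by
  induction a using QuotientGroup.induction_on with | _ x =>
  induction b using QuotientGroup.induction_on with | _ y =>
  rw [← QuotientGroup.mk_mul, ← QuotientGroup.mk_mul, QuotientGroup.eq]
  have h := hcomm y⁻¹ x⁻¹
  simpa [mul_assoc] using h

/-- Summing the twists of a class function gives the induction of its restriction. -/
theorem sum_twists (hcomm : ∀ x y : T, x * y * x⁻¹ * y⁻¹ ∈ N) [Fintype (T ⧸ N →* ℂˣ)]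
    {ψ : T → ℂ} (hψ : Cfsg.IsClassFunction T ψ) :
    ∑ l : T ⧸ N →* ℂˣ, (fun g : T => (l (g : T ⧸ N) : ℂ) * ψ g) =
      Cfsg.indFun N (fun n : N => ψ n) := by
  classical
  have hA := quot_comm N hcomm
  have h1 : Cfsg.indFun N (fun n : N => ψ n) = Cfsg.indFun N (fun _ => 1) * ψ := by
    rw [← indFun_mul_restrict N _ hψ]
    congr 1
    funext n
    simp
  rw [h1]
  funext g
  rw [Finset.sum_apply, Pi.mul_apply, ← Finset.sum_mul, sum_hom_apply hA, card_hom hA, indFun_apply]
  congr 1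
  by_cases hg : g ∈ N
  · rw [if_pos ((QuotientGroup.eq_one_iff g).mpr hg)]
    have h2 : ∀ x : T, Cfsg.extendByZero N (fun _ => (1 : ℂ)) (x⁻¹ * g * x) = 1 := fun x => by
      rw [extendByZero_of_mem]
      simpa using hN.conj_mem g hg x⁻¹
    rw [Finset.sum_congr rfl fun x _ => h2 x, Finset.sum_const, nsmul_one, Finset.card_univ,
      ← Nat.card_eq_fintype_card, ← Subgroup.index_eq_card, ← N.index_mul_card]
    have : (Nat.card N : ℂ) ≠ 0 := natCard_ne_zero_complex
    push_cast
    field_simp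
  · rw [if_neg (fun h => hg ((QuotientGroup.eq_one_iff g).mp h))]
    have h2 : ∀ x : T, Cfsg.extendByZero N (fun _ => (1 : ℂ)) (x⁻¹ * g * x) = 0 := fun x => by
      rw [extendByZero_of_not_mem]
      intro h
      have := hN.conj_mem _ h x
      exact hg (by simpa [mul_assoc] using this)
    simp [Finset.sum_congr rfl fun x _ => h2 x]

/-- The decomposition of an induced invariant character over an abelian quotient. -/
theorem exists_decomp_of_abelian_quot (hcomm : ∀ x y : T, x * y * x⁻¹ * y⁻¹ ∈ N)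
    {θ : N → ℂ} (hθ : Cfsg.IsIrrCharacter N θ)
    (hinv : ∀ g : T, Cfsg.Agent.Lib.Characters.conjFun N g θ = θ) :
    ∃ (e : ℕ) (C : Finset (T → ℂ)), 0 < e ∧ (∀ φ ∈ C, Cfsg.IsIrrCharacter T φ) ∧
      e ^ 2 * C.card = N.index ∧ Cfsg.indFun N θ = (e : ℂ) • ∑ φ ∈ C, φ ∧
      ∀ φ ∈ C, φ 1 = (e : ℂ) * θ 1 := by
  classical
  haveI := Fintype.ofFinite N
  have hA := quot_comm N hcomm
  haveI := finite_hom hA
  haveI := Fintype.ofFinite (T ⧸ N →* ℂˣ)
  have hθc := IsIrrCharacter.isCharacter hθ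
  have hI := IsCharacter.indFun N hθc
  have hI0 : Cfsg.indFun N θ ≠ 0 := fun h => by
    have := congrFun h 1
    rw [indFun_one, Pi.zero_apply, mul_eq_zero, Nat.cast_eq_zero] at this
    exact this.elim Subgroup.index_ne_zero_of_finite (IsIrrCharacter.apply_one_ne_zero hθ)
  obtain ⟨ψ, hψ⟩ := IsCharacter.exists_constituent hI hI0
  have hψc := irr_isCharacter ψ
  have hres : ∀ φ : T → ℂ, Cfsg.IsClassFunction T φ →
      Cfsg.classInner (Cfsg.indFun N θ) φ = Cfsg.classInner θ (fun n : N => φ n) :=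
    fun φ hφ => classInner_indFun N θ hφ
  obtain ⟨e, he⟩ := IsCharacter.exists_classInner_nat (IsCharacter.restrict hψc N) hθc
  have he0 : Cfsg.classInner (fun n : N => (ψ : T → ℂ) n) θ ≠ 0 := by
    intro h
    rw [hres _ (irr_isClassFunction ψ), ← classInner_conj_symm, h, map_zero] at hψ
    exact hψ rfl
  have hepos : 0 < e := Nat.pos_of_ne_zero fun h => he0 (by rw [he, h, Nat.cast_zero])
  have hψN : (fun n : N => (ψ : T → ℂ) n) = (e : ℂ) • θ := by
    rw [restrict_eq_smul_of_invariant N ψ.2 hθ hinv he0, he]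
  let tw : (T ⧸ N →* ℂˣ) → (T → ℂ) := fun l g => (l (g : T ⧸ N) : ℂ) * (ψ : T → ℂ) g
  have htw : ∀ l, Cfsg.IsIrrCharacter T (tw l) := fun l =>
    isIrrCharacter_twist (l.comp (QuotientGroup.mk' N)) ψ.2
  have htwN : ∀ l, (fun n : N => tw l n) = (e : ℂ) • θ := by
    intro l
    rw [← hψN]
    funext n
    simp [tw, (QuotientGroup.eq_one_iff (n : T)).mpr n.2]
  have hsum : ∑ l, tw l = (e : ℂ) • Cfsg.indFun N θ := by
    rw [← indFun_smul, ← hψN]
    exact sum_twists N hcomm (irr_isClassFunction ψ)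
  set C := Finset.univ.image tw with hC
  have hCirr : ∀ φ ∈ C, Cfsg.IsIrrCharacter T φ := fun φ hφ => by
    obtain ⟨l, -, rfl⟩ := Finset.mem_image.mp hφ
    exact htw l
  have hfib : ∀ φ ∈ C, (Finset.univ.filter fun l => tw l = φ).card = e ^ 2 := by
    intro φ hφ
    obtain ⟨l₀, -, rfl⟩ := Finset.mem_image.mp hφ
    have h := congrArg (fun f => Cfsg.classInner f (tw l₀)) hsum
    rw [classInner_sum_left, classInner_smul_left,
      hres _ (IsCharacter.isClassFunction (IsIrrCharacter.isCharacter (htw l₀))), htwN,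
      classInner_smul_right, IsIrrCharacter.classInner_self hθ, map_natCast, mul_one] at h
    rw [Finset.sum_congr rfl (g := fun l => if tw l = tw l₀ then (1 : ℂ) else 0) fun l _ => by
      split_ifs with hl
      · rw [hl, IsIrrCharacter.classInner_self (htw l₀)]
      · exact IsIrrCharacter.classInner_ne (htw l) (htw l₀) hl, Finset.sum_boole] at h
    rw [sq]
    exact_mod_cast h
  refine ⟨e, C, hepos, hCirr, ?_, ?_, ?_⟩
  · rw [mul_comm, ← smul_eq_mul, ← Finset.sum_const, ← Finset.sum_congr rfl fun φ hφ => hfib φ hφ,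
      ← Finset.card_eq_sum_card_image, Finset.card_univ, ← Nat.card_eq_fintype_card, card_hom hA,
      Subgroup.index_eq_card]
  · have h2 : ∑ l, tw l = ((e ^ 2 : ℕ) : ℂ) • ∑ φ ∈ C, φ := by
      rw [Finset.smul_sum, ← Finset.sum_fiberwise_of_maps_to (t := C)
        (fun l _ => Finset.mem_image_of_mem tw (Finset.mem_univ l))]
      refine Finset.sum_congr rfl fun φ hφ => ?_
      rw [Finset.sum_congr rfl fun l hl => (Finset.mem_filter.mp hl).2, Finset.sum_const, hfib φ hφ,
        Nat.cast_smul_eq_nsmul]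
    rw [hsum] at h2
    have he' : (e : ℂ) ≠ 0 := by exact_mod_cast hepos.ne'
    refine smul_right_injective (T → ℂ) he' ?_
    show (e : ℂ) • Cfsg.indFun N θ = (e : ℂ) • ((e : ℂ) • ∑ φ ∈ C, φ)
    rw [h2, smul_smul, Nat.cast_pow, sq]
  · intro φ hφ
    obtain ⟨l, -, rfl⟩ := Finset.mem_image.mp hφ
    simpa using congrFun (htwN l) 1

/-- An invariant character extends when the index is coprime to the order. -/
theorem exists_extension_of_coprime (hcop : Nat.Coprime (Nat.card N) N.index)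
    {θ : N → ℂ} (hθ : Cfsg.IsIrrCharacter N θ)
    (hinv : ∀ g : T, Cfsg.Agent.Lib.Characters.conjFun N g θ = θ) :
    ∃ χ : T → ℂ, Cfsg.IsIrrCharacter T χ ∧ ∀ n : N, χ n = θ n := by
  have hθc := IsIrrCharacter.isCharacter hθ
  haveI := Fintype.ofFinite N
  obtain ⟨d, hd0, hd, hdvd⟩ := IsIrrCharacter.exists_degree_dvd hθ
  obtain ⟨hdc, hd1⟩ := isCharacter_detChar hθc
  have hinv' : ∀ (g : T) (n : N), θ ⟨g * n * g⁻¹, hN.conj_mem (n : T) n.2 g⟩ = θ n :=
    fun g n => congrFun (hinv g) n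
  have hdinv : ∀ (g : T) (n : N), detChar θ ⟨g * n * g⁻¹, hN.conj_mem (n : T) n.2 g⟩ = detChar θ n := by
    intro g n
    have h := congrFun (detChar_comp (MulAut.conjNormal g : MulAut N).toMonoidHom hθc) n
    rw [show θ ∘ (MulAut.conjNormal g : MulAut N).toMonoidHom = θ from
      (conjFun_eq_comp N g θ).symm.trans (hinv g)] at h
    exact h.symm
  have hord : orderOf (detChar θ) ∣ Nat.card N := by
    obtain ⟨l, hl⟩ := IsCharacter.exists_hom_of_apply_one hdc hd1
    refine orderOf_dvd_of_pow_eq_one (funext fun n => ?_)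
    rw [hl]
    simp only [Pi.pow_apply, Pi.one_apply]
    rw [← Units.val_pow_eq_pow_val, ← map_pow, pow_card_eq_one', map_one, Units.val_one]
  obtain ⟨μ, ⟨hμ, hμ1, hμN, -⟩, -⟩ := exists_linear_extension_coprime hdc hd1 hdinv
    (hcop.symm.coprime_dvd_right hord)
  exact exists_irr_extension_of_det hθ hinv' hd (hcop.symm.coprime_dvd_right hdvd) hμ hμ1 hμN

/-- The decomposition for abelian quotient of coprime order has multiplicity one. -/
theorem exists_decomp_coprime (hcomm : ∀ x y : T, x * y * x⁻¹ * y⁻¹ ∈ N)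
    (hcop : Nat.Coprime (Nat.card N) N.index)
    {θ : N → ℂ} (hθ : Cfsg.IsIrrCharacter N θ)
    (hinv : ∀ g : T, Cfsg.Agent.Lib.Characters.conjFun N g θ = θ) :
    ∃ C : Finset (T → ℂ), (∀ φ ∈ C, Cfsg.IsIrrCharacter T φ) ∧
      C.card = N.index ∧ Cfsg.indFun N θ = ∑ φ ∈ C, φ ∧ ∀ φ ∈ C, φ 1 = θ 1 := by
  classical
  haveI := Fintype.ofFinite N
  obtain ⟨e, C, he, hirr, hcard, hdec, hdeg⟩ := exists_decomp_of_abelian_quot N hcomm hθ hinv
  obtain ⟨χ, hχ, hχN⟩ := exists_extension_of_coprime N hcop hθ hinv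
  have h1 : Cfsg.classInner (Cfsg.indFun N θ) χ = 1 := by
    rw [classInner_indFun N θ (IsCharacter.isClassFunction (IsIrrCharacter.isCharacter hχ)),
      show (fun n : N => χ n) = θ from funext hχN, IsIrrCharacter.classInner_self hθ]
  have hχC : χ ∈ C := by
    by_contra hno
    rw [hdec, classInner_smul_left, classInner_sum_left, Finset.sum_eq_zero (fun φ hφ =>
      IsIrrCharacter.classInner_ne (hirr φ hφ) hχ fun e' => hno (by rw [← e']; exact hφ)), mul_zero] at h1
    exact zero_ne_one h1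
  have he1 : (e : ℂ) = 1 := by
    have h := hdeg χ hχC
    rw [show χ 1 = θ 1 by rw [← hχN]; rfl] at h
    exact mul_right_cancel₀ (IsIrrCharacter.apply_one_ne_zero hθ) (by rw [one_mul, ← h])
  have he2 : e = 1 := by exact_mod_cast he1
  refine ⟨C, hirr, ?_, ?_, fun φ hφ => ?_⟩
  · rw [← hcard, he2]; simp
  · rw [hdec, he1, one_smul]
  · rw [hdeg φ hφ, he1, one_mul]

end Cfsg.Agent.Lib.OddChar
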