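import Cfsg.Agent.Lib.OddChar.IndSys
import Cfsg.Agent.Lib.Characters.OddTIPartition

/-!
The characters not trivial on a central subgroup of a kernel of prime power order.
-/

namespace Cfsg.Agent.Lib.OddChar

open Cfsg.Agent.Lib.Characters
open scoped ComplexConjugate

set_option linter.unusedSectionVars false
set_option linter.style.haveILetI false

universe u v

variable {L : Type u} [Group L] [Fintype L] {G : Type v} [Group G] [Fintype G]

/-- A set of irreducible characters with enough small degrees is coherent. -/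
theorem coherent_of_bound (X : Finset (L → ℂ)) (hirr : ∀ χ ∈ X, Cfsg.IsIrrCharacter L χ) (e : ℕ) (he : 0 < e)
    (d : (L → ℂ) → ℕ) (hdeg : ∀ χ ∈ X, χ 1 = ((e * d χ : ℕ) : ℂ)) (χ₀ χ₁ : L → ℂ) (h₀ : χ₀ ∈ X) (h₁ : χ₁ ∈ X)
    (hne : χ₀ ≠ χ₁) (hd₀ : d χ₀ = 1) (hd₁ : d χ₁ = 1)
    (hbound : ∀ χ ∈ X, 1 < d χ → 2 * d χ < ∑ ψ ∈ X.filter (fun ψ => d ψ < d χ), d ψ ^ 2)
    (τ : (L → ℂ) → (G → ℂ)) (hτ : Cfsg.IsLinearIsometryOn (Cfsg.zspanOn (X : Set (L → ℂ)) {1}ᶜ) τ)
    (hτ1 : ∀ α ∈ Cfsg.zspanOn (X : Set (L → ℂ)) {1}ᶜ, τ α 1 = 0) :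
    Cfsg.IsCoherent (X : Set (L → ℂ)) {1}ᶜ τ := by
  classical
  obtain ⟨hadd, hsmul, hiso, hgen⟩ := hτ
  set S : Set (L → ℂ) := (X : Set (L → ℂ)) with hS
  let ι := {χ : L → ℂ // χ ∈ X}
  let χs : ι → (L → ℂ) := fun i => i.1
  let i₀ : ι := ⟨χ₀, h₀⟩
  let i₁ : ι := ⟨χ₁, h₁⟩
  have hpos : ∀ i : ι, 0 < d i.1 := fun i => Nat.pos_of_ne_zero fun h =>
    IsIrrCharacter.apply_one_ne_zero (hirr i.1 i.2) (by rw [hdeg i.1 i.2, h, mul_zero, Nat.cast_zero])
  have hinner : ∀ i j, classInner (χs i) (χs j) = if i = j then 1 else 0 := by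
    intro i j
    by_cases h : i = j
    · subst h; rw [if_pos rfl]; exact IsIrrCharacter.classInner_self (hirr i.1 i.2)
    · rw [if_neg h]; exact IsIrrCharacter.classInner_ne (hirr i.1 i.2) (hirr j.1 j.2) fun e => h (Subtype.ext e)
  let α : ι → (L → ℂ) := fun i => χs i - (d i.1 : ℂ) • χs i₀
  have hα1 : ∀ i, α i 1 = 0 := fun i => by
    simp only [α, χs, i₀, Pi.sub_apply, Pi.smul_apply, smul_eq_mul, hdeg i.1 i.2, hdeg χ₀ h₀, hd₀]
    push_cast
    ring
  have hαmem : ∀ i, α i ∈ Cfsg.zspanOn S {1}ᶜ := fun i => by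
    refine mem_zspanOn_one.mpr ⟨?_, hα1 i⟩
    simp only [α, Nat.cast_smul_eq_nsmul]
    exact Submodule.sub_mem _ (zspan_mem i.2) (nsmul_mem (zspan_mem i₀.2) _)
  have hτzero : τ 0 = 0 := by
    have := hsmul _ (hαmem i₀) 0
    simpa using this
  have hτsum : ∀ (s : Finset ι) (c : ι → ℤ), (∑ i ∈ s, c i • α i) ∈ Cfsg.zspanOn S {1}ᶜ ∧
      τ (∑ i ∈ s, c i • α i) = ∑ i ∈ s, c i • τ (α i) := by
    intro s c
    have hm : ∀ i, c i • α i ∈ Cfsg.zspanOn S {1}ᶜ := fun i => zspanOn_smul _ (hαmem i)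
    induction s using Finset.induction with
    | empty =>
      simp only [Finset.sum_empty]
      exact ⟨⟨Submodule.zero_mem _, fun _ _ => rfl⟩, hτzero⟩
    | insert i s hi ih =>
      rw [Finset.sum_insert hi, Finset.sum_insert hi, hadd _ (hm i) _ ih.1, hsmul _ (hαmem i), ih.2]
      exact ⟨zspanOn_add (hm i) ih.1, rfl⟩
  have hA0 : τ (α i₀) = 0 := by
    rw [show α i₀ = 0 by simp [α, χs, i₀, hd₀], hτzero]
  obtain ⟨θ, hθgen, hθ, hAθ⟩ := coherent_of_degree_bound (fun i : ι => d i.1) i₀ hd₀ hpos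
    (fun i => τ (α i)) hA0 (fun i => hgen _ (hαmem i)) (fun i => hτ1 _ (hαmem i))
    (fun i j hi hj => by
      rw [hiso _ (hαmem i) _ (hαmem j)]
      simp only [α, classInner_sub_left, classInner_sub_right, classInner_smul_left,
        classInner_smul_right, hinner, map_natCast, if_pos, if_neg hi, if_neg (Ne.symm hj)]
      push_cast
      ring)
    ⟨i₁, fun h => hne (congrArg Subtype.val h).symm, hd₁⟩
    (fun i hi => by
      refine lt_of_lt_of_le (hbound i.1 i.2 hi) (le_of_eq ?_)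
      refine Finset.sum_bij (fun ψ hψ => (⟨ψ, (Finset.mem_filter.mp hψ).1⟩ : ι)) ?_ ?_ ?_ ?_
      · intro ψ hψ; exact Finset.mem_filter.mpr ⟨Finset.mem_univ _, (Finset.mem_filter.mp hψ).2⟩
      · intro a _ b _ h; exact congrArg Subtype.val h
      · intro j hj; exact ⟨j.1, Finset.mem_filter.mpr ⟨j.2, (Finset.mem_filter.mp hj).2⟩, rfl⟩
      · intros; rfl)
  have hrange : S = Set.range χs := by
    ext χ
    exact ⟨fun h => ⟨⟨χ, h⟩, rfl⟩, fun ⟨i, hi⟩ => hi ▸ i.2⟩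
  have hspan : ∀ γ ∈ Cfsg.zspan S, ∃ c : ι → ℤ, γ = ∑ i, c i • χs i := by
    intro γ hγ
    rw [Cfsg.zspan, SetLike.mem_coe, hrange, Submodule.mem_span_range_iff_exists_fun] at hγ
    obtain ⟨c, hc⟩ := hγ
    exact ⟨c, hc.symm⟩
  have hcoef : ∀ (c : ι → ℤ) (j : ι), classInner (∑ i, c i • χs i) (χs j) = (c j : ℂ) := by
    intro c j
    rw [classInner_sum_left, Finset.sum_eq_single j]
    · rw [← Int.cast_smul_eq_zsmul ℂ, classInner_smul_left, hinner, if_pos rfl, mul_one]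
    · intro i _ hij
      rw [← Int.cast_smul_eq_zsmul ℂ, classInner_smul_left, hinner, if_neg hij, mul_zero]
    · exact fun h => absurd (Finset.mem_univ j) h
  let τ₁ : (L → ℂ) → (G → ℂ) := fun γ => ∑ i, classInner γ (χs i) • θ i
  have hτ₁ : ∀ c : ι → ℤ, τ₁ (∑ i, c i • χs i) = ∑ i, c i • θ i := fun c => by
    simp only [τ₁, hcoef]
    exact Finset.sum_congr rfl fun i _ => by rw [Int.cast_smul_eq_zsmul]
  refine ⟨⟨α i₁, hαmem i₁, ?_⟩, τ₁, ⟨?_, ?_, ?_, ?_⟩, ?_⟩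
  · intro h
    have := congrArg (classInner · (χs i₁)) h
    have hne' : i₀ ≠ i₁ := fun h => hne (congrArg Subtype.val h)
    simp [α, classInner_sub_left, classInner_smul_left, hinner, hne'] at this
  · intro γ _ δ _
    simp only [τ₁, classInner_add_left, add_smul, Finset.sum_add_distrib]
  · intro γ _ n
    simp only [τ₁]
    rw [Finset.smul_sum]
    refine Finset.sum_congr rfl fun i _ => ?_
    rw [← Int.cast_smul_eq_zsmul ℂ n γ, classInner_smul_left, mul_smul, Int.cast_smul_eq_zsmul]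
  · intro γ hγ δ hδ
    obtain ⟨c, rfl⟩ := hspan γ hγ
    obtain ⟨c', rfl⟩ := hspan δ hδ
    rw [hτ₁, hτ₁]
    simp only [classInner_sum_left, classInner_sum_right, ← Int.cast_smul_eq_zsmul ℂ,
      classInner_smul_left, classInner_smul_right, hinner, hθ]
  · intro γ hγ
    obtain ⟨c, rfl⟩ := hspan γ hγ
    rw [hτ₁]
    exact IsGeneralizedCharacter.sum _ fun i _ => by
      rw [← Int.cast_smul_eq_zsmul ℂ]
      exact IsGeneralizedCharacter.intCast_smul (hθgen i) _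
  · intro γ hγ
    obtain ⟨c, rfl⟩ := hspan γ hγ.1
    have hsum0 : ∑ i, (c i : ℂ) * (d i.1 : ℂ) = 0 := by
      have h0 := (mem_zspanOn_one.mp hγ).2
      simp only [Finset.sum_apply, zsmul_eq_mul, Pi.mul_apply, Pi.intCast_apply, χs] at h0
      have hI : (e : ℂ) ≠ 0 := by exact_mod_cast he.ne'
      rw [Finset.sum_congr rfl (g := fun i : ι => (e : ℂ) * ((c i : ℂ) * (d i.1 : ℂ)))
        fun i _ => by rw [hdeg i.1 i.2]; push_cast; ring, ← Finset.mul_sum, mul_eq_zero] at h0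
      exact h0.resolve_left hI
    have hrepr : ∑ i, c i • χs i = ∑ i, c i • α i := by
      simp only [α, smul_sub, Finset.sum_sub_distrib, ← Int.cast_smul_eq_zsmul ℂ, smul_smul,
        ← Finset.sum_smul, hsum0, zero_smul, sub_zero]
    rw [hτ₁]
    conv_rhs => rw [hrepr, (hτsum Finset.univ c).2]
    simp only [hAθ, smul_sub, Finset.sum_sub_distrib, ← Int.cast_smul_eq_zsmul ℂ, smul_smul,
      ← Finset.sum_smul, hsum0, zero_smul, sub_zero]

variable (K Z : Subgroup L) [K.Normal] [Z.Normal]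

open scoped Classical in
/-- The irreducible characters that are not trivial on `Z`. -/
noncomputable def offSet [Fintype (IrrCharacter K)] : Finset (L → ℂ) :=
  (Finset.univ.filter fun θ : IrrCharacter K => ¬ Above Z (θ : K → ℂ)).image
    fun θ : IrrCharacter K => Cfsg.indFun K (θ : K → ℂ)

variable {K Z}

open scoped Classical in
theorem coe_offSet [Fintype (IrrCharacter K)] (hZK : Z ≤ K)
    (hirr : ∀ θ : IrrCharacter K, ¬ Above Z (θ : K → ℂ) → Cfsg.IsIrrCharacter L (Cfsg.indFun K (θ : K → ℂ))) :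
    (offSet K Z : Set (L → ℂ)) = {χ : L → ℂ | Cfsg.IsIrrCharacter L χ ∧ ∃ z ∈ Z, χ z ≠ χ 1} := by
  haveI := Fintype.ofFinite K
  ext χ
  simp only [offSet, Finset.coe_image, Set.mem_image, Finset.mem_coe, Finset.mem_filter, Finset.mem_univ,
    true_and, Set.mem_ofPred_eq]
  constructor
  · rintro ⟨θ, hθ, rfl⟩
    refine ⟨hirr θ hθ, ?_⟩
    by_contra hall
    push Not at hall
    refine hθ fun a ha => ?_
    have hne : classInner (fun k : K => Cfsg.indFun K (θ : K → ℂ) k) (θ : K → ℂ) ≠ 0 := by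
      rw [← classInner_indFun_right K _ (isClassFunction_indFun K _)]
      exact indFun_inner_self_ne θ
    obtain ⟨ψ, hψ, hdec⟩ := IsCharacter.exists_add_of_classInner_ne_zero
      (IsCharacter.restrict (IsCharacter.indFun K (irr_isCharacter θ)) K) θ.2 hne
    refine apply_eq_one_of_add (irr_isCharacter θ) hψ ?_
    rw [← hdec]
    simpa using hall _ ha
  · rintro ⟨hχ, z, hz, hne⟩
    obtain ⟨θ, hθ⟩ := IsCharacter.exists_constituent (IsCharacter.restrict (IsIrrCharacter.isCharacter hχ) K)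
      fun h => IsIrrCharacter.apply_one_ne_zero hχ (by simpa using congrFun h 1)
    have hθA : ¬ Above Z (θ : K → ℂ) := by
      intro hA
      apply hne
      have h := restrict_eq_smul_sum K hχ θ.2 hθ
      have hall : ∀ φ ∈ (Set.finite_range fun g : L => Lib.Characters.conjFun K g (θ : K → ℂ)).toFinset,
          φ ⟨z, hZK hz⟩ = φ 1 := by
        intro φ hφ
        obtain ⟨g, rfl⟩ := (Set.Finite.mem_toFinset _).mp hφ
        exact above_conjugate hA g ⟨z, hZK hz⟩ hz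
      have e1 := congrFun h ⟨z, hZK hz⟩
      have e2 := congrFun h 1
      simp only [Pi.smul_apply, Finset.sum_apply, OneMemClass.coe_one] at e1 e2
      rw [e1, e2, Finset.sum_congr rfl hall]
    refine ⟨θ, hθA, by_contra fun hne' => hθ ?_⟩
    rw [← classInner_conj_symm, ← classInner_indFun K _ (IsCharacter.isClassFunction (IsIrrCharacter.isCharacter hχ)),
      IsIrrCharacter.classInner_ne (hirr θ hθA) hχ hne', map_zero]

open scoped Classical in
/-- Coherence of the characters that are not trivial on a central subgroup of the kernel. -/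
theorem coherent_offSet [Fintype (IrrCharacter K)] (hodd : Odd (Nat.card L)) {p N : ℕ} (hp : p.Prime)
    (hcard : Nat.card K = p ^ N) (hcop : Nat.Coprime K.index p) (hZK : Z ≤ K) (hZ1 : Z ≠ ⊥)
    (hZc : ∀ z ∈ Z, ∀ k ∈ K, z * k = k * z)
    (hirr : ∀ θ : IrrCharacter K, ¬ Above Z (θ : K → ℂ) → Cfsg.IsIrrCharacter L (Cfsg.indFun K (θ : K → ℂ)))
    (τ : (L → ℂ) → (G → ℂ))
    (hτ : Cfsg.IsLinearIsometryOn (Cfsg.zspanOn (offSet K Z : Set (L → ℂ)) {1}ᶜ) τ)
    (hτ1 : ∀ α ∈ Cfsg.zspanOn (offSet K Z : Set (L → ℂ)) {1}ᶜ, τ α 1 = 0) :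
    Cfsg.IsCoherent (offSet K Z : Set (L → ℂ)) {1}ᶜ τ := by
  haveI := Fact.mk hp
  set e := K.index with he
  have hepos : 0 < e := Nat.pos_of_ne_zero Subgroup.index_ne_zero_of_finite
  set T := Finset.univ.filter (fun θ : IrrCharacter K => ¬ Above Z (θ : K → ℂ)) with hT
  have hX : offSet K Z = T.image fun θ : IrrCharacter K => Cfsg.indFun K (θ : K → ℂ) := rfl
  have hTc : ∀ θ ∈ T, ∀ ψ : IrrCharacter K,
      Cfsg.indFun K (ψ : K → ℂ) = Cfsg.indFun K (θ : K → ℂ) → ψ ∈ T := fun θ hθ ψ h =>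
    Finset.mem_filter.mpr ⟨Finset.mem_univ _, fun hA => (Finset.mem_filter.mp hθ).2 (above_of_indFun_eq h hA)⟩
  obtain ⟨c, hc⟩ : ∃ c, (Z.subgroupOf K).index = p ^ c := by
    obtain ⟨c, -, hc⟩ := (Nat.dvd_prime_pow hp).mp (hcard ▸ (Z.subgroupOf K).index_dvd_card)
    exact ⟨c, hc⟩
  -- degrees
  have hsq : ∀ θ : IrrCharacter K, degNat θ ^ 2 ≤ p ^ c := by
    intro θ
    have h := sq_mul_card_le θ ⊥ (Z.subgroupOf K) (fun b hb => by rw [Subgroup.mem_bot.mp hb]) fun x hx y => by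
      rw [Subgroup.mem_bot]
      have hxy : x * y = y * x := Subtype.ext (hZc _ (Subgroup.mem_subgroupOf.mp hx) _ y.2)
      rw [hxy]; group
    rw [← (Z.subgroupOf K).index_mul_card, hc] at h
    exact Nat.le_of_mul_le_mul_right h Nat.card_pos
  have hpow : ∀ θ : IrrCharacter K, ∃ i, degNat θ = p ^ i := by
    intro θ
    obtain ⟨t, -, ht, htd⟩ := IsIrrCharacter.exists_degree_dvd θ.2
    rw [← degNat_eq ht, hcard] at htd
    obtain ⟨i, -, hi⟩ := (Nat.dvd_prime_pow hp).mp htd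
    exact ⟨i, hi⟩
  -- a nontrivial character on `Z`
  obtain ⟨z, hz, hz1⟩ : ∃ z ∈ Z, z ≠ (1 : L) := by
    by_contra h
    push Not at h
    exact hZ1 ((Subgroup.eq_bot_iff_forall _).mpr h)
  obtain ⟨θz, hne⟩ := exists_irr_ne_apply_one (G := K) (g := ⟨z, hZK hz⟩) fun h => hz1 (congrArg Subtype.val h)
  have hTne : T.Nonempty := ⟨θz, Finset.mem_filter.mpr ⟨Finset.mem_univ _, fun hA => hne (hA _ hz)⟩⟩
  obtain ⟨θ₀, hθ₀, hmin⟩ := Finset.exists_min_image T degNat hTne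
  obtain ⟨a, ha⟩ := hpow θ₀
  -- the degrees above the smallest one
  set d : (L → ℂ) → ℕ := fun χ => ⌊(χ 1).re⌋₊ / (e * p ^ a) with hd
  have hdval : ∀ θ : IrrCharacter K, ∀ i, degNat θ = p ^ i → a ≤ i →
      d (Cfsg.indFun K (θ : K → ℂ)) = p ^ (i - a) := by
    intro θ i hi hai
    simp only [hd]
    rw [indFun_degree, Complex.natCast_re, Nat.floor_natCast, hi, ← pow_sub_mul_pow p hai, ← mul_assoc,
      mul_comm (e * p ^ (i - a)), mul_comm e (p ^ a), mul_comm e (p ^ (i - a)), ← mul_assoc,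
      Nat.mul_div_mul_right _ _ hepos, Nat.mul_div_cancel_left _ (pow_pos hp.pos _)]
  have hexp : ∀ θ ∈ T, ∃ i, a ≤ i ∧ degNat θ = p ^ i := by
    intro θ hθ
    obtain ⟨i, hi⟩ := hpow θ
    refine ⟨i, ?_, hi⟩
    have := hmin θ hθ
    rw [ha, hi] at this
    exact (Nat.pow_le_pow_iff_right hp.one_lt).mp this
  have hdeg : ∀ χ ∈ offSet K Z, χ 1 = ((e * p ^ a * d χ : ℕ) : ℂ) := by
    intro χ hχ
    obtain ⟨θ, hθ, rfl⟩ := Finset.mem_image.mp hχ
    obtain ⟨i, hai, hi⟩ := hexp θ hθ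
    rw [hdval θ i hi hai, indFun_degree, hi, mul_assoc, ← pow_add, Nat.add_sub_cancel' hai]
  set χ₀ := Cfsg.indFun K (θ₀ : K → ℂ) with hχ₀
  have hχ₀m : χ₀ ∈ offSet K Z := Finset.mem_image_of_mem _ hθ₀
  have hX' := coe_offSet hZK hirr
  have hχ₁m : Cfsg.conjFun χ₀ ∈ offSet K Z := by
    rw [← Finset.mem_coe, hX'] at hχ₀m ⊢
    obtain ⟨hi, w, hw, hwne⟩ := hχ₀m
    exact ⟨IsIrrCharacter.conjugate hi, w, hw, fun h => hwne (RingHom.injective _ h)⟩
  have hne01 : χ₀ ≠ Cfsg.conjFun χ₀ := by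
    intro h
    rw [← Finset.mem_coe, hX'] at hχ₀m
    obtain ⟨hi, w, -, hwne⟩ := hχ₀m
    have := congrArg Subtype.val (eq_trivIrr_of_real hodd ⟨χ₀, hi⟩ fun g => (congrFun h g).symm)
    apply hwne
    simp only at this
    rw [congrFun this w, congrFun this 1]
    simp
  have hd₀ : d χ₀ = 1 := by rw [hdval θ₀ a ha le_rfl, Nat.sub_self, pow_zero]
  refine coherent_of_bound (offSet K Z) (fun χ hχ => ?_) (e * p ^ a) (Nat.mul_pos hepos (pow_pos hp.pos _)) d hdeg
    χ₀ (Cfsg.conjFun χ₀) hχ₀m hχ₁m hne01 hd₀ ?_ ?_ τ hτ hτ1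
  · obtain ⟨θ, hθ, rfl⟩ := Finset.mem_image.mp hχ
    exact hirr θ (Finset.mem_filter.mp hθ).2
  · have h1 := hdeg _ hχ₁m
    rw [show Cfsg.conjFun χ₀ 1 = χ₀ 1 by rw [hχ₀]; simp only [Cfsg.conjFun, indFun_degree, map_natCast],
      hdeg _ hχ₀m, hd₀, Nat.cast_inj] at h1
    exact (Nat.eq_of_mul_eq_mul_left (Nat.mul_pos hepos (pow_pos hp.pos _)) h1).symm
  intro χ hχ hχd
  obtain ⟨θ, hθ, rfl⟩ := Finset.mem_image.mp hχ
  obtain ⟨i, hai, hi⟩ := hexp θ hθ
  rw [hdval θ i hi hai] at hχd ⊢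
  set T' := T.filter (fun ψ => degNat ψ < p ^ i) with hT'
  have hfil : (offSet K Z).filter (fun ψ => d ψ < p ^ (i - a)) =
      T'.image fun θ : IrrCharacter K => Cfsg.indFun K (θ : K → ℂ) := by
    rw [hX, Finset.filter_image]
    refine congrArg (Finset.image _) (Finset.filter_congr fun ψ hψ => ?_)
    obtain ⟨j, haj, hj⟩ := hexp ψ hψ
    rw [hdval ψ j hj haj, hj, Nat.pow_lt_pow_iff_right hp.one_lt, Nat.pow_lt_pow_iff_right hp.one_lt]
    omega
  set D := ∑ ψ ∈ (offSet K Z).filter (fun ψ => d ψ < p ^ (i - a)), d ψ ^ 2 with hD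
  -- the sum of the small squared degrees
  have hlow : ∑ ψ ∈ T', degNat ψ ^ 2 = e * (p ^ (2 * a) * D) := by
    have hT'c : ∀ θ ∈ T', ∀ ψ : IrrCharacter K,
        Cfsg.indFun K (ψ : K → ℂ) = Cfsg.indFun K (θ : K → ℂ) → ψ ∈ T' := fun θ hθ ψ h =>
      Finset.mem_filter.mpr ⟨hTc θ (Finset.mem_filter.mp hθ).1 ψ h,
        (degNat_eq_of_indFun_eq h).le.trans_lt (Finset.mem_filter.mp hθ).2⟩
    have h := sum_wt_image T' hT'c
    have h' : (∑ φ ∈ T'.image (fun θ : IrrCharacter K => Cfsg.indFun K (θ : K → ℂ)), wt φ) =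
        ((e ^ 2 * (p ^ (2 * a) * D) : ℕ) : ℝ) := by
      rw [hD, hfil, Finset.mul_sum, Finset.mul_sum, Nat.cast_sum]
      refine Finset.sum_congr rfl fun φ hφ => ?_
      have hφX : φ ∈ offSet K Z := by
        obtain ⟨ψ, hψ, rfl⟩ := Finset.mem_image.mp hφ
        exact Finset.mem_image_of_mem _ (Finset.mem_filter.mp hψ).1
      rw [wt, hdeg φ hφX]
      rw [← Finset.mem_coe, hX'] at hφX
      rw [IsIrrCharacter.classInner_self hφX.1]
      simp only [Complex.natCast_re, Complex.one_re, div_one]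
      push_cast
      ring
    rw [h', ← Nat.cast_mul, Nat.cast_inj] at h
    refine (Nat.eq_of_mul_eq_mul_left hepos ?_).symm
    rw [← mul_assoc, ← sq]
    exact h
  -- divisibility
  have hdvd : p ^ (2 * i) ∣ ∑ ψ ∈ T', degNat ψ ^ 2 := by
    have htot : ∑ ψ ∈ T, degNat ψ ^ 2 + p ^ c = p ^ N := by
      have h1 := sum_degSq_above (K := K) Z
      rw [show Z.relIndex K = p ^ c from hc] at h1
      have h2 : (Finset.univ.filter fun θ : IrrCharacter K => Above Z (θ : K → ℂ)) =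
          insert (trivIrr K) (aboveSet (K := K) Z) := by
        ext ψ
        by_cases hψ : ψ = trivIrr K
        · subst hψ; simp [Above]
        · simp [hψ, mem_aboveSet]
      have h3 : ∑ θ ∈ Finset.univ.filter (fun θ : IrrCharacter K => Above Z (θ : K → ℂ)), degNat θ ^ 2 = p ^ c := by
        rw [h2, Finset.sum_insert (by simp [mem_aboveSet]), degNat_eq (φ := trivIrr K) (n := 1) (by simp), ← h1]
        ring
      have h4 := sum_degree_sq (G := K)
      simp only [apply_one_eq_degNat, hcard] at h4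
      have h5 : ∑ θ : IrrCharacter K, degNat θ ^ 2 = p ^ N := by exact_mod_cast h4
      rw [← h5, ← Finset.sum_filter_add_sum_filter_not Finset.univ (fun θ : IrrCharacter K => Above Z (θ : K → ℂ)),
        h3, hT, add_comm]
    have hci : 2 * i ≤ c := by
      have := hsq θ
      rw [hi, ← pow_mul, Nat.pow_le_pow_iff_right hp.one_lt] at this
      omega
    have hNc : p ^ c ∣ p ^ N := by
      rw [← hcard, ← hc]; exact Subgroup.index_dvd_card _
    rw [← Finset.sum_filter_add_sum_filter_not T (fun ψ => degNat ψ < p ^ i)] at htot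
    have hrest : p ^ (2 * i) ∣ ∑ ψ ∈ T.filter (fun ψ => ¬ degNat ψ < p ^ i), degNat ψ ^ 2 := by
      refine Finset.dvd_sum fun ψ hψ => ?_
      obtain ⟨j, -, hj⟩ := hexp ψ (Finset.mem_filter.mp hψ).1
      have := (Finset.mem_filter.mp hψ).2
      rw [hj, not_lt, Nat.pow_le_pow_iff_right hp.one_lt] at this
      rw [hj, ← pow_mul]
      exact pow_dvd_pow p (by omega)
    have h6 : p ^ (2 * i) ∣ p ^ c := pow_dvd_pow p hci
    have h7 := h6.trans hNc
    rw [← htot] at h7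
    exact (Nat.dvd_add_left hrest).mp ((Nat.dvd_add_left h6).mp h7)
  rw [hlow] at hdvd
  have hdvd' := (Nat.Coprime.pow_left (2 * i) hcop.symm).dvd_of_dvd_mul_left hdvd
  rw [show 2 * i = 2 * a + 2 * (i - a) by omega, pow_add] at hdvd'
  have hdvd'' := Nat.dvd_of_mul_dvd_mul_left (pow_pos hp.pos _) hdvd'
  have hDpos : 0 < D := by
    refine Finset.sum_pos' (fun _ _ => Nat.zero_le _) ⟨χ₀, Finset.mem_filter.mpr ⟨hχ₀m, ?_⟩, ?_⟩
    · rw [hd₀]; exact hχd
    · rw [hd₀]; norm_num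
  have hge := Nat.le_of_dvd hDpos hdvd''
  have hia : i - a ≠ 0 := fun h => by rw [h, pow_zero] at hχd; omega
  have hp3 : 3 ≤ p := by
    have hN : N ≠ 0 := by
      rintro rfl
      rw [pow_zero, Subgroup.card_eq_one] at hcard
      exact hZ1 (le_bot_iff.mp (hcard ▸ hZK))
    have : Odd p := Odd.of_dvd_nat hodd ((dvd_pow_self p hN).trans (hcard ▸ Subgroup.card_subgroup_dvd_card K))
    obtain ⟨k, hk⟩ := this
    have := hp.two_le
    omega
  have h3 : 3 ≤ p ^ (i - a) := hp3.trans (Nat.le_self_pow hia p)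
  rw [mul_comm 2 (i - a), pow_mul] at hge
  nlinarith

end Cfsg.Agent.Lib.OddChar
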