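import Cfsg.Agent.Lib.Characters.Clifford
import Cfsg.Agent.Lib.Characters.Kernel
import Cfsg.Agent.S1496
import Mathlib.Data.Nat.ChineseRemainder

/-!
Irreducible characters and classes of a normal subgroup fixed by an element of the group.
-/

namespace Cfsg.Agent.Lib.OddChar

open Cfsg.Agent.Lib.Characters

universe u

variable {G : Type u} [Group G] [Finite G] (N : Subgroup G) [hN : N.Normal]

/-- Conjugation by an element, on a normal subgroup. -/
def conjMap (x : G) : N → N := fun n => ⟨x * n * x⁻¹, hN.conj_mem n n.2 x⟩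

/-- Brauer's permutation lemma for conjugation by an element. -/
theorem card_fixed_irr_eq (x : G) :
    Nat.card {θ : IrrCharacter N // Cfsg.Agent.Lib.Characters.conjFun N x (θ : N → ℂ) = θ} =
      Nat.card {C : ConjClasses N // ∀ n, ConjClasses.mk n = C → IsConj (conjMap N x n) n} := by
  rw [← card_fixed_irr (fun θ : IrrCharacter N =>
    (⟨Cfsg.Agent.Lib.Characters.conjFun N x θ, IsIrrCharacter.conjFun N θ.2 x⟩ : IrrCharacter N))
    (conjMap N x) fun θ g => rfl]
  exact Nat.card_congr (Equiv.subtypeEquivRight fun θ =>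
    ⟨fun h => Subtype.ext h, fun h => congrArg Subtype.val h⟩)

/-- If the class of `c` is fixed, some element of the coset `N * x` centralises `c`. -/
theorem exists_comm_of_fixed {x : G} {c : N} (h : IsConj (conjMap N x c) c) :
    ∃ k ∈ N, Commute (k * x) (c : G) := by
  obtain ⟨k, hk⟩ := isConj_iff.mp h
  have hk' : (k : G) * (x * c * x⁻¹) * (k : G)⁻¹ = c := congrArg Subtype.val hk
  refine ⟨k, k.2, ?_⟩
  calc (k : G) * x * c = ((k : G) * (x * c * x⁻¹) * (k : G)⁻¹) * (k * x) := by group
    _ = c * ((k : G) * x) := by rw [hk']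

/-- A class fixed by an element of coprime order contains an element fixed by it. -/
theorem exists_fixed_rep {x : G} (hx : Nat.Coprime (orderOf x) (Nat.card N)) {c : N}
    (h : IsConj (conjMap N x c) c) : ∃ y ∈ N, Commute x (y * c * y⁻¹) := by
  obtain ⟨k, hk, hc⟩ := exists_comm_of_fixed N h
  have hxn : x ∈ Subgroup.normalizer (N : Set G) := by
    rw [Subgroup.normalizer_eq_top_iff.mpr hN]; trivial
  obtain ⟨y, hy, d, hd, hdx, he⟩ := Cfsg.Agent.S1496.result N x hxn hx k hk
  refine ⟨y, hy, ?_⟩
  have h1 : Commute (d * x) (y * c * y⁻¹) := by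
    rw [← he]
    calc y * (k * x) * y⁻¹ * (y * c * y⁻¹) = y * ((k * x) * c) * y⁻¹ := by group
      _ = y * ((c : G) * (k * x)) * y⁻¹ := by rw [hc.eq]
      _ = _ := by group
  obtain ⟨n, hn1, hn2⟩ := Nat.chineseRemainder hx 1 0
  have e : (d * x) ^ n = x := by
    rw [(show Commute d x from hdx).mul_pow]
    have e1 : x ^ n = x := by
      conv_rhs => rw [← pow_one x]
      exact pow_eq_pow_iff_modEq.mpr hn1
    have e2 : d ^ n = 1 := by
      rw [← orderOf_dvd_iff_pow_eq_one]
      exact (N.orderOf_dvd_natCard hd).trans (Nat.modEq_zero_iff_dvd.mp hn2)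
    rw [e1, e2, one_mul]
  exact e ▸ h1.pow_left n

/-- If conjugation fixes only the trivial class, it fixes only the principal character. -/
theorem eq_one_of_fixed {x : G} (h : ∀ c : N, IsConj (conjMap N x c) c → c = 1) {θ : N → ℂ}
    (hθ : Cfsg.IsIrrCharacter N θ) (hfix : Cfsg.Agent.Lib.Characters.conjFun N x θ = θ) :
    θ = fun _ => 1 := by
  haveI := Fintype.ofFinite N
  haveI : Finite (ConjClasses N) := Finite.of_surjective _ ConjClasses.mk_surjective
  have hle : Nat.card {C : ConjClasses N // ∀ n, ConjClasses.mk n = C → IsConj (conjMap N x n) n} ≤ 1 := by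
    rw [Finite.card_le_one_iff_subsingleton]
    refine ⟨fun C D => Subtype.ext ?_⟩
    obtain ⟨c, hc⟩ := ConjClasses.mk_surjective C.1
    obtain ⟨d, hd⟩ := ConjClasses.mk_surjective D.1
    rw [← hc, ← hd, h c (C.2 c hc), h d (D.2 d hd)]
  rw [← card_fixed_irr_eq, Finite.card_le_one_iff_subsingleton] at hle
  have := hle.elim ⟨⟨θ, hθ⟩, hfix⟩ ⟨trivIrr N, funext fun n => rfl⟩
  exact congrArg (fun t => (t.1 : IrrCharacter N).1) this

end Cfsg.Agent.Lib.OddChar
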