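import Cfsg.Agent.Lib.Characters.Ortho
import Cfsg.Prelude.Def_OddOrderChar
import Mathlib.LinearAlgebra.LinearIndependent.Lemmas

/-!
Tools for extending coherent isometries: Bessel identity, linear extension from an orthogonal set.
-/

namespace Cfsg.Agent.Lib.OddChar

open Cfsg.Agent.Lib.Characters
open scoped ComplexConjugate

set_option linter.unusedSectionVars false
set_option linter.style.haveILetI false

universe u v

variable {G : Type v} [Group G] [Fintype G] {L : Type u} [Group L] [Fintype L]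

/-- Bessel: the residual of `x` after projecting on an orthogonal family with real coefficients. -/
theorem bessel_resid {ι : Type*} [Fintype ι] [DecidableEq ι] (e : ι → G → ℂ) (N : ι → ℝ)
    (hN : ∀ i, N i ≠ 0) (hO : ∀ i j, classInner (e i) (e j) = if i = j then (N i : ℂ) else 0)
    (x : G → ℂ) (V : ℝ) (hV : classInner x x = (V : ℂ)) (c : ι → ℝ)
    (hc : ∀ i, classInner x (e i) = (c i : ℂ)) :
    classInner (x - ∑ i, ((c i / N i : ℝ) : ℂ) • e i) (x - ∑ i, ((c i / N i : ℝ) : ℂ) • e i) =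
      ((V - ∑ i, c i ^ 2 / N i : ℝ) : ℂ) := by
  set k : ι → ℂ := fun i => ((c i / N i : ℝ) : ℂ) with hk
  have hk' : ∀ i, conj (k i) = k i := fun i => Complex.conj_ofReal _
  have h1 : classInner x (∑ i, k i • e i) = ((∑ i, c i ^ 2 / N i : ℝ) : ℂ) := by
    rw [classInner_sum_right, Complex.ofReal_sum]
    refine Finset.sum_congr rfl fun i _ => ?_
    rw [classInner_smul_right, hk', hc, hk]
    push_cast
    ring
  have h2 : classInner (∑ i, k i • e i) x = ((∑ i, c i ^ 2 / N i : ℝ) : ℂ) := by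
    rw [← classInner_conj_symm, h1, Complex.conj_ofReal]
  have h3 : classInner (∑ i, k i • e i) (∑ i, k i • e i) = ((∑ i, c i ^ 2 / N i : ℝ) : ℂ) := by
    rw [classInner_sum_left, Complex.ofReal_sum]
    refine Finset.sum_congr rfl fun i _ => ?_
    rw [classInner_sum_right, Finset.sum_eq_single i]
    · rw [classInner_smul_left, classInner_smul_right, hk', hO, if_pos rfl, hk]
      have : (N i : ℂ) ≠ 0 := by exact_mod_cast hN i
      push_cast
      field_simp
    · intro j _ hj
      rw [classInner_smul_left, classInner_smul_right, hO, if_neg (Ne.symm hj), mul_zero, mul_zero]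
    · exact fun h => absurd (Finset.mem_univ _) h
  rw [classInner_sub_left, classInner_sub_right, classInner_sub_right, hV, h1, h2, h3]
  push_cast
  ring

theorem bessel_le {ι : Type*} [Fintype ι] [DecidableEq ι] (e : ι → G → ℂ) (N : ι → ℝ)
    (hN : ∀ i, N i ≠ 0) (hO : ∀ i j, classInner (e i) (e j) = if i = j then (N i : ℂ) else 0)
    (x : G → ℂ) (V : ℝ) (hV : classInner x x = (V : ℂ)) (c : ι → ℝ)
    (hc : ∀ i, classInner x (e i) = (c i : ℂ)) : ∑ i, c i ^ 2 / N i ≤ V := by
  have := classInner_self_re_nonneg (x - ∑ i, ((c i / N i : ℝ) : ℂ) • e i)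
  rw [bessel_resid e N hN hO x V hV c hc, Complex.ofReal_re] at this
  linarith

theorem bessel_eq {ι : Type*} [Fintype ι] [DecidableEq ι] (e : ι → G → ℂ) (N : ι → ℝ)
    (hN : ∀ i, N i ≠ 0) (hO : ∀ i j, classInner (e i) (e j) = if i = j then (N i : ℂ) else 0)
    (x : G → ℂ) (V : ℝ) (hV : classInner x x = (V : ℂ)) (c : ι → ℝ)
    (hc : ∀ i, classInner x (e i) = (c i : ℂ)) (heq : V ≤ ∑ i, c i ^ 2 / N i) :
    x = ∑ i, ((c i / N i : ℝ) : ℂ) • e i := by
  refine sub_eq_zero.mp (classInner_self_eq_zero ?_)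
  rw [bessel_resid e N hN hO x V hV c hc, le_antisymm heq (bessel_le e N hN hO x V hV c hc), sub_self,
    Complex.ofReal_zero]

/-- A pairwise orthogonal set of functions of nonzero norm is finite. -/
theorem finite_of_orthogonal {S : Set (L → ℂ)}
    (horth : ∀ χ ∈ S, ∀ φ ∈ S, χ ≠ φ → classInner χ φ = 0) (hne : ∀ χ ∈ S, χ ≠ 0) : S.Finite := by
  haveI : Finite S := by
    refine LinearIndependent.finite (R := ℂ) (f := fun χ : S => (χ : L → ℂ)) ?_
    rw [linearIndependent_iff']
    intro s g hg i hi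
    have h := congrArg (fun f => classInner f (i : L → ℂ)) hg
    simp only [classInner_sum_left, classInner_smul_left, classInner_zero_left] at h
    rw [Finset.sum_eq_single i (fun j _ hj => by
        rw [horth _ j.2 _ i.2 fun e => hj (Subtype.ext e), mul_zero])
      (fun h => absurd hi h)] at h
    exact (mul_eq_zero.mp h).resolve_right fun h0 => hne _ i.2 (classInner_self_eq_zero h0)
  exact Set.toFinite S

/-- A map linear on everything with prescribed values on an orthogonal finite set. -/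
theorem exists_linear_ext {S : Set (L → ℂ)}
    (horth : ∀ χ ∈ S, ∀ φ ∈ S, χ ≠ φ → classInner χ φ = 0) (hne : ∀ χ ∈ S, χ ≠ 0)
    (f : (L → ℂ) → (G → ℂ)) :
    ∃ T : (L → ℂ) →ₗ[ℂ] (G → ℂ), ∀ χ ∈ S, T χ = f χ := by
  classical
  haveI := (finite_of_orthogonal horth hne).fintype
  refine ⟨{ toFun := fun α => ∑ φ : S, (classInner α φ / classInner (φ : L → ℂ) φ) • f φ
            map_add' := fun α β => by
              simp only [classInner_add_left, add_div, add_smul, Finset.sum_add_distrib]
            map_smul' := fun c α => by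
              simp only [classInner_smul_left, RingHom.id_apply, Finset.smul_sum, smul_smul, mul_div_assoc] },
    fun χ hχ => ?_⟩
  show ∑ φ : S, (classInner χ φ / classInner (φ : L → ℂ) φ) • f φ = f χ
  rw [Finset.sum_eq_single (⟨χ, hχ⟩ : S)]
  · rw [div_self fun h => hne χ hχ (classInner_self_eq_zero h), one_smul]
  · intro φ _ hφ
    rw [horth χ hχ φ φ.2 fun e => hφ (Subtype.ext e.symm), zero_div, zero_smul]
  · exact fun h => absurd (Finset.mem_univ _) h

/-- Checking a linear isometry on a generating set. -/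
theorem isometry_of_gens {S : Set (L → ℂ)} (T : (L → ℂ) →ₗ[ℂ] (G → ℂ))
    (hinner : ∀ χ ∈ S, ∀ φ ∈ S, classInner (T χ) (T φ) = classInner χ φ)
    (hgen : ∀ χ ∈ S, IsGeneralizedCharacter G (T χ)) :
    IsLinearIsometryOn (zspan S) (fun α => T α) := by
  refine ⟨fun α _ β _ => T.map_add α β, fun α _ n => map_zsmul T n α, ?_, ?_⟩
  · intro α hα β hβ
    induction hα using Submodule.span_induction with
    | mem x hx =>
      induction hβ using Submodule.span_induction with
      | mem y hy => exact hinner x hx y hy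
      | zero => simp
      | add y z _ _ hy hz => simp only [map_add, classInner_add_right, hy, hz]
      | smul n y _ hy =>
        simp only [← Int.cast_smul_eq_zsmul ℂ, map_smul, classInner_smul_right, hy]
    | zero => simp
    | add y z _ _ hy hz => simp only [map_add, classInner_add_left, hy, hz]
    | smul n y _ hy => simp only [← Int.cast_smul_eq_zsmul ℂ, map_smul, classInner_smul_left, hy]
  · intro α hα
    induction hα using Submodule.span_induction with
    | mem x hx => exact hgen x hx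
    | zero => simpa using IsCharacter.isGeneralizedCharacter (G := G) isCharacter_zero
    | add y z _ _ hy hz => simpa using IsGeneralizedCharacter.add hy hz
    | smul n y _ hy =>
      simpa [← Int.cast_smul_eq_zsmul ℂ] using IsGeneralizedCharacter.intCast_smul hy n

theorem mem_zspanOn_one {S : Set (L → ℂ)} {α : L → ℂ} :
    α ∈ zspanOn S ({1}ᶜ : Set L) ↔ α ∈ zspan S ∧ α 1 = 0 := by
  refine ⟨fun h => ⟨h.1, h.2 1 (by simp)⟩, fun h => ⟨h.1, fun x hx => ?_⟩⟩
  have : x = 1 := by simpa using hx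
  rw [this, h.2]

theorem zspanOn_add {S : Set (L → ℂ)} {A : Set L} {α β : L → ℂ} (hα : α ∈ zspanOn S A)
    (hβ : β ∈ zspanOn S A) : α + β ∈ zspanOn S A :=
  ⟨Submodule.add_mem _ hα.1 hβ.1, fun x hx => by simp [hα.2 x hx, hβ.2 x hx]⟩

theorem zspanOn_smul {S : Set (L → ℂ)} {A : Set L} {α : L → ℂ} (n : ℤ) (hα : α ∈ zspanOn S A) :
    n • α ∈ zspanOn S A :=
  ⟨Submodule.smul_mem _ _ hα.1, fun x hx => by simp [hα.2 x hx]⟩

theorem zspanOn_sub {S : Set (L → ℂ)} {A : Set L} {α β : L → ℂ} (hα : α ∈ zspanOn S A)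
    (hβ : β ∈ zspanOn S A) : α - β ∈ zspanOn S A :=
  ⟨Submodule.sub_mem _ hα.1 hβ.1, fun x hx => by simp [hα.2 x hx, hβ.2 x hx]⟩

theorem zspanOn_mono {S T : Set (L → ℂ)} {A : Set L} (h : S ⊆ T) : zspanOn S A ⊆ zspanOn T A :=
  fun _ hα => ⟨Submodule.span_mono h hα.1, hα.2⟩

theorem iso_sub {E : Set (L → ℂ)} {τ : (L → ℂ) → (G → ℂ)} (hτ : IsLinearIsometryOn E τ)
    {α β : L → ℂ} (hα : α ∈ E) (hβ : β ∈ E) (hβ' : -β ∈ E) : τ (α - β) = τ α - τ β := by
  have h : τ (-β) = -τ β := by simpa using hτ.2.1 β hβ (-1)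
  rw [sub_eq_add_neg, hτ.1 α hα _ hβ', h, sub_eq_add_neg]

theorem iso_smul_nat {E : Set (L → ℂ)} {τ : (L → ℂ) → (G → ℂ)} (hτ : IsLinearIsometryOn E τ)
    {α : L → ℂ} (hα : α ∈ E) (n : ℕ) : τ ((n : ℂ) • α) = (n : ℂ) • τ α := by
  have h := hτ.2.1 α hα n
  simpa [← Int.cast_smul_eq_zsmul ℂ] using h

/-- Coefficients of a virtual character against an orthonormal set with prescribed pairing with the sum. -/
theorem half_coef {R : Finset (G → ℂ)} (hgen : ∀ α ∈ R, IsGeneralizedCharacter G α)
    {θ : G → ℂ} (hθ : IsGeneralizedCharacter G θ) {n : ℕ}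
    (hsum : classInner θ (∑ α ∈ R, α) = (n : ℂ)) :
    ∃ a : R → ℤ, (∀ α : R, classInner θ α = (a α : ℂ)) ∧ (∑ α, a α = n) ∧ (n : ℤ) ≤ ∑ α, a α ^ 2 := by
  choose a ha using fun α : R => IsGeneralizedCharacter.exists_classInner_int hθ (hgen α α.2)
  have hs : ∑ α, a α = n := by
    rw [← Finset.sum_coe_sort, classInner_sum_right] at hsum
    simp only [ha] at hsum
    exact_mod_cast hsum
  refine ⟨a, ha, hs, hs ▸ Finset.sum_le_sum fun α _ => ?_⟩
  rcases le_or_gt (a α) 0 with h | h <;> nlinarith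

/-- Norm of a nonzero character. -/
theorem char_norm {χ : L → ℂ} (hχ : IsCharacter L χ) (h0 : χ ≠ 0) :
    ∃ n : ℕ, 0 < n ∧ classInner χ χ = (n : ℂ) := by
  obtain ⟨n, hn⟩ := IsCharacter.exists_classInner_nat hχ hχ
  refine ⟨n, Nat.pos_of_ne_zero fun h => h0 (classInner_self_eq_zero ?_), hn⟩
  rw [hn, h, Nat.cast_zero]

end Cfsg.Agent.Lib.OddChar
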