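import Cfsg.Agent.Lib.OddChar.CohExt

/-!
Basic consequences of the axioms of a coherence system.
-/

namespace Cfsg.Agent.Lib.OddChar

open Cfsg.Agent.Lib.Characters
open scoped ComplexConjugate

set_option linter.unusedSectionVars false
set_option linter.style.haveILetI false

universe u v

variable {L : Type u} [Group L] [Fintype L] {G : Type v} [Group G] [Fintype G]
  {S : Set (L → ℂ)} {τ : (L → ℂ) → (G → ℂ)} {R : (L → ℂ) → Finset (G → ℂ)}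
  (hS : Cfsg.IsCoherenceSystem S τ R)

include hS

omit hS in
theorem conjFun_conjFun (χ : L → ℂ) : Cfsg.conjFun (Cfsg.conjFun χ) = χ := by
  funext x; simp [Cfsg.conjFun]

theorem sys_ne_zero {χ : L → ℂ} (hχ : χ ∈ S) : χ ≠ 0 := fun h =>
  hS.conj_ne χ hχ (by subst h; funext x; simp [Cfsg.conjFun])

theorem sys_norm {χ : L → ℂ} (hχ : χ ∈ S) :
    ∃ n : ℕ, 0 < n ∧ classInner χ χ = (n : ℂ) ∧ classInner (Cfsg.conjFun χ) (Cfsg.conjFun χ) = (n : ℂ) := by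
  obtain ⟨n, hn, h⟩ := char_norm (hS.isCharacter χ hχ) (sys_ne_zero hS hχ)
  exact ⟨n, hn, h, (classInner_conj_conj χ χ).trans h⟩

theorem sys_orth_conj {χ : L → ℂ} (hχ : χ ∈ S) :
    classInner χ (Cfsg.conjFun χ) = 0 ∧ classInner (Cfsg.conjFun χ) χ = 0 :=
  ⟨hS.orthogonal _ hχ _ (hS.conj_mem χ hχ) (hS.conj_ne χ hχ).symm,
    hS.orthogonal _ (hS.conj_mem χ hχ) _ hχ (hS.conj_ne χ hχ)⟩

theorem sys_apply_one {χ : L → ℂ} (hχ : χ ∈ S) :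
    ∃ d : ℕ, χ 1 = (d : ℂ) ∧ Cfsg.conjFun χ 1 = (d : ℂ) := by
  obtain ⟨d, hd⟩ := IsCharacter.exists_apply_one (hS.isCharacter χ hχ)
  exact ⟨d, hd, by simp [Cfsg.conjFun, hd]⟩

theorem sys_diff_mem {χ : L → ℂ} (hχ : χ ∈ S) : χ - Cfsg.conjFun χ ∈ zspanOn S {1}ᶜ := by
  obtain ⟨d, hd, hd'⟩ := sys_apply_one hS hχ
  exact mem_zspanOn_one.mpr ⟨Submodule.sub_mem _ (Submodule.subset_span hχ)
    (Submodule.subset_span (hS.conj_mem χ hχ)), by simp [hd, hd']⟩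

theorem sys_sum_norm {χ : L → ℂ} (hχ : χ ∈ S) {n : ℕ} (hn : classInner χ χ = (n : ℂ)) :
    classInner (∑ α ∈ R χ, α) (∑ α ∈ R χ, α) = ((2 * n : ℕ) : ℂ) := by
  obtain ⟨m, -, hm, hm'⟩ := sys_norm hS hχ
  rw [← hS.sum_eq χ hχ, hS.isometry.2.2.1 _ (sys_diff_mem hS hχ) _ (sys_diff_mem hS hχ),
    classInner_sub_left, classInner_sub_right, classInner_sub_right, (sys_orth_conj hS hχ).1,
    (sys_orth_conj hS hχ).2, hm', ← hm, hn]
  push_cast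
  ring

theorem sys_R_disjoint {χ φ : L → ℂ} (hχ : χ ∈ S) (hφ : φ ∈ S) (h1 : φ ≠ χ)
    (h2 : φ ≠ Cfsg.conjFun χ) {α β : G → ℂ} (hα : α ∈ R φ) (hβ : β ∈ R χ) : classInner α β = 0 :=
  hS.disjoint χ hχ φ hφ (hS.orthogonal _ hφ _ hχ h1)
    (hS.orthogonal _ hφ _ (hS.conj_mem χ hχ) h2) α hα β hβ

end Cfsg.Agent.Lib.OddChar
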