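import Cfsg.Agent.Lib.OddChar.IndSys
import Cfsg.Agent.S1516
import Cfsg.Agent.S1517

/-!
Enlarging and restricting coherent sets.
-/

namespace Cfsg.Agent.Lib.OddChar

open Cfsg.Agent.Lib.Characters

set_option linter.unusedSectionVars false
set_option linter.style.haveILetI false

universe u v

variable {L : Type u} [Group L] [Fintype L] {G : Type v} [Group G] [Fintype G]
  {S : Set (L → ℂ)} {τ : (L → ℂ) → (G → ℂ)} {R : (L → ℂ) → Finset (G → ℂ)}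

theorem isometryOn_mono {E F : Set (L → ℂ)} (hEF : E ⊆ F) (h : Cfsg.IsLinearIsometryOn F τ) :
    Cfsg.IsLinearIsometryOn E τ :=
  ⟨fun α hα β hβ => h.1 α (hEF hα) β (hEF hβ), fun α hα n => h.2.1 α (hEF hα) n,
    fun α hα β hβ => h.2.2.1 α (hEF hα) β (hEF hβ), fun α hα => h.2.2.2 α (hEF hα)⟩

/-- A coherence system restricts to subsets closed under conjugation. -/
theorem system_restrict (hS : Cfsg.IsCoherenceSystem S τ R) {T : Set (L → ℂ)} (hT : T ⊆ S)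
    (hTne : T.Nonempty) (hTc : ∀ φ ∈ T, Cfsg.conjFun φ ∈ T) : Cfsg.IsCoherenceSystem T τ R where
  nonempty := hTne
  isCharacter := fun χ hχ => hS.isCharacter χ (hT hχ)
  conj_mem := hTc
  conj_ne := fun χ hχ => hS.conj_ne χ (hT hχ)
  isometry := isometryOn_mono (zspanOn_mono hT) hS.isometry
  map_one := fun α hα => hS.map_one α (zspanOn_mono hT hα)
  orthogonal := fun χ hχ φ hφ => hS.orthogonal χ (hT hχ) φ (hT hφ)
  orthonormal := fun χ hχ => hS.orthonormal χ (hT hχ)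
  virtual := fun χ hχ => hS.virtual χ (hT hχ)
  sum_eq := fun χ hχ => hS.sum_eq χ (hT hχ)
  disjoint := fun χ hχ φ hφ => hS.disjoint χ (hT hχ) φ (hT hφ)

/-- A coherent set stays coherent on subsets with a nonzero combination of degree zero. -/
theorem coherent_mono {A : Set L} {T U : Set (L → ℂ)} (hTU : T ⊆ U) (h : Cfsg.IsCoherent U A τ)
    (hne : ∃ α ∈ Cfsg.zspanOn T A, α ≠ 0) : Cfsg.IsCoherent T A τ := by
  obtain ⟨-, τ₁, hτ₁, hag⟩ := h
  exact ⟨hne, τ₁, isometryOn_mono (Submodule.span_mono hTU) hτ₁,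
    fun α hα => hag α (zspanOn_mono hTU hα)⟩

theorem exists_ne_zero_of_mem (hS : Cfsg.IsCoherenceSystem S τ R) {T : Set (L → ℂ)} (hT : T ⊆ S)
    {χ : L → ℂ} (hχ : χ ∈ T) (hχc : Cfsg.conjFun χ ∈ T) :
    ∃ α ∈ Cfsg.zspanOn T {1}ᶜ, α ≠ 0 := by
  obtain ⟨d, hd, hd'⟩ := sys_apply_one hS (hT hχ)
  exact ⟨χ - Cfsg.conjFun χ, mem_zspanOn_one.mpr ⟨Submodule.sub_mem _ (Submodule.subset_span hχ)
    (Submodule.subset_span hχc), by simp [hd, hd']⟩, sub_ne_zero.mpr (hS.conj_ne χ (hT hχ)).symm⟩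

theorem wt_conjFun (hS : Cfsg.IsCoherenceSystem S τ R) {φ : L → ℂ} (hφ : φ ∈ S) :
    (Cfsg.conjFun φ 1).re = (φ 1).re := by
  obtain ⟨d, hd, hd'⟩ := sys_apply_one hS hφ
  rw [hd, hd']

open scoped Classical in
/-- Adding the members one pair at a time, smaller degrees first. -/
theorem coherent_grow (hS : Cfsg.IsCoherenceSystem S τ R) (T : Finset (L → ℂ)) (hT : (T : Set (L → ℂ)) ⊆ S)
    (hTc : ∀ φ ∈ T, Cfsg.conjFun φ ∈ T) (X₀ : Finset (L → ℂ)) (hXT : X₀ ⊆ T)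
    (hX₀c : ∀ φ ∈ X₀, Cfsg.conjFun φ ∈ X₀) (hcoh : Cfsg.IsCoherent (X₀ : Set (L → ℂ)) {1}ᶜ τ)
    (χ₁ : L → ℂ) (hχ₁ : χ₁ ∈ X₀) (d₁ : ℕ) (hd₁ : χ₁ 1 = (d₁ : ℂ))
    (hstep : ∀ φ ∈ T, φ ∉ X₀ → ∀ X : Finset (L → ℂ), X₀ ⊆ X → X ⊆ T →
      (∀ ψ ∈ T, (ψ 1).re < (φ 1).re → ψ ∈ X) →
      ∃ k : ℕ, φ 1 = ((k * d₁ : ℕ) : ℂ) ∧ 2 * (φ 1).re * (d₁ : ℝ) < ∑ ψ ∈ X, wt ψ) :
    Cfsg.IsCoherent (T : Set (L → ℂ)) {1}ᶜ τ := by
  suffices h : ∀ (n : ℕ) (X : Finset (L → ℂ)), (T \ X).card ≤ n → X₀ ⊆ X → X ⊆ T →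
      (∀ φ ∈ X, Cfsg.conjFun φ ∈ X) → Cfsg.IsCoherent (X : Set (L → ℂ)) {1}ᶜ τ →
      Cfsg.IsCoherent (T : Set (L → ℂ)) {1}ᶜ τ from
    h _ X₀ le_rfl subset_rfl hXT hX₀c hcoh
  intro n
  induction n with
  | zero =>
    intro X hn _ hX _ hc
    rwa [subset_antisymm hX (Finset.sdiff_eq_empty_iff_subset.mp (Finset.card_eq_zero.mp (Nat.le_zero.mp hn)))] at hc
  | succ n ih =>
    intro X hn h0 hX hXc hc
    rcases (T \ X).eq_empty_or_nonempty with he | hne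
    · rwa [subset_antisymm hX (Finset.sdiff_eq_empty_iff_subset.mp he)] at hc
    obtain ⟨φ, hφ, hmin⟩ := Finset.exists_min_image (T \ X) (fun ψ => (ψ 1).re) hne
    rw [Finset.mem_sdiff] at hφ
    obtain ⟨k, hk, hineq⟩ := hstep φ hφ.1 (fun h => hφ.2 (h0 h)) X h0 hX fun ψ hψ hlt => by
      by_contra hψX
      exact absurd (hmin ψ (Finset.mem_sdiff.mpr ⟨hψ, hψX⟩)) (not_le.mpr hlt)
    have hφc : Cfsg.conjFun φ ∉ X := fun h => hφ.2 (by simpa [conjFun_conjFun] using hXc _ h)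
    let d : (L → ℂ) → ℕ := fun ψ => ⌊(ψ 1).re⌋₊
    let m : (L → ℂ) → ℕ := fun ψ => ⌊(classInner ψ ψ).re⌋₊
    have hd : ∀ ψ ∈ S, ψ 1 = (d ψ : ℂ) := fun ψ hψ => by
      obtain ⟨a, ha, -⟩ := sys_apply_one hS hψ
      simp [d, ha]
    have hm : ∀ ψ ∈ S, classInner ψ ψ = (m ψ : ℂ) := fun ψ hψ => by
      obtain ⟨a, -, ha, -⟩ := sys_norm hS hψ
      simp [m, ha]
    have hstep' := Cfsg.Agent.S1516.result S τ R hS d m hd hm X (fun ψ hψ => hT (hX hψ)) hXc hc φ (hT hφ.1)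
      hφ.2 hφc χ₁ (h0 hχ₁) (by
        have e1 : d χ₁ = d₁ := by simp [d, hd₁]
        have e2 : d φ = k * d₁ := by simp [d, hk, ← Nat.cast_mul]
        rw [e1, e2]; exact dvd_mul_left _ _) (by
        have e1 : (d φ : ℝ) = (φ 1).re := by rw [hd φ (hT hφ.1), Complex.natCast_re]
        have e2 : (d χ₁ : ℝ) = d₁ := by simp [d, hd₁]
        rw [e1, e2]
        refine lt_of_lt_of_le hineq (le_of_eq (Finset.sum_congr rfl fun ψ hψ => ?_))
        rw [wt, hd ψ (hT (hX hψ)), hm ψ (hT (hX hψ)), Complex.natCast_re, Complex.natCast_re])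
    refine ih (X ∪ {φ, Cfsg.conjFun φ}) ?_ (h0.trans Finset.subset_union_left) ?_ ?_ ?_
    · refine Nat.lt_succ_iff.mp (lt_of_lt_of_le (Finset.card_lt_card ?_) hn)
      refine Finset.ssubset_iff_subset_ne.mpr ⟨Finset.sdiff_subset_sdiff subset_rfl Finset.subset_union_left, fun e => ?_⟩
      have : φ ∈ T \ (X ∪ {φ, Cfsg.conjFun φ}) := e ▸ Finset.mem_sdiff.mpr hφ
      simp at this
    · refine Finset.union_subset hX ?_
      intro ψ hψ
      rcases Finset.mem_insert.mp hψ with rfl | hψ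
      · exact hφ.1
      · rw [Finset.mem_singleton.mp hψ]; exact hTc φ hφ.1
    · intro ψ hψ
      rcases Finset.mem_union.mp hψ with h | h
      · exact Finset.mem_union_left _ (hXc ψ h)
      · refine Finset.mem_union_right _ ?_
        rcases Finset.mem_insert.mp h with rfl | h
        · simp
        · rw [Finset.mem_singleton.mp h, conjFun_conjFun]; simp
    · simpa [Finset.coe_union, Finset.coe_insert] using hstep'

end Cfsg.Agent.Lib.OddChar
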