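import Cfsg.Agent.Lib.OddChar.CohExt

/-!
Joining two coherent sets of irreducible characters.
-/

namespace Cfsg.Agent.Lib.OddChar

open Cfsg.Agent.Lib.Characters
open scoped ComplexConjugate

set_option linter.unusedSectionVars false
set_option linter.style.haveILetI false

universe u v

variable {G : Type v} [Group G] [Fintype G] {L : Type u} [Group L] [Fintype L]

/-- Replacing an extension by the other possible one when the image is forced. -/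
theorem swap_family (X : Finset (L → ℂ)) (d : (L → ℂ) → ℕ) (χ₁ : L → ℂ) (h₁ : χ₁ ∈ X) (hd₁ : d χ₁ = 1)
    (hpos : ∀ ψ ∈ X, 0 < d ψ) (χ₂ : L → ℂ) (h₂ : χ₂ ∈ X) (h12 : χ₂ ≠ χ₁)
    (f : (L → ℂ) → (G → ℂ))
    (horth : ∀ ψ ∈ X, ∀ φ ∈ X, classInner (f ψ) (f φ) = if ψ = φ then 1 else 0)
    (hgen : ∀ ψ ∈ X, Cfsg.IsGeneralizedCharacter G (f ψ))
    (b : ℤ) (hb : b ^ 2 * (∑ ψ ∈ X, (d ψ : ℤ) ^ 2) + 2 * b = 0) :
    ∃ f' : (L → ℂ) → (G → ℂ),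
      (∀ ψ ∈ X, ∀ φ ∈ X, classInner (f' ψ) (f' φ) = if ψ = φ then 1 else 0) ∧
      (∀ ψ ∈ X, Cfsg.IsGeneralizedCharacter G (f' ψ)) ∧
      (∀ ψ ∈ X, f' ψ - (d ψ : ℂ) • f' χ₁ = f ψ - (d ψ : ℂ) • f χ₁) ∧
      f' χ₁ = f χ₁ + (b : ℂ) • ∑ ψ ∈ X, (d ψ : ℂ) • f ψ ∧
      (∀ ψ ∈ X, ∃ φ ∈ X, f' ψ = f φ ∨ f' ψ = -f φ) := by
  classical
  by_cases hb0 : b = 0
  · exact ⟨f, horth, hgen, fun ψ _ => rfl, by simp [hb0], fun ψ hψ => ⟨ψ, hψ, Or.inl rfl⟩⟩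
  have hsub : ({χ₁, χ₂} : Finset (L → ℂ)) ⊆ X := by
    intro ψ hψ
    rcases Finset.mem_insert.mp hψ with rfl | hψ
    exacts [h₁, (Finset.mem_singleton.mp hψ) ▸ h₂]
  have hbS : b * (∑ ψ ∈ X, (d ψ : ℤ) ^ 2) = -2 := by
    have : b * (b * (∑ ψ ∈ X, (d ψ : ℤ) ^ 2) + 2) = 0 := by rw [← hb]; ring
    linarith [(mul_eq_zero.mp this).resolve_left hb0]
  have hge : 2 ≤ ∑ ψ ∈ X, (d ψ : ℤ) ^ 2 := by
    refine le_trans ?_ (Finset.sum_le_sum_of_subset_of_nonneg hsub fun _ _ _ => sq_nonneg _)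
    rw [Finset.sum_pair h12.symm, hd₁]
    have : (1 : ℤ) ≤ d χ₂ := by exact_mod_cast hpos χ₂ h₂
    push_cast
    nlinarith
  have hb1 : b = -1 := by
    rcases lt_trichotomy b (-1) with h | h | h
    · nlinarith
    · exact h
    · have : 0 ≤ b := by omega
      nlinarith [mul_nonneg this (le_trans (by norm_num : (0:ℤ) ≤ 2) hge)]
  subst hb1
  have hS2 : ∑ ψ ∈ X, (d ψ : ℤ) ^ 2 = 2 := by linarith
  have hXeq : X = {χ₁, χ₂} := by
    refine (Finset.eq_of_superset_of_card_ge hsub ?_)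
    rw [Finset.card_pair h12.symm]
    have : ((X.card : ℕ) : ℤ) ≤ ∑ ψ ∈ X, (d ψ : ℤ) ^ 2 := by
      rw [Finset.card_eq_sum_ones, Nat.cast_sum]
      refine Finset.sum_le_sum fun ψ hψ => ?_
      have : (1 : ℤ) ≤ d ψ := by exact_mod_cast hpos ψ hψ
      push_cast
      nlinarith
    rw [hS2] at this
    exact_mod_cast this
  have hd₂ : d χ₂ = 1 := by
    rw [hXeq, Finset.sum_pair h12.symm, hd₁] at hS2
    have : (d χ₂ : ℤ) ^ 2 = 1 := by push_cast at hS2; linarith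
    have h' : d χ₂ ^ 2 = 1 := by exact_mod_cast this
    simpa using h'
  refine ⟨fun ψ => if ψ = χ₁ then -f χ₂ else -f χ₁, ?_, ?_, ?_, ?_, ?_⟩
  · intro ψ hψ φ hφ
    rw [hXeq] at hψ hφ
    simp only [Finset.mem_insert, Finset.mem_singleton] at hψ hφ
    rcases hψ with rfl | rfl <;> rcases hφ with rfl | rfl <;>
      simp [h12, h12.symm, classInner_neg_left, classInner_neg_right, horth, h₁, h₂]
  · intro ψ _
    simp only
    split_ifs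
    exacts [IsGeneralizedCharacter.neg (hgen _ h₂), IsGeneralizedCharacter.neg (hgen _ h₁)]
  · intro ψ hψ
    rw [hXeq] at hψ
    simp only [Finset.mem_insert, Finset.mem_singleton] at hψ
    rcases hψ with rfl | rfl <;> simp [h12, hd₁, hd₂] <;> abel
  · simp only [if_pos]
    rw [hXeq, Finset.sum_pair h12.symm, hd₁, hd₂]
    push_cast
    simp only [one_smul, neg_smul, neg_add_rev]
    abel
  · intro ψ _
    by_cases h : ψ = χ₁
    · exact ⟨χ₂, h₂, Or.inr (if_pos h)⟩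
    · exact ⟨χ₁, h₁, Or.inr (if_neg h)⟩

open scoped Classical in
/-- Two coherent sets join when a mixed difference is well placed. -/
theorem coherent_union (X Y : Finset (L → ℂ)) (hXY : Disjoint X Y)
    (hirr : ∀ ψ ∈ X ∪ Y, Cfsg.IsIrrCharacter L ψ) (hXc : ∀ ψ ∈ X, Cfsg.conjFun ψ ∈ X)
    (hYc : ∀ ψ ∈ Y, Cfsg.conjFun ψ ∈ Y) (hcne : ∀ ψ ∈ X ∪ Y, Cfsg.conjFun ψ ≠ ψ)
    (e c : ℕ) (he : 0 < e) (hc : 0 < c) (d : (L → ℂ) → ℕ)
    (hdX : ∀ ψ ∈ X, ψ 1 = ((c * e * d ψ : ℕ) : ℂ)) (hdY : ∀ η ∈ Y, η 1 = ((e : ℕ) : ℂ))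
    (χ₁ : L → ℂ) (h₁ : χ₁ ∈ X) (hd₁ : d χ₁ = 1) (η₁ : L → ℂ) (hη₁ : η₁ ∈ Y)
    (τ : (L → ℂ) → (G → ℂ))
    (hτ : Cfsg.IsLinearIsometryOn (Cfsg.zspanOn ((X ∪ Y : Finset (L → ℂ)) : Set (L → ℂ)) {1}ᶜ) τ)
    (hτ1 : ∀ α ∈ Cfsg.zspanOn ((X ∪ Y : Finset (L → ℂ)) : Set (L → ℂ)) {1}ᶜ, τ α 1 = 0)
    (hcX : Cfsg.IsCoherent (X : Set (L → ℂ)) {1}ᶜ τ) (hcY : Cfsg.IsCoherent (Y : Set (L → ℂ)) {1}ᶜ τ)
    (hdvd : ∀ ξ : G → ℂ, Cfsg.IsGeneralizedCharacter G ξ → classInner ξ ξ = 1 →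
      (∀ γ ∈ Cfsg.zspanOn (X : Set (L → ℂ)) {1}ᶜ, classInner (τ γ) ξ = 0) →
      ∃ t : ℤ, classInner (τ (χ₁ - (c : ℂ) • η₁)) ξ = ((c * t : ℤ) : ℂ)) :
    Cfsg.IsCoherent ((X ∪ Y : Finset (L → ℂ)) : Set (L → ℂ)) {1}ᶜ τ := by
  set S : Set (L → ℂ) := ((X ∪ Y : Finset (L → ℂ)) : Set (L → ℂ)) with hS
  have hXS : (X : Set (L → ℂ)) ⊆ S := Finset.coe_subset.mpr Finset.subset_union_left
  have hYS : (Y : Set (L → ℂ)) ⊆ S := Finset.coe_subset.mpr Finset.subset_union_right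
  obtain ⟨-, τ₁, hτ₁, hag₁⟩ := hcX
  obtain ⟨-, τ₂, hτ₂, hag₂⟩ := hcY
  have hinner : ∀ ψ ∈ S, ∀ φ ∈ S, classInner ψ φ = if ψ = φ then 1 else 0 := by
    intro ψ hψ φ hφ
    split_ifs with h
    · subst h; exact IsIrrCharacter.classInner_self (hirr ψ hψ)
    · exact IsIrrCharacter.classInner_ne (hirr ψ hψ) (hirr φ hφ) h
  have hmemX : ∀ ψ ∈ X, ψ ∈ Cfsg.zspan (X : Set (L → ℂ)) := fun ψ hψ => Submodule.subset_span hψ
  have hmemY : ∀ ψ ∈ Y, ψ ∈ Cfsg.zspan (Y : Set (L → ℂ)) := fun ψ hψ => Submodule.subset_span hψ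
  have ho₁ : ∀ ψ ∈ X, ∀ φ ∈ X, classInner (τ₁ ψ) (τ₁ φ) = if ψ = φ then 1 else 0 := fun ψ hψ φ hφ => by
    rw [hτ₁.2.2.1 _ (hmemX ψ hψ) _ (hmemX φ hφ), hinner ψ (hXS hψ) φ (hXS hφ)]
  have ho₂ : ∀ ψ ∈ Y, ∀ φ ∈ Y, classInner (τ₂ ψ) (τ₂ φ) = if ψ = φ then 1 else 0 := fun ψ hψ φ hφ => by
    rw [hτ₂.2.2.1 _ (hmemY ψ hψ) _ (hmemY φ hφ), hinner ψ (hYS hψ) φ (hYS hφ)]
  have hperp : ∀ γ ∈ Cfsg.zspan (X : Set (L → ℂ)), ∀ η ∈ Y, classInner γ η = 0 := by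
    intro γ hγ η hη
    induction hγ using Submodule.span_induction with
    | mem x hx =>
      rw [hinner x (hXS hx) η (hYS hη), if_neg]
      exact fun h => Finset.disjoint_left.mp hXY hx (h ▸ hη)
    | zero => simp
    | add y z _ _ hy hz => rw [classInner_add_left, hy, hz, add_zero]
    | smul n y _ hy => rw [← Int.cast_smul_eq_zsmul ℂ, classInner_smul_left, hy, mul_zero]
  -- differences
  have hdiff : ∀ (Z : Finset (L → ℂ)), (Z : Set (L → ℂ)) ⊆ S → (∀ ψ ∈ Z, Cfsg.conjFun ψ ∈ Z) → ∀ ψ ∈ Z,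
      ψ - Cfsg.conjFun ψ ∈ Cfsg.zspanOn (Z : Set (L → ℂ)) {1}ᶜ := by
    intro Z hZ hZc ψ hψ
    obtain ⟨n, hn, -⟩ := IsCharacter.exists_apply_one (IsIrrCharacter.isCharacter (hirr ψ (hZ hψ))) |>.imp fun n hn => And.intro hn trivial
    exact mem_zspanOn_one.mpr ⟨Submodule.sub_mem _ (Submodule.subset_span hψ)
      (Submodule.subset_span (hZc ψ hψ)), by simp [Cfsg.conjFun, hn]⟩
  have hsub1 : ∀ {Z : Set (L → ℂ)} {T : (L → ℂ) → (G → ℂ)}, Cfsg.IsLinearIsometryOn (Cfsg.zspan Z) T →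
      ∀ α β, α ∈ Cfsg.zspan Z → β ∈ Cfsg.zspan Z → T (α - β) = T α - T β := fun hT α β ha hb =>
    iso_sub hT ha hb (Submodule.neg_mem _ hb)
  have hval : ∀ {Z : Finset (L → ℂ)} {T : (L → ℂ) → (G → ℂ)}, (Z : Set (L → ℂ)) ⊆ S →
      Cfsg.IsLinearIsometryOn (Cfsg.zspan (Z : Set (L → ℂ))) T → ∀ ψ ∈ Z, T ψ 1 ≠ 0 := by
    intro Z T hZ hT ψ hψ
    have hm : ψ ∈ Cfsg.zspan (Z : Set (L → ℂ)) := Submodule.subset_span hψ
    obtain ⟨ξ, hξ | hξ⟩ := IsGeneralizedCharacter.eq_pm_irr (hT.2.2.2 _ hm)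
      (by rw [hT.2.2.1 _ hm _ hm, hinner ψ (hZ hψ) ψ (hZ hψ), if_pos rfl]) <;>
      simp [hξ, IsIrrCharacter.apply_one_ne_zero ξ.2]
  -- the two images are orthogonal
  have hcross : ∀ ψ ∈ X, ∀ η ∈ Y, classInner (τ₁ ψ) (τ₂ η) = 0 := by
    intro ψ hψ η hη
    by_contra hne
    have hψc := hXc ψ hψ
    have hηc := hYc η hη
    have hA := hdiff X hXS hXc ψ hψ
    have hB := hdiff Y hYS hYc η hη
    have h0 : classInner (τ₁ (ψ - Cfsg.conjFun ψ)) (τ₂ (η - Cfsg.conjFun η)) = 0 := by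
      rw [hag₁ _ hA, hag₂ _ hB, hτ.2.2.1 _ (zspanOn_mono hXS hA) _ (zspanOn_mono hYS hB),
        classInner_sub_right, hperp _ hA.1 η hη, hperp _ hA.1 _ hηc, sub_zero]
    have hψ1 : τ₁ ψ 1 = τ₁ (Cfsg.conjFun ψ) 1 := by
      have := hτ1 _ (zspanOn_mono hXS hA)
      rw [← hag₁ _ hA, hsub1 hτ₁ _ _ (hmemX _ hψ) (hmemX _ hψc), Pi.sub_apply, sub_eq_zero] at this
      exact this
    have hη1 : τ₂ η 1 = τ₂ (Cfsg.conjFun η) 1 := by
      have := hτ1 _ (zspanOn_mono hYS hB)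
      rw [← hag₂ _ hB, hsub1 hτ₂ _ _ (hmemY _ hη) (hmemY _ hηc), Pi.sub_apply, sub_eq_zero] at this
      exact this
    -- the first pair agrees up to sign
    have hpm : ∀ a ∈ X, ∀ b ∈ Y, classInner (τ₁ a) (τ₂ b) ≠ 0 →
        ∃ s : ℂ, (s = 1 ∨ s = -1) ∧ τ₂ b = s • τ₁ a := by
      intro a ha b hb hab
      obtain ⟨ξ, hξ⟩ := IsGeneralizedCharacter.eq_pm_irr (hτ₁.2.2.2 _ (hmemX a ha))
        (by rw [ho₁ a ha a ha, if_pos rfl])
      obtain ⟨ζ, hζ⟩ := IsGeneralizedCharacter.eq_pm_irr (hτ₂.2.2.2 _ (hmemY b hb))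
        (by rw [ho₂ b hb b hb, if_pos rfl])
      have heq : ξ = ζ := by
        by_contra hne'
        have h := IsIrrCharacter.classInner_ne ξ.2 ζ.2 fun e => hne' (Subtype.ext e)
        rcases hξ with e1 | e1 <;> rcases hζ with e2 | e2 <;>
          simp [e1, e2, classInner_neg_left, classInner_neg_right, h] at hab
      subst heq
      rcases hξ with e1 | e1 <;> rcases hζ with e2 | e2
      · exact ⟨1, Or.inl rfl, by simp [e1, e2]⟩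
      · exact ⟨-1, Or.inr rfl, by simp [e1, e2]⟩
      · exact ⟨-1, Or.inr rfl, by simp [e1, e2]⟩
      · exact ⟨1, Or.inl rfl, by simp [e1, e2]⟩
    obtain ⟨s, hs, hse⟩ := hpm ψ hψ η hη hne
    have hconjs : conj s = s := by rcases hs with rfl | rfl <;> simp
    have hs0 : s ≠ 0 := by rcases hs with rfl | rfl <;> simp
    have hψψ : classInner (τ₁ (Cfsg.conjFun ψ)) (τ₁ ψ) = 0 := by
      rw [ho₁ _ hψc _ hψ, if_neg (hcne ψ (hXS hψ))]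
    have hψη : classInner (τ₁ ψ) (τ₂ (Cfsg.conjFun η)) = 0 := by
      have := ho₂ η hη _ hηc
      rw [if_neg (hcne η (hYS hη)).symm, hse, classInner_smul_left, mul_eq_zero] at this
      exact this.resolve_left hs0
    rw [hsub1 hτ₁ _ _ (hmemX _ hψ) (hmemX _ hψc), hsub1 hτ₂ _ _ (hmemY _ hη) (hmemY _ hηc),
      classInner_sub_left, classInner_sub_right, classInner_sub_right, hψη, hse, classInner_smul_right,
      classInner_smul_right, hψψ, hconjs, ho₁ _ hψ _ hψ, if_pos rfl] at h0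
    have hne2 : classInner (τ₁ (Cfsg.conjFun ψ)) (τ₂ (Cfsg.conjFun η)) ≠ 0 := by
      intro h
      rw [h] at h0
      exact hs0 (by linear_combination h0)
    obtain ⟨s', hs', hse'⟩ := hpm _ hψc _ hηc hne2
    rw [hse', classInner_smul_right, ho₁ _ hψc _ hψc, if_pos rfl] at h0
    have hss : s' = -s := by
      rcases hs' with rfl | rfl
      · have : conj (1 : ℂ) = 1 := map_one _
        rw [this] at h0
        linear_combination h0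
      · have : conj (-1 : ℂ) = -1 := by simp
        rw [this] at h0
        linear_combination h0
    rw [hse, hse', hss, Pi.smul_apply, Pi.smul_apply, ← hψ1, smul_eq_mul, smul_eq_mul] at hη1
    have : s * τ₁ ψ 1 = 0 := by linear_combination hη1 / 2
    exact hval hXS hτ₁ ψ hψ ((mul_eq_zero.mp this).resolve_left hs0)
  -- coordinates of the mixed difference
  have hcη : (c : ℂ) • η₁ ∈ Cfsg.zspan S := by
    rw [Nat.cast_smul_eq_nsmul]; exact nsmul_mem (Submodule.subset_span (hYS hη₁)) c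
  have hΘmem : χ₁ - (c : ℂ) • η₁ ∈ Cfsg.zspanOn S {1}ᶜ := by
    refine mem_zspanOn_one.mpr ⟨Submodule.sub_mem _ (Submodule.subset_span (hXS h₁)) hcη, ?_⟩
    simp [hdX χ₁ h₁, hdY η₁ hη₁, hd₁]
  set Θ := τ (χ₁ - (c : ℂ) • η₁) with hΘ
  have hΘgen := hτ.2.2.2 _ hΘmem
  obtain ⟨A, hA⟩ := IsGeneralizedCharacter.exists_classInner_int hΘgen (hτ₁.2.2.2 _ (hmemX χ₁ h₁))
  set b : ℤ := A - 1 with hb
  have hXcoord : ∀ ψ ∈ X, classInner Θ (τ₁ ψ) = (((if ψ = χ₁ then 1 else 0) + b * d ψ : ℤ) : ℂ) := by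
    intro ψ hψ
    have hdm : (d ψ : ℂ) • χ₁ ∈ Cfsg.zspan (X : Set (L → ℂ)) := by
      rw [Nat.cast_smul_eq_nsmul]; exact nsmul_mem (hmemX χ₁ h₁) _
    have hm : ψ - (d ψ : ℂ) • χ₁ ∈ Cfsg.zspanOn (X : Set (L → ℂ)) {1}ᶜ :=
      mem_zspanOn_one.mpr ⟨Submodule.sub_mem _ (hmemX ψ hψ) hdm, by
        simp [hdX ψ hψ, hdX χ₁ h₁, hd₁]; ring⟩
    have h := hτ.2.2.1 _ hΘmem _ (zspanOn_mono hXS hm)
    rw [← hΘ, ← hag₁ _ hm, hsub1 hτ₁ _ _ (hmemX ψ hψ) hdm, iso_smul_nat hτ₁ (hmemX χ₁ h₁),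
      classInner_sub_right, classInner_smul_right, hA, classInner_sub_left, classInner_smul_left,
      classInner_sub_right, classInner_sub_right, classInner_smul_right, classInner_smul_right,
      hinner _ (hXS h₁) _ (hXS hψ), hinner _ (hXS h₁) _ (hXS h₁), if_pos rfl,
      hinner _ (hYS hη₁) _ (hXS hψ), hinner _ (hYS hη₁) _ (hXS h₁),
      if_neg fun (e : η₁ = ψ) => Finset.disjoint_left.mp hXY hψ (e ▸ hη₁),
      if_neg fun (e : η₁ = χ₁) => Finset.disjoint_left.mp hXY h₁ (e ▸ hη₁), map_natCast] at h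
    by_cases he : ψ = χ₁
    · subst he
      rw [hA]
      rw [hd₁, if_pos rfl, hb]
      push_cast
      ring
    · rw [if_neg (Ne.symm he)] at h
      rw [if_neg he, hb]
      push_cast
      linear_combination h
  choose kη hkη using fun η : Y => hdvd (τ₂ η) (hτ₂.2.2.2 _ (hmemY η η.2))
    (by rw [ho₂ η η.2 η η.2, if_pos rfl]) (fun γ hγ => by
      rw [← hag₁ γ hγ]
      obtain ⟨hγ', -⟩ := hγ
      have : ∀ γ ∈ Cfsg.zspan (X : Set (L → ℂ)), classInner (τ₁ γ) (τ₂ η) = 0 := by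
        intro γ hγ
        induction hγ using Submodule.span_induction with
        | mem x hx => exact hcross x hx η η.2
        | zero =>
          have : τ₁ 0 = 0 := by simpa using hτ₁.2.1 0 (Submodule.zero_mem _) 0
          rw [this, classInner_zero_left]
        | add y z hy hz ihy ihz => rw [hτ₁.1 y hy z hz, classInner_add_left, ihy, ihz, add_zero]
        | smul n y hy ih => rw [hτ₁.2.1 y hy, ← Int.cast_smul_eq_zsmul ℂ, classInner_smul_left, ih, mul_zero]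
      exact this γ hγ')
  set k₁ : ℤ := kη ⟨η₁, hη₁⟩ + 1 with hk₁
  have hYcoord : ∀ η ∈ Y, classInner Θ (τ₂ η) = ((c * (k₁ - if η = η₁ then 1 else 0) : ℤ) : ℂ) := by
    intro η hη
    by_cases he : η = η₁
    · subst he
      rw [hkη ⟨η, hη⟩, if_pos rfl, hk₁, add_sub_cancel_right]
    have hm : η - η₁ ∈ Cfsg.zspanOn (Y : Set (L → ℂ)) {1}ᶜ :=
      mem_zspanOn_one.mpr ⟨Submodule.sub_mem _ (hmemY η hη) (hmemY η₁ hη₁), by simp [hdY η hη, hdY η₁ hη₁]⟩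
    have h := hτ.2.2.1 _ hΘmem _ (zspanOn_mono hYS hm)
    rw [← hΘ, ← hag₂ _ hm, hsub1 hτ₂ _ _ (hmemY η hη) (hmemY η₁ hη₁), classInner_sub_right,
      hkη ⟨η₁, hη₁⟩, classInner_sub_left, classInner_smul_left, classInner_sub_right, classInner_sub_right,
      hperp _ (hmemX χ₁ h₁) η hη, hperp _ (hmemX χ₁ h₁) η₁ hη₁, hinner _ (hYS hη₁) _ (hYS hη),
      hinner _ (hYS hη₁) _ (hYS hη₁), if_pos rfl, if_neg (Ne.symm he)] at h
    rw [if_neg he, hk₁]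
    push_cast at h ⊢
    linear_combination h
  -- the norm inequality
  let Q := {ψ // ψ ∈ X} ⊕ {η // η ∈ Y}
  let fam : Q → (G → ℂ) := Sum.elim (fun ψ => τ₁ ψ.1) (fun η => τ₂ η.1)
  have hfam : ∀ i j, classInner (fam i) (fam j) = if i = j then ((1 : ℝ) : ℂ) else 0 := by
    rintro (⟨i, hi⟩ | ⟨i, hi⟩) (⟨j, hj⟩ | ⟨j, hj⟩)
    · simp [fam, ho₁ i hi j hj, Sum.inl_injective.eq_iff]
    · simp [fam, hcross i hi j hj]
    · simp [fam, ← classInner_conj_symm (τ₁ j) (τ₂ i), hcross j hj i hi]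
    · simp [fam, ho₂ i hi j hj, Sum.inr_injective.eq_iff]
  let cf : Q → ℝ := Sum.elim (fun ψ => (((if ψ.1 = χ₁ then 1 else 0) + b * d ψ.1 : ℤ) : ℝ))
    (fun η => ((c * (k₁ - if η.1 = η₁ then 1 else 0) : ℤ) : ℝ))
  have hcf : ∀ i, classInner Θ (fam i) = (cf i : ℂ) := by
    rintro (⟨i, hi⟩ | ⟨i, hi⟩) <;> simp only [fam, cf, Sum.elim_inl, Sum.elim_inr, Complex.ofReal_intCast]
    exacts [hXcoord i hi, hYcoord i hi]
  have hΘΘ : classInner Θ Θ = ((((1 : ℤ) + (c : ℤ) ^ 2 : ℤ) : ℝ) : ℂ) := by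
    rw [hΘ, hτ.2.2.1 _ hΘmem _ hΘmem, classInner_sub_left, classInner_sub_right, classInner_sub_right,
      classInner_smul_left, classInner_smul_left, classInner_smul_right, classInner_smul_right,
      hinner _ (hXS h₁) _ (hXS h₁), hinner _ (hYS hη₁) _ (hYS hη₁), hperp _ (hmemX χ₁ h₁) η₁ hη₁,
      hinner _ (hYS hη₁) _ (hXS h₁), if_neg fun (e : η₁ = χ₁) => Finset.disjoint_left.mp hXY h₁ (e ▸ hη₁),
      if_pos rfl, if_pos rfl, map_natCast]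
    push_cast
    ring
  set SX : ℤ := ∑ ψ ∈ X, (d ψ : ℤ) ^ 2 with hSX
  have hsumsq : ∑ i, cf i ^ 2 / (1 : ℝ) = (((1 + 2 * b + b ^ 2 * SX) +
      (c : ℤ) ^ 2 * (1 - 2 * k₁ + k₁ ^ 2 * Y.card) : ℤ) : ℝ) := by
    have hX' : ∑ ψ ∈ X, ((if ψ = χ₁ then 1 else 0) + b * (d ψ : ℤ)) ^ 2 = 1 + 2 * b + b ^ 2 * SX := by
      have e : ∀ ψ, ((if ψ = χ₁ then 1 else 0) + b * (d ψ : ℤ)) ^ 2 =
          (if ψ = χ₁ then 1 + 2 * b * (d ψ : ℤ) else 0) + b ^ 2 * (d ψ : ℤ) ^ 2 := fun ψ => by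
        split_ifs <;> ring
      rw [Finset.sum_congr rfl fun ψ _ => e ψ, Finset.sum_add_distrib, Finset.sum_ite_eq' X χ₁, if_pos h₁,
        hd₁, ← Finset.mul_sum]
      push_cast
      ring
    have hY' : ∑ η ∈ Y, ((c : ℤ) * (k₁ - if η = η₁ then 1 else 0)) ^ 2 =
        (c : ℤ) ^ 2 * (1 - 2 * k₁ + k₁ ^ 2 * Y.card) := by
      have e : ∀ η, ((c : ℤ) * (k₁ - if η = η₁ then 1 else 0)) ^ 2 =
          (if η = η₁ then (c : ℤ) ^ 2 * (1 - 2 * k₁) else 0) + (c : ℤ) ^ 2 * k₁ ^ 2 := fun η => by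
        split_ifs <;> ring
      rw [Finset.sum_congr rfl fun η _ => e η, Finset.sum_add_distrib, Finset.sum_ite_eq' Y η₁, if_pos hη₁,
        Finset.sum_const, nsmul_eq_mul]
      ring
    rw [← hX', ← hY', Fintype.sum_sum_type]
    simp only [cf, Sum.elim_inl, Sum.elim_inr]
    rw [Finset.sum_coe_sort X
      (fun ψ => (((if ψ = χ₁ then 1 else 0) + b * d ψ : ℤ) : ℝ) ^ 2 / 1),
      Finset.sum_coe_sort Y (fun η => ((c * (k₁ - if η = η₁ then 1 else 0) : ℤ) : ℝ) ^ 2 / 1)]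
    push_cast
    simp only [div_one]
  have hle := bessel_le fam (fun _ => (1 : ℝ)) (fun _ => one_ne_zero) hfam Θ _ hΘΘ cf hcf
  rw [hsumsq, Int.cast_le] at hle
  have hSX2 : 2 ≤ SX := by
    have hsub : ({χ₁, Cfsg.conjFun χ₁} : Finset (L → ℂ)) ⊆ X := by
      intro ψ hψ
      rcases Finset.mem_insert.mp hψ with rfl | hψ
      exacts [h₁, (Finset.mem_singleton.mp hψ) ▸ hXc _ h₁]
    refine le_trans ?_ (Finset.sum_le_sum_of_subset_of_nonneg hsub fun _ _ _ => sq_nonneg _)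
    rw [Finset.sum_pair (hcne χ₁ (hXS h₁)).symm, hd₁]
    have : (1 : ℤ) ≤ d (Cfsg.conjFun χ₁) := by
      have hp : 0 < d (Cfsg.conjFun χ₁) := Nat.pos_of_ne_zero fun h =>
        IsIrrCharacter.apply_one_ne_zero (hirr _ (hXS (hXc _ h₁))) (by rw [hdX _ (hXc _ h₁), h]; simp)
      exact_mod_cast hp
    push_cast
    nlinarith
  have hY2 : (2 : ℤ) ≤ Y.card := by
    have hsub : ({η₁, Cfsg.conjFun η₁} : Finset (L → ℂ)) ⊆ Y := by
      intro ψ hψ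
      rcases Finset.mem_insert.mp hψ with rfl | hψ
      exacts [hη₁, (Finset.mem_singleton.mp hψ) ▸ hYc _ hη₁]
    have := Finset.card_le_card hsub
    rw [Finset.card_pair (hcne η₁ (hYS hη₁)).symm] at this
    exact_mod_cast this
  have hnn : ∀ (x S' : ℤ), 2 ≤ S' → 0 ≤ x ^ 2 * S' + 2 * x := by
    intro x S' hS'
    rcases le_or_gt 0 x with hx | hx
    · nlinarith [mul_nonneg (sq_nonneg x) (le_trans (by norm_num : (0:ℤ) ≤ 2) hS')]
    · have h1 : 1 ≤ -x := by omega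
      nlinarith [mul_le_mul_of_nonneg_left hS' (sq_nonneg x), mul_le_mul_of_nonneg_right h1 (le_trans zero_le_one h1)]
  have hXz := hnn b SX hSX2
  have hYz := hnn (-k₁) Y.card hY2
  have hc2 : (0 : ℤ) < (c : ℤ) ^ 2 := by positivity
  have hprod : (c : ℤ) ^ 2 * ((-k₁) ^ 2 * (Y.card : ℤ) + 2 * -k₁) = 0 := by nlinarith
  have hY0 : (-k₁) ^ 2 * (Y.card : ℤ) + 2 * -k₁ = 0 := (mul_eq_zero.mp hprod).resolve_left hc2.ne'
  have hX0 : b ^ 2 * SX + 2 * b = 0 := by nlinarith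
  have hΘeq := bessel_eq fam (fun _ => (1 : ℝ)) (fun _ => one_ne_zero) hfam Θ _ hΘΘ cf hcf (by
    rw [hsumsq, Int.cast_le]
    nlinarith)
  -- the adjusted extensions
  have hpos : ∀ ψ ∈ X, 0 < d ψ := fun ψ hψ => Nat.pos_of_ne_zero fun h =>
    IsIrrCharacter.apply_one_ne_zero (hirr ψ (hXS hψ)) (by rw [hdX ψ hψ, h]; simp)
  obtain ⟨f, hfo, hfg, hfd, hf₁, hfr⟩ := swap_family X d χ₁ h₁ hd₁ hpos _ (hXc _ h₁) (hcne χ₁ (hXS h₁))
    τ₁ ho₁ (fun ψ hψ => hτ₁.2.2.2 _ (hmemX ψ hψ)) b hX0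
  obtain ⟨g, hgo, hgg, hgd, hg₁, hgr⟩ := swap_family Y (fun _ => 1) η₁ hη₁ rfl (fun _ _ => one_pos) _
    (hYc _ hη₁) (hcne η₁ (hYS hη₁)) τ₂ ho₂ (fun ψ hψ => hτ₂.2.2.2 _ (hmemY ψ hψ)) (-k₁) (by
      simpa using hY0)
  have hmix : Θ = f χ₁ - (c : ℂ) • g η₁ := by
    rw [hΘeq, Fintype.sum_sum_type, hf₁, hg₁]
    simp only [fam, cf, Sum.elim_inl, Sum.elim_inr, div_one, Complex.ofReal_intCast]
    rw [Finset.sum_coe_sort X (fun ψ => (((if ψ = χ₁ then 1 else 0) + b * d ψ : ℤ) : ℂ) • τ₁ ψ),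
      Finset.sum_coe_sort Y (fun η => ((c * (k₁ - if η = η₁ then 1 else 0) : ℤ) : ℂ) • τ₂ η)]
    funext x
    simp only [Pi.add_apply, Pi.sub_apply, Pi.smul_apply, Finset.sum_apply, smul_eq_mul]
    have e1 : ∀ ψ, (((if ψ = χ₁ then 1 else 0) + b * (d ψ : ℤ) : ℤ) : ℂ) * τ₁ ψ x =
        (if ψ = χ₁ then τ₁ ψ x else 0) + (b : ℂ) * ((d ψ : ℂ) * τ₁ ψ x) := fun ψ => by
      split_ifs <;> push_cast <;> ring
    have e2 : ∀ η, (((c : ℤ) * (k₁ - if η = η₁ then 1 else 0) : ℤ) : ℂ) * τ₂ η x =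
        (c : ℂ) * ((k₁ : ℂ) * τ₂ η x) - (c : ℂ) * (if η = η₁ then τ₂ η x else 0) := fun η => by
      split_ifs <;> push_cast <;> ring
    rw [Finset.sum_congr rfl fun ψ _ => e1 ψ, Finset.sum_congr rfl fun η _ => e2 η, Finset.sum_add_distrib,
      Finset.sum_sub_distrib, Finset.sum_ite_eq' X χ₁, if_pos h₁, ← Finset.mul_sum, ← Finset.mul_sum,
      ← Finset.mul_sum, ← Finset.mul_sum, Finset.sum_ite_eq' Y η₁, if_pos hη₁]
    push_cast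
    simp only [one_mul]
    ring
  -- the combined map
  obtain ⟨T, hT⟩ := exists_linear_ext (S := S)
    (fun χ hχ φ hφ hne => by rw [hinner χ hχ φ hφ, if_neg hne])
    (fun χ hχ => IsIrrCharacter.ne_zero (hirr χ hχ)) (fun χ => if χ ∈ X then f χ else g χ)
  have hTX : ∀ ψ ∈ X, T ψ = f ψ := fun ψ hψ => by rw [hT ψ (hXS hψ), if_pos hψ]
  have hTY : ∀ ψ ∈ Y, T ψ = g ψ := fun ψ hψ => by
    rw [hT ψ (hYS hψ), if_neg (fun h => Finset.disjoint_left.mp hXY h hψ)]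
  have hfg0 : ∀ ψ ∈ X, ∀ η ∈ Y, classInner (f ψ) (g η) = 0 := by
    intro ψ hψ η hη
    obtain ⟨φ, hφ, e1⟩ := hfr ψ hψ
    obtain ⟨ζ, hζ, e2⟩ := hgr η hη
    rcases e1 with e1 | e1 <;> rcases e2 with e2 | e2 <;>
      simp [e1, e2, classInner_neg_left, classInner_neg_right, hcross φ hφ ζ hζ]
  have hsplit : ∀ ψ ∈ S, ψ ∈ X ∨ ψ ∈ Y := fun ψ hψ => Finset.mem_union.mp hψ
  have hiso : Cfsg.IsLinearIsometryOn (Cfsg.zspan S) (fun α => T α) := by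
    refine isometry_of_gens T ?_ ?_
    · intro ψ hψ φ hφ
      rcases hsplit ψ hψ with h | h <;> rcases hsplit φ hφ with h' | h'
      · rw [hTX ψ h, hTX φ h', hfo ψ h φ h', hinner ψ hψ φ hφ]
      · rw [hTX ψ h, hTY φ h', hfg0 ψ h φ h', hperp _ (hmemX ψ h) φ h']
      · rw [hTY ψ h, hTX φ h', ← classInner_conj_symm, hfg0 φ h' ψ h, map_zero, ← classInner_conj_symm,
          hperp _ (hmemX φ h') ψ h, map_zero]
      · rw [hTY ψ h, hTY φ h', hgo ψ h φ h', hinner ψ hψ φ hφ]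
    · intro ψ hψ
      rcases hsplit ψ hψ with h | h
      · rw [hTX ψ h]; exact hfg ψ h
      · rw [hTY ψ h]; exact hgg ψ h
  refine ⟨⟨χ₁ - Cfsg.conjFun χ₁, zspanOn_mono hXS (hdiff X hXS hXc χ₁ h₁),
    sub_ne_zero.mpr (hcne χ₁ (hXS h₁)).symm⟩, fun α => T α, hiso, fun α hα => ?_⟩
  -- agreement on a degree zero combination
  obtain ⟨hαz, hα1⟩ := mem_zspanOn_one.mp hα
  have hgen : ∀ α ∈ Cfsg.zspan S, ∃ (k l : ℤ) (γ : L → ℂ), γ ∈ Cfsg.zspanOn S {1}ᶜ ∧ T γ = τ γ ∧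
      α = γ + (k : ℂ) • χ₁ + (l : ℂ) • η₁ := by
    intro α hα
    induction hα using Submodule.span_induction with
    | mem x hx =>
      rcases hsplit x hx with h | h
      · refine ⟨d x, 0, x - (d x : ℂ) • χ₁, ?_, ?_, by simp⟩
        · refine zspanOn_mono hXS (mem_zspanOn_one.mpr ⟨Submodule.sub_mem _ (hmemX x h) ?_, ?_⟩)
          · rw [Nat.cast_smul_eq_nsmul]; exact nsmul_mem (hmemX χ₁ h₁) _
          · simp [hdX x h, hdX χ₁ h₁, hd₁]; ring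
        · have hdm : (d x : ℂ) • χ₁ ∈ Cfsg.zspan (X : Set (L → ℂ)) := by
            rw [Nat.cast_smul_eq_nsmul]; exact nsmul_mem (hmemX χ₁ h₁) _
          rw [map_sub, map_smul, hTX x h, hTX χ₁ h₁, hfd x h, ← hag₁ _ (mem_zspanOn_one.mpr
            ⟨Submodule.sub_mem _ (hmemX x h) hdm, by simp [hdX x h, hdX χ₁ h₁, hd₁]; ring⟩),
            hsub1 hτ₁ _ _ (hmemX x h) hdm, iso_smul_nat hτ₁ (hmemX χ₁ h₁)]
      · refine ⟨0, 1, x - η₁, ?_, ?_, by simp⟩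
        · exact zspanOn_mono hYS (mem_zspanOn_one.mpr ⟨Submodule.sub_mem _ (hmemY x h) (hmemY η₁ hη₁),
            by simp [hdY x h, hdY η₁ hη₁]⟩)
        · have hh := hgd x h
          simp only [Nat.cast_one, one_smul] at hh
          rw [map_sub, hTY x h, hTY η₁ hη₁, hh, ← hag₂ _ (mem_zspanOn_one.mpr
            ⟨Submodule.sub_mem _ (hmemY x h) (hmemY η₁ hη₁), by simp [hdY x h, hdY η₁ hη₁]⟩),
            hsub1 hτ₂ _ _ (hmemY x h) (hmemY η₁ hη₁)]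
    | zero =>
      have h0 : (0 : L → ℂ) ∈ Cfsg.zspanOn S {1}ᶜ := ⟨Submodule.zero_mem _, fun _ _ => rfl⟩
      refine ⟨0, 0, 0, h0, ?_, by simp⟩
      have : τ 0 = 0 := by simpa using hτ.2.1 0 h0 0
      rw [this, map_zero]
    | add y z _ _ hy hz =>
      obtain ⟨k, l, γ, h1, h2, rfl⟩ := hy
      obtain ⟨k', l', γ', h1', h2', rfl⟩ := hz
      refine ⟨k + k', l + l', γ + γ', zspanOn_add h1 h1', by rw [map_add, h2, h2', hτ.1 _ h1 _ h1'], ?_⟩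
      push_cast
      simp only [add_smul]
      abel
    | smul n y _ hy =>
      obtain ⟨k, l, γ, h1, h2, rfl⟩ := hy
      refine ⟨n * k, n * l, n • γ, zspanOn_smul n h1, by rw [map_zsmul, h2, hτ.2.1 _ h1], ?_⟩
      simp only [← Int.cast_smul_eq_zsmul ℂ, smul_add, smul_smul]
      push_cast
      rfl
  obtain ⟨k, l, γ, hγ, hTγ, rfl⟩ := hgen α hαz
  have hγ1 := (mem_zspanOn_one.mp hγ).2
  have hl : l = -((c : ℤ) * k) := by
    simp [hγ1, hdX χ₁ h₁, hd₁, hdY η₁ hη₁] at hα1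
    have he' : (e : ℂ) ≠ 0 := by exact_mod_cast he.ne'
    have h1 : ((l : ℂ) + (c : ℂ) * k) * e = 0 := by linear_combination hα1
    have h2 := (mul_eq_zero.mp h1).resolve_right he'
    have h3 : ((l + (c : ℤ) * k : ℤ) : ℂ) = 0 := by push_cast; exact h2
    have h4 : l + (c : ℤ) * k = 0 := by exact_mod_cast h3
    linarith
  have hrw : γ + (k : ℂ) • χ₁ + (l : ℂ) • η₁ = γ + k • (χ₁ - (c : ℂ) • η₁) := by
    rw [hl, ← Int.cast_smul_eq_zsmul ℂ]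
    push_cast
    rw [smul_sub, smul_smul, neg_smul, mul_comm (k : ℂ)]
    abel
  show T (γ + (k : ℂ) • χ₁ + (l : ℂ) • η₁) = _
  rw [hrw, map_add, map_zsmul, hTγ, hτ.1 _ hγ _ (zspanOn_smul k hΘmem), hτ.2.1 _ hΘmem, map_sub, map_smul,
    hTX χ₁ h₁, hTY η₁ hη₁, ← hΘ, ← hmix]

end Cfsg.Agent.Lib.OddChar
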