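import Mathlib.Algebra.BigOperators.Group.Finset.Basic
import Mathlib.Algebra.Order.BigOperators.Group.Finset
import Mathlib.Data.Finset.Card
import Mathlib.Data.Fintype.Card
import Mathlib.Algebra.BigOperators.Ring.Finset
import Mathlib.Tactic

/-!
The combinatorial step of the cyclic TI isometry: integral vectors `v i j` of norm `3` with
inner product `1` inside a row or a column and `0` otherwise have the shape
`a i • δ (z i) + b j • δ (c j) + d i j • δ (y i j)`.
-/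

namespace Cfsg.Agent.Lib.OddChar.TIGrid

set_option linter.unusedSectionVars false

/-- The hypotheses on the grid. -/
structure Grid (I J K : Type*) [Fintype K] where
  v : I → J → K → ℤ
  deg : K → ℤ
  deg_pos : ∀ x, 0 < deg x
  norm : ∀ i j, ∑ x, v i j x * v i j x = 3
  col : ∀ i i' j, i ≠ i' → ∑ x, v i j x * v i' j x = 1
  row : ∀ i j j', j ≠ j' → ∑ x, v i j x * v i j' x = 1
  orth : ∀ i i' j j', i ≠ i' → j ≠ j' → ∑ x, v i j x * v i' j' x = 0
  degree : ∀ i j, ∑ x, v i j x * deg x = -1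

variable {I J K : Type*} [Fintype K] [DecidableEq K] (Γ : Grid I J K)

namespace Grid

/-- Exchange rows and columns. -/
def swap : Grid J I K where
  v j i := Γ.v i j
  deg := Γ.deg
  deg_pos := Γ.deg_pos
  norm j i := Γ.norm i j
  col j j' i h := Γ.row i j j' h
  row j i i' h := Γ.col i i' j h
  orth j j' i i' hj hi := Γ.orth i i' j j' hi hj
  degree j i := Γ.degree i j

/-- The support. -/
def S (i : I) (j : J) : Finset K := Finset.univ.filter fun x => Γ.v i j x ≠ 0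

theorem mem_S {i : I} {j : J} {x : K} : x ∈ Γ.S i j ↔ Γ.v i j x ≠ 0 := by simp [S]

theorem eq_zero_of_not_mem {i : I} {j : J} {x : K} (h : x ∉ Γ.S i j) : Γ.v i j x = 0 := by
  by_contra h'; exact h (Γ.mem_S.mpr h')

theorem val {i : I} {j : J} {x : K} (h : x ∈ Γ.S i j) : Γ.v i j x = 1 ∨ Γ.v i j x = -1 := by
  have h1 : Γ.v i j x * Γ.v i j x ≤ 3 := by
    rw [← Γ.norm i j]
    exact Finset.single_le_sum (f := fun y => Γ.v i j y * Γ.v i j y) (fun y _ => mul_self_nonneg _)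
      (Finset.mem_univ x)
  have h2 := Γ.mem_S.mp h
  rcases lt_or_gt_of_ne h2 with h3 | h3
  · right
    by_contra h4
    have h5 : Γ.v i j x ≤ -2 := by omega
    nlinarith
  · left
    by_contra h4
    have h5 : 2 ≤ Γ.v i j x := by omega
    nlinarith

theorem sum_inter (i i' : I) (j j' : J) :
    ∑ x, Γ.v i j x * Γ.v i' j' x = ∑ x ∈ Γ.S i j ∩ Γ.S i' j', Γ.v i j x * Γ.v i' j' x := by
  refine (Finset.sum_subset (Finset.subset_univ _) fun x _ hx => ?_).symm
  rw [Finset.mem_inter, Γ.mem_S, Γ.mem_S, not_and_or, not_not, not_not] at hx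
  rcases hx with h | h <;> simp [h]

theorem card_S (i : I) (j : J) : (Γ.S i j).card = 3 := by
  have h := Γ.norm i j
  rw [Γ.sum_inter, Finset.inter_self, Finset.sum_congr rfl (g := fun _ => (1 : ℤ))
    (fun x hx => by rcases Γ.val hx with e | e <;> rw [e] <;> norm_num)] at h
  rw [Finset.sum_const, nsmul_eq_mul, mul_one] at h
  exact_mod_cast h

theorem prod_val {i i' : I} {j j' : J} {x : K} (hx : x ∈ Γ.S i j ∩ Γ.S i' j') :
    Γ.v i j x * Γ.v i' j' x = 1 ∨ Γ.v i j x * Γ.v i' j' x = -1 := by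
  rw [Finset.mem_inter] at hx
  rcases Γ.val hx.1 with e | e <;> rcases Γ.val hx.2 with e' | e' <;> simp [e, e']

theorem inter_one {i i' : I} {j j' : J} (h : ∑ x, Γ.v i j x * Γ.v i' j' x = 1) :
    ∃ x, Γ.S i j ∩ Γ.S i' j' = {x} ∧ Γ.v i j x = Γ.v i' j' x := by
  rw [Γ.sum_inter] at h
  set T := Γ.S i j ∩ Γ.S i' j' with hT
  have hle : T.card ≤ 3 := (Finset.card_le_card Finset.inter_subset_left).trans (Γ.card_S i j).le
  have h0 : T.card ≠ 0 := by
    intro e; rw [Finset.card_eq_zero.mp e] at h; simp at h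
  have h2 : T.card ≠ 2 := by
    intro e
    obtain ⟨x, y, hxy, e⟩ := Finset.card_eq_two.mp e
    rw [e, Finset.sum_pair hxy] at h
    have hx := Γ.prod_val (show x ∈ T by rw [e]; simp)
    have hy := Γ.prod_val (show y ∈ T by rw [e]; simp)
    omega
  have h3 : T.card ≠ 3 := by
    intro e3
    obtain ⟨x, y, z, hxy, hxz, hyz, e⟩ := Finset.card_eq_three.mp e3
    have e1 : Γ.S i j = T := (Finset.eq_of_subset_of_card_le Finset.inter_subset_left
      (by rw [Γ.card_S, e3])).symm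
    have e2 : Γ.S i' j' = T := (Finset.eq_of_subset_of_card_le Finset.inter_subset_right
      (by rw [Γ.card_S, e3])).symm
    have hsum : ∀ a b, Γ.S a b = T →
        Γ.v a b x * Γ.deg x + Γ.v a b y * Γ.deg y + Γ.v a b z * Γ.deg z = -1 := by
      intro a b hab
      rw [← Γ.degree a b, ← Finset.sum_subset (Finset.subset_univ (Γ.S a b))
        (fun w _ hw => by rw [Γ.eq_zero_of_not_mem hw, zero_mul]), hab, e,
        Finset.sum_insert (by simp [hxy, hxz]), Finset.sum_pair hyz]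
      ring
    have hs := hsum _ _ e1
    have hs' := hsum _ _ e2
    rw [e, Finset.sum_insert (by simp [hxy, hxz]), Finset.sum_pair hyz] at h
    have px := Γ.deg_pos x
    have py := Γ.deg_pos y
    have pz := Γ.deg_pos z
    rcases Γ.val (show x ∈ Γ.S i j by rw [e1, e]; simp) with a | a <;>
    rcases Γ.val (show y ∈ Γ.S i j by rw [e1, e]; simp) with b | b <;>
    rcases Γ.val (show z ∈ Γ.S i j by rw [e1, e]; simp) with c | c <;>
    rw [a, b, c] at h hs <;>
    rcases Γ.val (show x ∈ Γ.S i' j' by rw [e2, e]; simp) with a' | a' <;> rw [a'] at h hs' <;>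
    rcases Γ.val (show y ∈ Γ.S i' j' by rw [e2, e]; simp) with b' | b' <;> rw [b'] at h hs' <;>
    rcases Γ.val (show z ∈ Γ.S i' j' by rw [e2, e]; simp) with c' | c' <;> rw [c'] at h hs' <;>
    linarith
  obtain ⟨x, hx⟩ := Finset.card_eq_one.mp (show T.card = 1 by omega)
  refine ⟨x, hx, ?_⟩
  rw [hx, Finset.sum_singleton] at h
  have hm : x ∈ Γ.S i j ∩ Γ.S i' j' := by rw [← hT, hx]; simp
  rw [Finset.mem_inter] at hm
  rcases Γ.val hm.1 with e | e <;> rw [e] at h ⊢ <;> omega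

theorem uniq_of_one {i i' : I} {j j' : J} (h : ∑ x, Γ.v i j x * Γ.v i' j' x = 1) {p q : K}
    (hp : p ∈ Γ.S i j) (hp' : p ∈ Γ.S i' j') (hq : q ∈ Γ.S i j) (hq' : q ∈ Γ.S i' j') : p = q := by
  obtain ⟨x, hx, -⟩ := Γ.inter_one h
  have a : p ∈ Γ.S i j ∩ Γ.S i' j' := Finset.mem_inter.mpr ⟨hp, hp'⟩
  have b : q ∈ Γ.S i j ∩ Γ.S i' j' := Finset.mem_inter.mpr ⟨hq, hq'⟩
  rw [hx, Finset.mem_singleton] at a b
  exact a.trans b.symm

theorem val_of_one {i i' : I} {j j' : J} (h : ∑ x, Γ.v i j x * Γ.v i' j' x = 1) {p : K}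
    (hp : p ∈ Γ.S i j) (hp' : p ∈ Γ.S i' j') : Γ.v i j p = Γ.v i' j' p := by
  obtain ⟨x, hx, hv⟩ := Γ.inter_one h
  have a : p ∈ Γ.S i j ∩ Γ.S i' j' := Finset.mem_inter.mpr ⟨hp, hp'⟩
  rw [hx, Finset.mem_singleton] at a
  rw [a]; exact hv

theorem exists_of_one {i i' : I} {j j' : J} (h : ∑ x, Γ.v i j x * Γ.v i' j' x = 1) :
    ∃ p, p ∈ Γ.S i j ∧ p ∈ Γ.S i' j' := by
  obtain ⟨x, hx, -⟩ := Γ.inter_one h
  exact ⟨x, Finset.mem_inter.mp (by rw [hx]; simp)⟩

theorem inter_zero {i i' : I} {j j' : J} (h : ∑ x, Γ.v i j x * Γ.v i' j' x = 0) :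
    Even (Γ.S i j ∩ Γ.S i' j').card := by
  rw [Γ.sum_inter] at h
  set T := Γ.S i j ∩ Γ.S i' j' with hT
  have hle : T.card ≤ 3 := (Finset.card_le_card Finset.inter_subset_left).trans (Γ.card_S i j).le
  have h1 : T.card ≠ 1 := by
    intro e
    obtain ⟨x, e⟩ := Finset.card_eq_one.mp e
    rw [e, Finset.sum_singleton] at h
    have hx := Γ.prod_val (show x ∈ T by rw [e]; simp)
    omega
  have h3 : T.card ≠ 3 := by
    intro e
    obtain ⟨x, y, z, hxy, hxz, hyz, e⟩ := Finset.card_eq_three.mp e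
    rw [e, Finset.sum_insert (by simp [hxy, hxz]), Finset.sum_pair hyz] at h
    have hx := Γ.prod_val (show x ∈ T by rw [e]; simp)
    have hy := Γ.prod_val (show y ∈ T by rw [e]; simp)
    have hz := Γ.prod_val (show z ∈ T by rw [e]; simp)
    omega
  have : T.card = 0 ∨ T.card = 2 := by omega
  rcases this with e | e <;> rw [e] <;> decide

/-- A second common point, with the opposite sign product. -/
theorem partner {i i' : I} {j j' : J} (h : ∑ x, Γ.v i j x * Γ.v i' j' x = 0) {p : K}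
    (hp : p ∈ Γ.S i j) (hp' : p ∈ Γ.S i' j') :
    ∃ q, q ≠ p ∧ q ∈ Γ.S i j ∧ q ∈ Γ.S i' j' ∧
      (∀ w, w ∈ Γ.S i j → w ∈ Γ.S i' j' → w = p ∨ w = q) ∧
      Γ.v i j q * Γ.v i' j' q = -(Γ.v i j p * Γ.v i' j' p) := by
  have he := Γ.inter_zero h
  set T := Γ.S i j ∩ Γ.S i' j' with hT
  have hle : T.card ≤ 3 := (Finset.card_le_card Finset.inter_subset_left).trans (Γ.card_S i j).le
  have hpT : p ∈ T := Finset.mem_inter.mpr ⟨hp, hp'⟩
  have hpos : 0 < T.card := Finset.card_pos.mpr ⟨p, hpT⟩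
  obtain ⟨k, hk⟩ := he
  have h2 : T.card = 2 := by omega
  obtain ⟨q, hq⟩ := Finset.card_eq_one.mp (show (T.erase p).card = 1 by
    rw [Finset.card_erase_of_mem hpT, h2])
  have hqm : q ∈ T.erase p := by rw [hq]; simp
  rw [Finset.mem_erase] at hqm
  have hq2 := Finset.mem_inter.mp hqm.2
  refine ⟨q, hqm.1, hq2.1, hq2.2, fun w hw hw' => ?_, ?_⟩
  · by_cases e : w = p
    · exact Or.inl e
    · have : w ∈ T.erase p := Finset.mem_erase.mpr ⟨e, Finset.mem_inter.mpr ⟨hw, hw'⟩⟩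
      rw [hq, Finset.mem_singleton] at this
      exact Or.inr this
  · rw [Γ.sum_inter, ← hT, ← Finset.add_sum_erase T _ hpT, hq, Finset.sum_singleton] at h
    linarith

theorem third {i : I} {j : J} {p q : K} (hpq : p ≠ q) (hp : p ∈ Γ.S i j) (hq : q ∈ Γ.S i j) :
    ∃ r, r ≠ p ∧ r ≠ q ∧ r ∈ Γ.S i j ∧ ∀ w, w ∈ Γ.S i j → w = p ∨ w = q ∨ w = r := by
  have h2 : ({p, q} : Finset K) ⊆ Γ.S i j := by
    intro w hw; simp at hw; rcases hw with rfl | rfl <;> assumption
  obtain ⟨r, hr⟩ := Finset.card_eq_one.mp (show (Γ.S i j \ {p, q}).card = 1 by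
    rw [Finset.card_sdiff_of_subset h2, Γ.card_S, Finset.card_pair hpq])
  have hrm : r ∈ Γ.S i j \ {p, q} := by rw [hr]; simp
  simp at hrm
  refine ⟨r, hrm.2.1, hrm.2.2, hrm.1, fun w hw => ?_⟩
  by_contra hc
  push Not at hc
  have : w ∈ Γ.S i j \ {p, q} := by simp [hw, hc.1, hc.2.1]
  rw [hr, Finset.mem_singleton] at this
  exact hc.2.2 this

theorem eq_three {i : I} {j : J} {p q r : K} (hpq : p ≠ q) (hpr : p ≠ r) (hqr : q ≠ r)
    (hp : p ∈ Γ.S i j) (hq : q ∈ Γ.S i j) (hr : r ∈ Γ.S i j) {w : K} (hw : w ∈ Γ.S i j) :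
    w = p ∨ w = q ∨ w = r := by
  obtain ⟨r', _, _, _, h⟩ := Γ.third hpq hp hq
  rcases h r hr with e | e | e
  · exact absurd e hpr.symm
  · exact absurd e hqr.symm
  · subst e; exact h w hw

section Column

variable [Fintype I] [DecidableEq I]

/-- The lines of the column `j` through `p`. -/
def D (j : J) (p : K) : Finset I := Finset.univ.filter fun i => p ∈ Γ.S i j

theorem mem_D {j : J} {p : K} {i : I} : i ∈ Γ.D j p ↔ p ∈ Γ.S i j := by simp [D]

theorem exists_not_mem (j : J) (hns : ¬ ∃ c, ∀ i, c ∈ Γ.S i j) (p : K) : ∃ k, p ∉ Γ.S k j := by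
  by_contra h; push Not at h; exact hns ⟨p, h⟩

theorem card_D_le {j : J} (hns : ¬ ∃ c, ∀ i, c ∈ Γ.S i j) (p : K) : (Γ.D j p).card ≤ 3 := by
  obtain ⟨k, hk⟩ := Γ.exists_not_mem j hns p
  rw [← Γ.card_S k j]
  have hne : ∀ i ∈ Γ.D j p, i ≠ k := fun i hi e => hk (e ▸ Γ.mem_D.mp hi)
  choose f hf using fun (i : I) (hi : i ∈ Γ.D j p) => Γ.exists_of_one (Γ.col i k j (hne i hi))
  refine Finset.card_le_card_of_injOn (fun i => if hi : i ∈ Γ.D j p then f i hi else p) ?_ ?_
  · intro i hi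
    simp only [Finset.mem_coe] at hi ⊢
    rw [dif_pos hi]; exact (hf i hi).2
  · intro i hi i' hi' e
    simp only [Finset.mem_coe] at hi hi'
    simp only [dif_pos hi, dif_pos hi'] at e
    by_contra hii
    have : p = f i hi := Γ.uniq_of_one (Γ.col i i' j hii) (Γ.mem_D.mp hi) (Γ.mem_D.mp hi')
      (hf i hi).1 (e ▸ (hf i' hi').1)
    exact hk (this ▸ (hf i hi).2)

theorem card_I_eq (i : I) (j : J) :
    Fintype.card I = 1 + ∑ p ∈ Γ.S i j, ((Γ.D j p).card - 1) := by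
  have h1 : (Finset.univ.erase i) = (Γ.S i j).biUnion fun p => (Γ.D j p).erase i := by
    ext k
    simp only [Finset.mem_erase, Finset.mem_univ, and_true, Finset.mem_biUnion, Γ.mem_D]
    refine ⟨fun hk => ?_, fun ⟨p, _, hk, _⟩ => hk⟩
    obtain ⟨p, hp, hp'⟩ := Γ.exists_of_one (Γ.col i k j (Ne.symm hk))
    exact ⟨p, hp, hk, hp'⟩
  have h2 : (Finset.univ.erase i).card = ∑ p ∈ Γ.S i j, ((Γ.D j p).card - 1) := by
    rw [h1, Finset.card_biUnion]
    · refine Finset.sum_congr rfl fun p hp => ?_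
      rw [Finset.card_erase_of_mem (Γ.mem_D.mpr hp)]
    · intro p hp q hq hpq
      simp only [Finset.mem_coe] at hp hq
      rw [Function.onFun, Finset.disjoint_left]
      intro k hk hk'
      simp only [Finset.mem_erase, Γ.mem_D] at hk hk'
      exact hpq (Γ.uniq_of_one (Γ.col i k j (Ne.symm hk.1)) hp hk.2 hq hk'.2)
  rw [← h2, Finset.card_erase_of_mem (Finset.mem_univ i), Finset.card_univ]
  have : 0 < Fintype.card I := Fintype.card_pos_iff.mpr ⟨i⟩
  omega

theorem one_le_D {i : I} {j : J} {p : K} (hp : p ∈ Γ.S i j) : 1 ≤ (Γ.D j p).card :=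
  Finset.card_pos.mpr ⟨i, Γ.mem_D.mpr hp⟩

/-- A set of lines containing `i` covering every point an even number of times is impossible. -/
theorem parity {j l : J} (hjl : j ≠ l) (i : I) (Z : Finset I) (hi : i ∈ Z)
    (hev : ∀ p, Even (Z.filter fun k => p ∈ Γ.S k j).card) : False := by
  have h1 : ∑ k ∈ Z, (Γ.S i l ∩ Γ.S k j).card
      = ∑ p ∈ Γ.S i l, (Z.filter fun k => p ∈ Γ.S k j).card := by
    simp only [← Finset.filter_mem_eq_inter, Finset.card_filter]
    exact Finset.sum_comm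
  rw [← Finset.add_sum_erase Z _ hi] at h1
  obtain ⟨x, hx, -⟩ := Γ.inter_one (Γ.row i l j hjl.symm)
  rw [hx, Finset.card_singleton] at h1
  have e1 : Even (∑ k ∈ Z.erase i, (Γ.S i l ∩ Γ.S k j).card) :=
    Finset.even_sum _ fun k hk =>
      Γ.inter_zero (Γ.orth i k l j (Finset.ne_of_mem_erase hk).symm hjl.symm)
  have e2 : Even (∑ p ∈ Γ.S i l, (Z.filter fun k => p ∈ Γ.S k j).card) :=
    Finset.even_sum _ fun p _ => hev p
  rw [← h1, Nat.even_add] at e2
  exact absurd (e2.mpr e1) (by decide)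

theorem six_lines {j l : J} (hjl : j ≠ l) (hns : ¬ ∃ c, ∀ i, c ∈ Γ.S i j)
    (h6 : Fintype.card I = 6) : False := by
  have shape : ∀ i, ∃ q ∈ Γ.S i j, (Γ.D j q).card = 2 ∧
      ∀ p ∈ Γ.S i j, p ≠ q → (Γ.D j p).card = 3 := by
    intro i
    obtain ⟨a, b, c, hab, hac, hbc, e⟩ := Finset.card_eq_three.mp (Γ.card_S i j)
    have h := Γ.card_I_eq i j
    rw [h6, e, Finset.sum_insert (by simp [hab, hac]), Finset.sum_pair hbc] at h
    have la := Γ.card_D_le hns a
    have lb := Γ.card_D_le hns b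
    have lc := Γ.card_D_le hns c
    have ka := Γ.one_le_D (i := i) (j := j) (show a ∈ Γ.S i j by rw [e]; simp)
    have kb := Γ.one_le_D (i := i) (j := j) (show b ∈ Γ.S i j by rw [e]; simp)
    have kc := Γ.one_le_D (i := i) (j := j) (show c ∈ Γ.S i j by rw [e]; simp)
    rw [e]
    have : ((Γ.D j a).card = 2 ∧ (Γ.D j b).card = 3 ∧ (Γ.D j c).card = 3) ∨
        ((Γ.D j a).card = 3 ∧ (Γ.D j b).card = 2 ∧ (Γ.D j c).card = 3) ∨
        ((Γ.D j a).card = 3 ∧ (Γ.D j b).card = 3 ∧ (Γ.D j c).card = 2) := by omega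
    rcases this with ⟨x, y, z⟩ | ⟨x, y, z⟩ | ⟨x, y, z⟩
    · exact ⟨a, by simp, x, fun p hp hne => by simp at hp; rcases hp with rfl | rfl | rfl <;> simp_all⟩
    · exact ⟨b, by simp, y, fun p hp hne => by simp at hp; rcases hp with rfl | rfl | rfl <;> simp_all⟩
    · exact ⟨c, by simp, z, fun p hp hne => by simp at hp; rcases hp with rfl | rfl | rfl <;> simp_all⟩
  haveI : Nonempty I := Fintype.card_pos_iff.mp (by omega)
  let i : I := Classical.arbitrary I
  obtain ⟨q0, hq0, hd0, -⟩ := shape i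
  obtain ⟨k, hk⟩ := Γ.exists_not_mem j hns q0
  obtain ⟨q, hq, hdq, hkother⟩ := shape k
  have hqi : q ∉ Γ.S i j := by
    intro hqi
    obtain ⟨q1, hq1, hd1, hother⟩ := shape i
    have e1 : q = q1 := by by_contra hne; exact absurd (hother q hqi hne) (by omega)
    have e2 : q0 = q1 := by by_contra hne; exact absurd (hother q0 hq0 hne) (by omega)
    exact hk (e2.trans e1.symm ▸ hq)
  refine Γ.parity hjl i (Finset.univ.filter fun k' => q ∉ Γ.S k' j) (by simp [hqi]) fun p => ?_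
  rw [Finset.filter_filter]
  by_cases hpq : p = q
  · subst hpq; simp [and_not_self_iff, Finset.filter_false]
  have hcount : (Finset.univ.filter fun k' => q ∉ Γ.S k' j ∧ p ∈ Γ.S k' j).card
      = (Γ.D j p).card - (Γ.D j p ∩ Γ.D j q).card := by
    rw [← Finset.card_sdiff_of_subset Finset.inter_subset_left]
    congr 1
    ext k'
    simp only [Finset.mem_filter, Finset.mem_univ, true_and, Finset.mem_sdiff, Finset.mem_inter,
      Γ.mem_D]
    tauto
  rw [hcount]
  by_cases hp0 : (Γ.D j p).card = 0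
  · simp [hp0]
  obtain ⟨k1, hk1⟩ := Finset.card_pos.mp (Nat.pos_of_ne_zero hp0)
  obtain ⟨q1, hq1, hdq1, hother1⟩ := shape k1
  by_cases hpq1 : p = q1
  · have he : Γ.D j p ∩ Γ.D j q = ∅ := by
      rw [Finset.eq_empty_iff_forall_notMem]
      intro k2 hk2
      rw [Finset.mem_inter, Γ.mem_D, Γ.mem_D] at hk2
      obtain ⟨q2, _, _, hother2⟩ := shape k2
      have e1 : p = q2 := by
        by_contra hne; have := hother2 p hk2.1 hne; rw [hpq1] at this; omega
      have e2 : q = q2 := by by_contra hne; exact absurd (hother2 q hk2.2 hne) (by omega)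
      exact hpq (e1.trans e2.symm)
    rw [he, hpq1, hdq1, Finset.card_empty]; decide
  · have hd3 := hother1 p (Γ.mem_D.mp hk1) hpq1
    have hle : (Γ.D j p ∩ Γ.D j q).card ≤ 1 := by
      rw [Finset.card_le_one]
      intro x hx y hy
      simp only [Finset.mem_inter, Γ.mem_D] at hx hy
      by_contra hxy
      exact hpq (Γ.uniq_of_one (Γ.col x y j hxy) hx.1 hy.1 hx.2 hy.2)
    have hne : (Γ.D j p ∩ Γ.D j q).card ≠ 0 := by
      intro h0
      rw [Finset.card_eq_zero] at h0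
      have hne' : ∀ x ∈ Γ.D j p, x ≠ k := fun x hx e =>
        Finset.notMem_empty x (h0 ▸ Finset.mem_inter.mpr ⟨hx, Γ.mem_D.mpr (e ▸ hq)⟩)
      choose f hf using fun (x : I) (hx : x ∈ Γ.D j p) => Γ.exists_of_one (Γ.col x k j (hne' x hx))
      have hpk : p ∉ Γ.S k j := fun h => hne' k (Γ.mem_D.mpr h) rfl
      have : (Γ.D j p).card ≤ ((Γ.S k j).erase q).card := by
        refine Finset.card_le_card_of_injOn (fun x => if hx : x ∈ Γ.D j p then f x hx else p) ?_ ?_
        · intro x hx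
          simp only [Finset.mem_coe] at hx ⊢
          rw [dif_pos hx, Finset.mem_erase]
          refine ⟨fun e => ?_, (hf x hx).2⟩
          exact Finset.notMem_empty x (h0 ▸ Finset.mem_inter.mpr ⟨hx, Γ.mem_D.mpr (e ▸ (hf x hx).1)⟩)
        · intro x hx y hy e
          simp only [Finset.mem_coe] at hx hy
          simp only [dif_pos hx, dif_pos hy] at e
          by_contra hxy
          have : p = f x hx := Γ.uniq_of_one (Γ.col x y j hxy) (Γ.mem_D.mp hx) (Γ.mem_D.mp hy)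
            (hf x hx).1 (e ▸ (hf y hy).1)
          exact hpk (this ▸ (hf x hx).2)
      rw [Finset.card_erase_of_mem hq, Γ.card_S, hd3] at this
      omega
    rw [hd3, show (Γ.D j p ∩ Γ.D j q).card = 1 by omega]; decide

theorem four_lines_flat {j l : J} (hjl : j ≠ l) (h4 : Fintype.card I = 4)
    (hle : ∀ p, (Γ.D j p).card ≤ 2) : False := by
  haveI : Nonempty I := Fintype.card_pos_iff.mp (by omega)
  refine Γ.parity hjl (Classical.arbitrary I) Finset.univ (Finset.mem_univ _) fun p => ?_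
  show Even (Γ.D j p).card
  by_cases hp0 : (Γ.D j p).card = 0
  · simp [hp0]
  obtain ⟨i, hi⟩ := Finset.card_pos.mp (Nat.pos_of_ne_zero hp0)
  obtain ⟨a, b, c, hab, hac, hbc, e⟩ := Finset.card_eq_three.mp (Γ.card_S i j)
  have h := Γ.card_I_eq i j
  rw [h4, e, Finset.sum_insert (by simp [hab, hac]), Finset.sum_pair hbc] at h
  have hm := Γ.mem_D.mp hi
  rw [e] at hm
  have := hle a; have := hle b; have := hle c
  simp at hm
  rcases hm with rfl | rfl | rfl
  · rw [show (Γ.D j p).card = 2 by omega]; decide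
  · rw [show (Γ.D j p).card = 2 by omega]; decide
  · rw [show (Γ.D j p).card = 2 by omega]; decide

theorem four_lines_triple {j l : J} (hjl : j ≠ l) (hns : ¬ ∃ c, ∀ i, c ∈ Γ.S i j)
    (h4 : Fintype.card I = 4) {c : K} (hc : (Γ.D j c).card = 3) : False := by
  obtain ⟨i4, hc4⟩ := Γ.exists_not_mem j hns c
  have hcov : ∀ k, k ≠ i4 → c ∈ Γ.S k j := by
    intro k hk
    by_contra hck
    have hsub : Γ.D j c ⊆ Finset.univ \ {k, i4} := by
      intro x hx
      simp only [Finset.mem_sdiff, Finset.mem_univ, true_and, Finset.mem_insert,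
        Finset.mem_singleton, not_or]
      exact ⟨fun e => hck (e ▸ Γ.mem_D.mp hx), fun e => hc4 (e ▸ Γ.mem_D.mp hx)⟩
    have := Finset.card_le_card hsub
    rw [Finset.card_sdiff_of_subset (Finset.subset_univ _), Finset.card_pair hk, Finset.card_univ,
      h4, hc] at this
    omega
  -- every point of the fourth line lies on one of the others
  have hmeet : ∀ p ∈ Γ.S i4 j, ∃ k, k ≠ i4 ∧ p ∈ Γ.S k j := by
    intro p hp
    by_contra hno
    push Not at hno
    have hne : ∀ x ∈ Γ.D j c, x ≠ i4 := fun x hx e => hc4 (e ▸ Γ.mem_D.mp hx)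
    choose f hf using fun (x : I) (hx : x ∈ Γ.D j c) => Γ.exists_of_one (Γ.col x i4 j (hne x hx))
    have : (Γ.D j c).card ≤ ((Γ.S i4 j).erase p).card := by
      refine Finset.card_le_card_of_injOn (fun x => if hx : x ∈ Γ.D j c then f x hx else c) ?_ ?_
      · intro x hx
        simp only [Finset.mem_coe] at hx ⊢
        rw [dif_pos hx, Finset.mem_erase]
        exact ⟨fun e => hno x (hne x hx) (e ▸ (hf x hx).1), (hf x hx).2⟩
      · intro x hx y hy e
        simp only [Finset.mem_coe] at hx hy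
        simp only [dif_pos hx, dif_pos hy] at e
        by_contra hxy
        have : c = f x hx := Γ.uniq_of_one (Γ.col x y j hxy) (Γ.mem_D.mp hx) (Γ.mem_D.mp hy)
          (hf x hx).1 (e ▸ (hf y hy).1)
        exact hc4 (this ▸ (hf x hx).2)
    rw [Finset.card_erase_of_mem hp, Γ.card_S, hc] at this
    omega
  -- uniqueness helper inside the column
  have U : ∀ {i k : I}, i ≠ k → ∀ {p q : K}, p ∈ Γ.S i j → p ∈ Γ.S k j → q ∈ Γ.S i j →
      q ∈ Γ.S k j → p = q := fun {i k} h {_ _} => Γ.uniq_of_one (Γ.col i k j h)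
  have UB : ∀ {i k : I}, i ≠ k → ∀ {p q : K}, p ∈ Γ.S i l → p ∈ Γ.S k l → q ∈ Γ.S i l →
      q ∈ Γ.S k l → p = q := fun {i k} h {_ _} => Γ.uniq_of_one (Γ.col i k l h)
  have UR : ∀ {i : I} {p q : K}, p ∈ Γ.S i j → p ∈ Γ.S i l → q ∈ Γ.S i j → q ∈ Γ.S i l → p = q :=
    fun {_ _ _} => Γ.uniq_of_one (Γ.row _ j l hjl)
  -- the line `i4` of the second column
  obtain ⟨a1, ha14, ha14'⟩ := Γ.exists_of_one (Γ.row i4 j l hjl)
  obtain ⟨k1, hk14, ha11⟩ := hmeet a1 ha14
  have hc1 := hcov k1 hk14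
  have ha1c : a1 ≠ c := fun e => hc4 (e ▸ ha14)
  have s41 : Γ.v i4 l a1 = Γ.v k1 j a1 := by
    rw [← Γ.val_of_one (Γ.row i4 j l hjl) ha14 ha14', Γ.val_of_one (Γ.col i4 k1 j hk14.symm) ha14 ha11]
  obtain ⟨d1, hd1a, hd11, hd14', hu1, hsd1⟩ := Γ.partner (Γ.orth k1 i4 j l hk14 hjl) ha11 ha14'
  have hd1c : d1 ≠ c := by
    intro e; subst e
    -- every other line through `c` would give another point
    have key : ∀ k, k ≠ i4 → k ≠ k1 → ∃ e, e ≠ d1 ∧ e ≠ a1 ∧ e ∈ Γ.S k j ∧ e ∈ Γ.S i4 l := by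
      intro k hk hk'
      obtain ⟨e, he1, he2, he3, -, -⟩ := Γ.partner (Γ.orth k i4 j l hk hjl) (hcov k hk) hd14'
      exact ⟨e, he1, fun e' => he1 (U hk' he2 (e' ▸ ha11) (hcov k hk) hc1), he2, he3⟩
    obtain ⟨k2, hk2⟩ : ∃ k2, k2 ∈ (Finset.univ \ {i4, k1} : Finset I) := Finset.card_pos.mp (by
      rw [Finset.card_sdiff_of_subset (Finset.subset_univ _), Finset.card_pair hk14.symm,
        Finset.card_univ, h4]; omega)
    simp at hk2
    obtain ⟨k3, hk3⟩ : ∃ k3, k3 ∈ (Finset.univ \ {i4, k1, k2} : Finset I) := Finset.card_pos.mp (by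
      rw [Finset.card_sdiff_of_subset (Finset.subset_univ _), Finset.card_univ, h4]
      have := Finset.card_le_three (a := i4) (b := k1) (c := k2)
      omega)
    simp at hk3
    obtain ⟨e2, g1, g2, g3, g4⟩ := key k2 hk2.1 hk2.2
    obtain ⟨e3, f1, f2, f3, f4⟩ := key k3 hk3.1 hk3.2.1
    rcases Γ.eq_three hd1a g1.symm g2.symm hd14' ha14' g4 f4 with e | e | e
    · exact f1 e
    · exact f2 e
    · subst e
      exact g1 (U hk3.2.2 f3 g3 (hcov k3 hk3.1) (hcov k2 hk2.1))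
  have sd : Γ.v k1 j d1 * Γ.v i4 l d1 = -1 := by
    rw [hsd1, s41]; rcases Γ.val ha11 with e | e <;> rw [e] <;> norm_num
  obtain ⟨f, hfa, hfd, hf4, hB4⟩ := Γ.third hd1a.symm ha14' hd14'
  have hfout : ∀ k, k ≠ i4 → k ≠ k1 → f ∉ Γ.S k j := by
    intro k hk hk' hfk
    obtain ⟨e, he1, he2, he3, -, -⟩ := Γ.partner (Γ.orth k i4 j l hk hjl) hfk hf4
    rcases hB4 e he3 with r | r | r
    · subst r; exact ha1c (U hk' he2 ha11 (hcov k hk) hc1)
    · subst r; exact hd1c (U hk' he2 hd11 (hcov k hk) hc1)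
    · exact he1 r
  -- the line `k1`
  obtain ⟨w, hw1, hw1'⟩ := Γ.exists_of_one (Γ.row k1 j l hjl)
  have sw := Γ.val_of_one (Γ.row k1 j l hjl) hw1 hw1'
  have hw : w = a1 := by
    rcases Γ.eq_three ha1c.symm hd1c.symm hd1a.symm hc1 ha11 hd11 hw1 with e | e | e
    · subst e
      obtain ⟨u, hu, hu'⟩ := Γ.exists_of_one (Γ.col k1 i4 l hk14)
      have huf : u = f := by
        rcases hB4 u hu' with r | r | r
        · exact absurd (UR ha11 (r ▸ hu) hw1 hw1') ha1c
        · exact absurd (UR hd11 (r ▸ hu) hw1 hw1') hd1c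
        · exact r
      subst huf
      obtain ⟨k2, hk2⟩ : ∃ k2, k2 ∈ (Finset.univ \ {i4, k1} : Finset I) := Finset.card_pos.mp (by
        rw [Finset.card_sdiff_of_subset (Finset.subset_univ _), Finset.card_pair hk14.symm,
          Finset.card_univ, h4]; omega)
      simp at hk2
      obtain ⟨k3, hk3⟩ : ∃ k3, k3 ∈ (Finset.univ \ {i4, k1, k2} : Finset I) := Finset.card_pos.mp (by
        rw [Finset.card_sdiff_of_subset (Finset.subset_univ _), Finset.card_univ, h4]
        have := Finset.card_le_three (a := i4) (b := k1) (c := k2)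
        omega)
      simp at hk3
      have huw : u ≠ w := fun e => hfout k2 hk2.1 hk2.2 (e ▸ hcov k2 hk2.1)
      obtain ⟨e2, g1, g2, g3, -, -⟩ :=
        Γ.partner (Γ.orth k2 k1 j l hk2.2 hjl) (hcov k2 hk2.1) hw1'
      obtain ⟨e3, f1, f2, f3, -, -⟩ :=
        Γ.partner (Γ.orth k3 k1 j l hk3.2.1 hjl) (hcov k3 hk3.1) hw1'
      have hu2 : u ≠ e2 := fun e => hfout k2 hk2.1 hk2.2 (e ▸ g2)
      rcases Γ.eq_three huw.symm g1.symm hu2 hw1' hu g3 f3 with e | e | e
      · exact absurd e f1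
      · exact absurd (e ▸ f2) (hfout k3 hk3.1 hk3.2.1)
      · exact absurd (U hk3.2.2 f2 (e ▸ g2) (hcov k3 hk3.1) (hcov k2 hk2.1)) f1
    · exact e
    · subst e
      have := Γ.val_of_one (Γ.col k1 i4 l hk14) hw1' hd14'
      rw [← this, ← sw] at sd
      rcases Γ.val hw1 with e | e <;> rw [e] at sd <;> norm_num at sd
  subst hw
  -- second point of `k1` on the fourth line
  obtain ⟨a2, ha2a, ha24, ha21', hu4, hsa2⟩ := Γ.partner (Γ.orth i4 k1 j l hk14.symm hjl) ha14 hw1'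
  obtain ⟨k2, hk24, ha22⟩ := hmeet a2 ha24
  have hk21 : k2 ≠ k1 := by
    intro e; subst e
    exact ha2a (U hk14.symm ha24 ha22 ha14 ha11)
  have hc2 := hcov k2 hk24
  have ha2c : a2 ≠ c := fun e => hc4 (e ▸ ha24)
  have ha12 : w ∉ Γ.S k2 j := fun h => ha1c (U hk21.symm ha11 h hc1 hc2)
  obtain ⟨d2, hd2a, hd22, hd21', hu2, hsd2⟩ := Γ.partner (Γ.orth k2 k1 j l hk21 hjl) ha22 ha21'
  have hd2c : d2 ≠ c := fun e => ha1c (UR ha11 hw1' hc1 (e ▸ hd21'))
  have hd2w : d2 ≠ w := fun e => ha12 (e ▸ hd22)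
  have hB1 : ∀ {x}, x ∈ Γ.S k1 l → x = w ∨ x = a2 ∨ x = d2 := fun {x} hx =>
    Γ.eq_three ha2a.symm hd2w.symm hd2a.symm hw1' ha21' hd21' hx
  have s4a2 : Γ.v i4 j a2 = Γ.v k2 j a2 := Γ.val_of_one (Γ.col i4 k2 j hk24.symm) ha24 ha22
  have s4a1 : Γ.v i4 j w = Γ.v k1 j w := Γ.val_of_one (Γ.col i4 k1 j hk14.symm) ha14 ha11
  have sA2 : Γ.v k2 j a2 * Γ.v k1 l a2 = -1 := by
    rw [← s4a2, hsa2, s4a1, ← sw]; rcases Γ.val ha11 with e | e <;> rw [e] <;> norm_num
  have sD2 : Γ.v k2 j d2 * Γ.v k1 l d2 = 1 := by rw [hsd2, sA2]; norm_num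
  -- the line `k2`
  obtain ⟨x, hx, hx'⟩ := Γ.exists_of_one (Γ.row k2 j l hjl)
  have sx := Γ.val_of_one (Γ.row k2 j l hjl) hx hx'
  obtain ⟨u, hu, hu'⟩ := Γ.exists_of_one (Γ.col k2 k1 l hk21)
  have su := Γ.val_of_one (Γ.col k2 k1 l hk21) hu hu'
  have hx2 : x = d2 := by
    rcases Γ.eq_three ha2c.symm hd2c.symm hd2a.symm hc2 ha22 hd22 hx with e | e | e
    · subst e
      rcases hB1 hu' with r | r | r
      · subst r
        obtain ⟨e, he1, he2, he3, he4, he5⟩ :=
          Γ.partner (Γ.orth k1 k2 j l hk21.symm hjl) ha11 hu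
        rcases he4 x hc1 hx' with r | r
        · exact absurd r.symm ha1c
        · subst r
          rw [← sx, Γ.val_of_one (Γ.col k1 k2 j hk21.symm) hc1 hc2, su, ← sw] at he5
          rcases Γ.val hx with e | e <;> rcases Γ.val ha11 with e' | e' <;> rw [e, e'] at he5 <;>
            norm_num at he5
      · exact absurd (UR hx hx' ha22 (r ▸ hu)).symm ha2c
      · exact absurd (UR hx hx' hd22 (r ▸ hu)).symm hd2c
    · subst e
      rw [← Γ.val_of_one (Γ.col k2 k1 l hk21) hx' ha21', ← sx] at sA2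
      rcases Γ.val hx with e | e <;> rw [e] at sA2 <;> norm_num at sA2
    · exact e
  subst hx2
  have hw2 : w ∉ Γ.S k2 l := fun h => hd2w (UB hk21 h hw1' hx' hd21').symm
  have hc2' : c ∉ Γ.S k2 l := fun h => hd2c (UR hx hx' hc2 h)
  have ha22' : a2 ∉ Γ.S k2 l := fun h => hd2a (UR hx hx' ha22 h)
  have hd12' : d1 ∉ Γ.S k2 l := by
    intro h
    obtain ⟨e, he1, he2, he3, -, -⟩ := Γ.partner (Γ.orth k1 k2 j l hk21.symm hjl) hd11 h
    rcases Γ.eq_three ha1c.symm hd1c.symm hd1a.symm hc1 ha11 hd11 he2 with r | r | r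
    · exact hc2' (r ▸ he3)
    · exact hw2 (r ▸ he3)
    · exact he1 r
  -- the remaining line
  obtain ⟨k3, hk3⟩ : ∃ k3, k3 ∈ (Finset.univ \ {i4, k1, k2} : Finset I) := Finset.card_pos.mp (by
    rw [Finset.card_sdiff_of_subset (Finset.subset_univ _), Finset.card_univ, h4]
    have := Finset.card_le_three (a := i4) (b := k1) (c := k2)
    omega)
  simp at hk3
  obtain ⟨hk34, hk31, hk32⟩ := hk3
  have hc3 := hcov k3 hk34
  obtain ⟨t, ht, ht'⟩ := Γ.exists_of_one (Γ.col k3 k1 l hk31)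
  have st := Γ.val_of_one (Γ.col k3 k1 l hk31) ht ht'
  obtain ⟨r4, hr4, hr4'⟩ := Γ.exists_of_one (Γ.col k3 i4 l hk34)
  obtain ⟨r2, hr2, hr2'⟩ := Γ.exists_of_one (Γ.col k3 k2 l hk32)
  rcases hB1 ht' with r | r | r
  · subst r
    obtain ⟨e, he1, he2, he3, -, he5⟩ := Γ.partner (Γ.orth k1 k3 j l (Ne.symm hk31) hjl) ha11 ht
    rcases Γ.eq_three ha1c.symm hd1c.symm hd1a.symm hc1 ha11 hd11 he2 with r | r | r
    · subst r
      rw [← Γ.val_of_one (Γ.row k3 j l hjl) hc3 he3,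
        Γ.val_of_one (Γ.col k1 k3 j (Ne.symm hk31)) hc1 hc3, st, ← sw] at he5
      rcases Γ.val hc3 with e | e <;> rcases Γ.val ha11 with e' | e' <;> rw [e, e'] at he5 <;>
        norm_num at he5
    · exact he1 r
    · subst r
      exact hd1a (UB hk34 he3 hd14' ht ha14')
  · subst r
    obtain ⟨e, he1, he2, he3, -, -⟩ := Γ.partner (Γ.orth k2 k3 j l (Ne.symm hk32) hjl) ha22 ht
    rcases Γ.eq_three ha2c.symm hd2c.symm hd2a.symm hc2 ha22 hd22 he2 with r | r | r
    · subst r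
      obtain ⟨g, hg1, hg2, hg3, -, -⟩ := Γ.partner (Γ.orth k1 k3 j l (Ne.symm hk31) hjl) hc1 he3
      rcases Γ.eq_three ha1c.symm hd1c.symm hd1a.symm hc1 ha11 hd11 hg2 with r | r | r
      · exact hg1 r
      · exact ha2a (UB hk31 ht ha21' (r ▸ hg3) hw1')
      · subst r
        rcases Γ.eq_three ha2c.symm hg1.symm (fun e => hd1a (U hk14.symm ha24 (e ▸ hd11) ha14 ha11 |>.symm ▸ e).symm) he3 ht hg3 hr2 with r | r | r
        · exact hc2' (r ▸ hr2')
        · exact ha22' (r ▸ hr2')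
        · exact hd12' (r ▸ hr2')
    · exact he1 r
    · exact hd2a (UB hk31 (r ▸ he3) hd21' ht ha21')
  · subst r
    obtain ⟨e, he1, he2, he3, -, he5⟩ := Γ.partner (Γ.orth k2 k3 j l (Ne.symm hk32) hjl) hd22 ht
    rcases Γ.eq_three ha2c.symm hd2c.symm hd2a.symm hc2 ha22 hd22 he2 with r | r | r
    · subst r
      rw [← Γ.val_of_one (Γ.row k3 j l hjl) hc3 he3,
        Γ.val_of_one (Γ.col k2 k3 j (Ne.symm hk32)) hc2 hc3, st, sD2] at he5
      rcases Γ.val hc3 with e | e <;> rw [e] at he5 <;> norm_num at he5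
    · exact hd2a (UB hk31 ht hd21' (r ▸ he3) ha21')
    · exact he1 r

/-- With at least four rows every column has a common point. -/
theorem exists_center (hI : 4 ≤ Fintype.card I) (hIe : Even (Fintype.card I)) {j l : J}
    (hjl : j ≠ l) : ∃ c, ∀ i, c ∈ Γ.S i j := by
  by_contra hns
  haveI : Nonempty I := Fintype.card_pos_iff.mp (by omega)
  let i : I := Classical.arbitrary I
  have h := Γ.card_I_eq i j
  have h' : ∑ p ∈ Γ.S i j, ((Γ.D j p).card - 1) ≤ 6 :=
    (Finset.sum_le_card_nsmul _ _ 2 fun p _ => by have := Γ.card_D_le hns p; omega).trans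
      (by rw [Γ.card_S]; rfl)
  obtain ⟨k, hk⟩ := hIe
  have h46 : Fintype.card I = 4 ∨ Fintype.card I = 6 := by omega
  rcases h46 with h4 | h6
  · by_cases hc : ∃ c, (Γ.D j c).card = 3
    · obtain ⟨c, hc⟩ := hc
      exact Γ.four_lines_triple hjl hns h4 hc
    · push Not at hc
      exact Γ.four_lines_flat hjl h4 fun p => by
        have := Γ.card_D_le hns p; have := hc p; omega
  · exact Γ.six_lines hjl hns h6

theorem exists_other (hI : 4 ≤ Fintype.card I) (s : Finset I) (hs : s.card ≤ 3) :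
    ∃ k, k ∉ s := by
  obtain ⟨k, hk⟩ : ∃ k, k ∈ Finset.univ \ s := Finset.card_pos.mp (by
    rw [Finset.card_sdiff_of_subset (Finset.subset_univ _), Finset.card_univ]; omega)
  exact ⟨k, by simpa using hk⟩

theorem center_not_mem (hI : 4 ≤ Fintype.card I) {j l : J} (hjl : j ≠ l) {c : K}
    (hc : ∀ i, c ∈ Γ.S i j) (i : I) : c ∉ Γ.S i l := by
  intro hci
  choose p hp using fun k : {k : I // k ≠ i} => Γ.partner (Γ.orth k.1 i j l k.2 hjl) (hc k.1) hci
  have hinj : ∀ a b, p a = p b → a = b := by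
    intro a b e
    by_contra hab
    exact (hp a).1 (Γ.uniq_of_one (Γ.col a.1 b.1 j (fun h => hab (Subtype.ext h)))
      (hp a).2.1 (e ▸ (hp b).2.1) (hc _) (hc _))
  have : Fintype.card {k : I // k ≠ i} ≤ ((Γ.S i l).erase c).card := by
    rw [← Fintype.card_coe]
    exact Fintype.card_le_of_injective
      (fun a => ⟨p a, Finset.mem_erase.mpr ⟨(hp a).1, (hp a).2.2.1⟩⟩)
      (fun a b e => hinj a b (congrArg Subtype.val e))
  rw [Finset.card_erase_of_mem hci, Γ.card_S, Fintype.card_subtype_compl, Fintype.card_subtype_eq] at this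
  omega

theorem disjoint_other (hI : 4 ≤ Fintype.card I) {j l : J} (hjl : j ≠ l) {c c' : K}
    (hc : ∀ i, c ∈ Γ.S i j) (hc' : ∀ i, c' ∈ Γ.S i l) {i k : I} (hik : i ≠ k) {p : K}
    (hp : p ∈ Γ.S i l) : p ∉ Γ.S k j := by
  intro hpk
  obtain ⟨q, hqp, hqk, hqi, -, -⟩ := Γ.partner (Γ.orth k i j l hik.symm hjl) hpk hp
  obtain ⟨w, hw, hw'⟩ := Γ.exists_of_one (Γ.row k j l hjl)
  have hc'j := Γ.center_not_mem hI hjl.symm hc'
  have hwe : w = p ∨ w = q := by
    by_contra hcon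
    push Not at hcon
    have hcj := Γ.center_not_mem hI hjl hc
    rcases Γ.eq_three hqp.symm (fun e : p = c => hcj i (e ▸ hp)) (fun e : q = c => hcj i (e ▸ hqi))
      hpk hqk (hc k) hw with e | e | e
    · exact hcon.1 e
    · exact hcon.2 e
    · exact hcj k (e ▸ hw')
  have hwi : w ∈ Γ.S i l := by rcases hwe with e | e <;> rw [e] <;> assumption
  have := Γ.uniq_of_one (Γ.col i k l hik) hwi hw' (hc' i) (hc' k)
  exact hc'j k (this ▸ hw)

end Column

/-- The shape of the grid. -/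
def Solved : Prop :=
  ∃ (a : I → ℤ) (z : I → K) (b : J → ℤ) (c : J → K) (d : I → J → ℤ) (y : I → J → K),
    (∀ i, a i = 1 ∨ a i = -1) ∧ (∀ j, b j = 1 ∨ b j = -1) ∧ (∀ i j, d i j = 1 ∨ d i j = -1) ∧
    Function.Injective z ∧ Function.Injective c ∧ Function.Injective (fun p : I × J => y p.1 p.2) ∧
    (∀ i j, z i ≠ c j) ∧ (∀ k i j, z k ≠ y i j) ∧ (∀ k i j, c k ≠ y i j) ∧
    ∀ i j x, Γ.v i j x = (if x = z i then a i else 0) + (if x = c j then b j else 0)
      + (if x = y i j then d i j else 0)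

theorem Solved.of_swap (h : Γ.swap.Solved) : Γ.Solved := by
  obtain ⟨a, z, b, c, d, y, ha, hb, hd, hz, hc, hy, hzc, hzy, hcy, hv⟩ := h
  refine ⟨b, c, a, z, fun i j => d j i, fun i j => y j i, hb, ha, fun i j => hd j i, hc, hz,
    fun p q e => ?_, fun i j e => hzc j i e.symm, fun k i j => hcy k j i, fun k i j => hzy k j i,
    fun i j x => ?_⟩
  · have := hy (a₁ := (p.2, p.1)) (a₂ := (q.2, q.1)) e
    simp only [Prod.mk.injEq] at this
    exact Prod.ext this.2 this.1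
  · have := hv j i x
    simp only [swap] at this
    rw [this]; ring

theorem solved_of_card [Fintype I] [DecidableEq I] [Fintype J] [DecidableEq J]
    (hI : 4 ≤ Fintype.card I) (hIe : Even (Fintype.card I)) (hJ : 2 ≤ Fintype.card J)
    (hJe : Even (Fintype.card J)) : Γ.Solved := by
  haveI : Nontrivial J := Fintype.one_lt_card_iff_nontrivial.mp hJ
  have hcen : ∀ j, ∃ c, ∀ i, c ∈ Γ.S i j := fun j => by
    obtain ⟨l, hl⟩ := exists_ne j
    exact Γ.exists_center hI hIe hl.symm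
  choose c hc using hcen
  have hcnot : ∀ {j l}, j ≠ l → ∀ i, c j ∉ Γ.S i l := fun h => Γ.center_not_mem hI h (hc _)
  have hrow : ∀ i, ∃ z, ∀ j, z ∈ Γ.S i j ∧ z ≠ c j := by
    intro i
    have meet : ∀ {j l}, j ≠ l → ∀ {p}, p ∈ Γ.S i j → p ∈ Γ.S i l → p ≠ c j :=
      fun {j l} h {p} _ hp' e => hcnot h i (e ▸ hp')
    obtain ⟨j1, j2, h12⟩ := exists_pair_ne J
    obtain ⟨z, hz1, hz2⟩ := Γ.exists_of_one (Γ.row i j1 j2 h12)
    refine ⟨z, fun j => ?_⟩
    by_cases e1 : j = j1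
    · subst e1; exact ⟨hz1, meet h12 hz1 hz2⟩
    by_cases e2 : j = j2
    · subst e2; exact ⟨hz2, meet h12.symm hz2 hz1⟩
    suffices hz : z ∈ Γ.S i j from ⟨hz, meet e1 hz hz1⟩
    by_contra hz
    obtain ⟨a, ha, ha1⟩ := Γ.exists_of_one (Γ.row i j j1 e1)
    obtain ⟨b, hb, hb2⟩ := Γ.exists_of_one (Γ.row i j j2 e2)
    have hza : z ≠ a := fun e => hz (e ▸ ha)
    have hzb : z ≠ b := fun e => hz (e ▸ hb)
    have hab : a ≠ b := by
      intro e; subst e
      exact hza (Γ.uniq_of_one (Γ.row i j1 j2 h12) hz1 hz2 ha1 hb2)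
    obtain ⟨j4, hj4⟩ : ∃ j4, j4 ∈ (Finset.univ \ {j, j1, j2} : Finset J) := Finset.card_pos.mp (by
      have h3 : ({j, j1, j2} : Finset J).card = 3 := by
        rw [Finset.card_eq_three]; exact ⟨j, j1, j2, e1, e2, h12, rfl⟩
      have := Finset.card_le_univ ({j, j1, j2} : Finset J)
      obtain ⟨k, hk⟩ := hJe
      rw [Finset.card_sdiff_of_subset (Finset.subset_univ _), Finset.card_univ, h3]
      omega)
    simp at hj4
    obtain ⟨h4, h41, h42⟩ := hj4
    -- the two pairs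
    have P1 : ∀ {p}, p ∈ Γ.S i j1 → p = c j1 ∨ p = z ∨ p = a := fun {p} hp =>
      Γ.eq_three (meet h12 hz1 hz2).symm (meet (Ne.symm e1) ha1 ha).symm hza (hc j1 i) hz1 ha1 hp
    have P2 : ∀ {p}, p ∈ Γ.S i j2 → p = c j2 ∨ p = z ∨ p = b := fun {p} hp =>
      Γ.eq_three (meet h12.symm hz2 hz1).symm (meet (Ne.symm e2) hb2 hb).symm hzb (hc j2 i) hz2 hb2 hp
    have P : ∀ {p}, p ∈ Γ.S i j → p = c j ∨ p = a ∨ p = b := fun {p} hp =>
      Γ.eq_three (meet e1 ha ha1).symm (meet e2 hb hb2).symm hab (hc j i) ha hb hp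
    obtain ⟨p, hp, hp'⟩ := Γ.exists_of_one (Γ.row i j4 j h4)
    obtain ⟨q, hq, hq'⟩ := Γ.exists_of_one (Γ.row i j4 j1 h41)
    obtain ⟨r, hr, hr'⟩ := Γ.exists_of_one (Γ.row i j4 j2 h42)
    have p' : p = a ∨ p = b :=
      (P hp').resolve_left fun e => hcnot (Ne.symm h4) i (e ▸ hp)
    have q' : q = z ∨ q = a :=
      (P1 hq').resolve_left fun e => hcnot (Ne.symm h41) i (e ▸ hq)
    have r' : r = z ∨ r = b :=
      (P2 hr').resolve_left fun e => hcnot (Ne.symm h42) i (e ▸ hr)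
    rcases p' with rfl | rfl
    · rcases r' with rfl | rfl
      · exact hza (Γ.uniq_of_one (Γ.row i j4 j1 h41) hr hz1 hp ha1)
      · exact hab (Γ.uniq_of_one (Γ.row i j4 j h4) hp hp' hr hb)
    · rcases q' with rfl | rfl
      · exact hzb (Γ.uniq_of_one (Γ.row i j4 j2 h42) hq hz2 hp hb2)
      · exact hab (Γ.uniq_of_one (Γ.row i j4 j h4) hq ha hp hp')
  choose z hz using hrow
  choose y hy using fun i j => Γ.third (hz i j).2 (hz i j).1 (hc j i)
  haveI : Nonempty I := Fintype.card_pos_iff.mp (by omega)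
  let j0 : J := Classical.arbitrary J
  let i0 : I := Classical.arbitrary I
  refine ⟨fun i => Γ.v i j0 (z i), z, fun j => Γ.v i0 j (c j), c, fun i j => Γ.v i j (y i j), y,
    fun i => Γ.val (hz i j0).1, fun j => Γ.val (hc j i0), fun i j => Γ.val (hy i j).2.2.1,
    ?_, ?_, ?_, ?_, ?_, ?_, ?_⟩
  · intro i i' e
    by_contra hne
    exact (hz i j0).2 (Γ.uniq_of_one (Γ.col i i' j0 hne) (hz i j0).1 (e ▸ (hz i' j0).1)
      (hc j0 i) (hc j0 i'))
  · intro j j' e
    by_contra hne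
    exact hcnot hne i0 (e ▸ hc j' i0)
  · rintro ⟨i, j⟩ ⟨i', j'⟩ e
    simp only at e
    by_contra hne
    by_cases hi : i = i'
    · subst hi
      have hj : j ≠ j' := fun e => hne (e ▸ rfl)
      exact (hy i j).1 (Γ.uniq_of_one (Γ.row i j j' hj) (hy i j).2.2.1 (e ▸ (hy i j').2.2.1)
        (hz i j).1 (hz i j').1)
    · by_cases hj : j = j'
      · subst hj
        exact (hy i j).2.1 (Γ.uniq_of_one (Γ.col i i' j hi) (hy i j).2.2.1 (e ▸ (hy i' j).2.2.1)
          (hc j i) (hc j i'))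
      · exact Γ.disjoint_other hI (Ne.symm hj) (hc j') (hc j) hi (hy i j).2.2.1
          (e ▸ (hy i' j').2.2.1)
  · intro i j; exact (hz i j).2
  · intro k i j e
    by_cases hki : k = i
    · subst hki; exact (hy k j).1 e.symm
    · exact (hy i j).2.1 (Γ.uniq_of_one (Γ.col i k j (Ne.symm hki)) (hy i j).2.2.1
        (e ▸ (hz k j).1) (hc j i) (hc j k))
  · intro k i j e
    by_cases hkj : k = j
    · subst hkj; exact (hy i k).2.1 e.symm
    · exact hcnot hkj i (e ▸ (hy i j).2.2.1)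
  · intro i j x
    have hzc := (hz i j).2
    obtain ⟨hyz, hyc, hym, hall⟩ := hy i j
    have ea : Γ.v i j0 (z i) = Γ.v i j (z i) := by
      by_cases e : j0 = j
      · rw [e]
      · exact Γ.val_of_one (Γ.row i j0 j e) (hz i j0).1 (hz i j).1
    have eb : Γ.v i0 j (c j) = Γ.v i j (c j) := by
      by_cases e : i0 = i
      · rw [e]
      · exact Γ.val_of_one (Γ.col i0 i j e) (hc j i0) (hc j i)
    beta_reduce
    rw [ea, eb]
    by_cases hx : x ∈ Γ.S i j
    · rcases hall x hx with rfl | rfl | rfl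
      · rw [if_pos rfl, if_neg hzc, if_neg hyz.symm]; ring
      · rw [if_neg hzc.symm, if_pos rfl, if_neg hyc.symm]; ring
      · rw [if_neg hyz, if_neg hyc, if_pos rfl]; ring
    · have n1 : x ≠ z i := fun e => hx (e ▸ (hz i j).1)
      have n2 : x ≠ c j := fun e => hx (e ▸ hc j i)
      have n3 : x ≠ y i j := fun e => hx (e ▸ hym)
      rw [if_neg n1, if_neg n2, if_neg n3, Γ.eq_zero_of_not_mem hx]; ring

/-- Main statement. -/
theorem solved [Fintype I] [DecidableEq I] [Fintype J] [DecidableEq J]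
    (hI : 2 ≤ Fintype.card I) (hJ : 2 ≤ Fintype.card J) (hIe : Even (Fintype.card I))
    (hJe : Even (Fintype.card J)) (h4 : 4 ≤ Fintype.card I ∨ 4 ≤ Fintype.card J) : Γ.Solved := by
  rcases h4 with h | h
  · exact Γ.solved_of_card h hIe hJ hJe
  · exact Solved.of_swap Γ (Γ.swap.solved_of_card h hJe hI hIe)

end Grid

end Cfsg.Agent.Lib.OddChar.TIGrid
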