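import Cfsg.Agent.Lib.Characters.Ortho
import Cfsg.Agent.S1498
import Cfsg.Prelude.Def_OddOrderChar
import Mathlib.Data.Nat.ChineseRemainder

/-!
The Dade map: value, class-function property and the basic averaging identity.
-/

namespace Cfsg.Agent.Lib.OddChar

open Cfsg.Agent.Lib.Characters
open scoped ComplexConjugate Classical

set_option linter.unusedSectionVars false
set_option linter.style.haveILetI false

universe u

variable {G : Type u} [Group G] [Fintype G] {A : Set G} {L : Subgroup G} {H : G → Subgroup G}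
  (hD : Cfsg.DadeHypothesis A L H)

include hD

theorem dade_commute {a u : G} (ha : a ∈ A) (hu : u ∈ H a) : Commute a u :=
  (Subgroup.mem_centralizer_singleton_iff.mp (hD.le_centralizer a ha hu)).symm

theorem dade_mem_inf {a : G} (ha : a ∈ A) : a ∈ L ⊓ Subgroup.centralizer ({a} : Set G) :=
  ⟨hD.subset ha, Subgroup.mem_centralizer_singleton_iff.mpr rfl⟩

theorem dade_coprime_order {a b u : G} (ha : a ∈ A) (hb : b ∈ A) (hu : u ∈ H a) :
    Nat.Coprime (orderOf b) (orderOf u) :=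
  (((hD.coprime a ha b hb).coprime_dvd_left ((H a).orderOf_dvd_natCard hu)).coprime_dvd_right
    (Subgroup.orderOf_dvd_natCard _ (dade_mem_inf hD hb))).symm

/-- Conjugacy between two Dade cosets is conjugacy of the base points. -/
theorem dade_key {a b u v g : G} (ha : a ∈ A) (hb : b ∈ A) (hu : u ∈ H a) (hv : v ∈ H b)
    (he : g * (a * u) * g⁻¹ = b * v) : g * a * g⁻¹ = b := by
  obtain ⟨n, hn1, hn2⟩ := Nat.chineseRemainder
    (Nat.Coprime.mul_left (Nat.Coprime.mul_right (dade_coprime_order hD ha ha hu) (dade_coprime_order hD hb ha hv))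
      (Nat.Coprime.mul_right (dade_coprime_order hD ha hb hu) (dade_coprime_order hD hb hb hv))) 1 0
  have hp : ∀ c w : G, Commute c w → orderOf c ∣ orderOf a * orderOf b →
      orderOf w ∣ orderOf u * orderOf v → (c * w) ^ n = c := by
    intro c w hcw hc hw
    rw [hcw.mul_pow]
    have e1 : c ^ n = c := by
      conv_rhs => rw [← pow_one c]
      exact pow_eq_pow_iff_modEq.mpr (hn1.of_dvd hc)
    have e2 : w ^ n = 1 := by
      rw [← orderOf_dvd_iff_pow_eq_one]
      exact hw.trans (Nat.modEq_zero_iff_dvd.mp hn2)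
    rw [e1, e2, mul_one]
  calc g * a * g⁻¹ = (g * (a * u) * g⁻¹) ^ n := by
        rw [conj_pow, hp a u (dade_commute hD ha hu) (dvd_mul_right _ _) (dvd_mul_right _ _)]
    _ = b := by rw [he, hp b v (dade_commute hD hb hv) (dvd_mul_left _ _) (dvd_mul_left _ _)]

/-- An element moving `a` inside `A` is a product of an element of `L` and an element of `C(a)`. -/
theorem dade_split {a y : G} (ha : a ∈ A) (hy : y * a * y⁻¹ ∈ A) :
    ∃ l ∈ L, ∃ c ∈ Subgroup.centralizer ({a} : Set G), y = l * c ∧ l * a * l⁻¹ = y * a * y⁻¹ := by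
  obtain ⟨l, hl, he⟩ := hD.fusion a ha y hy
  refine ⟨l, hl, l⁻¹ * y, ?_, by group, he⟩
  rw [Subgroup.mem_centralizer_singleton_iff]
  calc l⁻¹ * y * a = l⁻¹ * (y * a * y⁻¹) * y := by group
    _ = l⁻¹ * (l * a * l⁻¹) * y := by rw [he]
    _ = a * (l⁻¹ * y) := by group

theorem dade_mem_H_conj {a x u : G} (ha : a ∈ A) (hx : x ∈ L) :
    u ∈ H (x * a * x⁻¹) ↔ x⁻¹ * u * x ∈ H a := by
  rw [Cfsg.Agent.S1498.result A L H hD a ha x hx, Subgroup.mem_map]
  constructor
  · rintro ⟨v, hv, rfl⟩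
    simpa [mul_assoc] using hv
  · exact fun h => ⟨_, h, by simp [mul_assoc]⟩

theorem dade_H_transport {a y u : G} (ha : a ∈ A) (hy : y * a * y⁻¹ ∈ A) (hu : u ∈ H a) :
    y * u * y⁻¹ ∈ H (y * a * y⁻¹) := by
  obtain ⟨l, hl, c, hc, rfl, he⟩ := dade_split hD ha hy
  rw [← he, dade_mem_H_conj hD ha hl]
  have := hD.conj_mem_H a ha c hc u hu
  have e : l⁻¹ * (l * c * u * (l * c)⁻¹) * l = c * u * c⁻¹ := by group
  rwa [e]

theorem dade_card_H {a y : G} (ha : a ∈ A) (hy : y * a * y⁻¹ ∈ A) :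
    Nat.card (H (y * a * y⁻¹)) = Nat.card (H a) := by
  obtain ⟨l, hl, c, hc, rfl, he⟩ := dade_split hD ha hy
  rw [← he, Cfsg.Agent.S1498.result A L H hD a ha l hl]
  exact Subgroup.card_map_of_injective (MulAut.conj l).injective

theorem dade_card_movers {a : G} (ha : a ∈ A) :
    Nat.card {y : G // y * a * y⁻¹ ∈ A} = Nat.card L * Nat.card (H a) := by
  rw [← Nat.card_prod]
  refine (Nat.card_congr (Equiv.ofBijective
    (fun p : L × H a => (⟨(p.1 : G) * (p.2 : G), ?_⟩ : {y : G // y * a * y⁻¹ ∈ A})) ⟨?_, ?_⟩)).symm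
  · have e : (p.1 : G) * p.2 * a * ((p.1 : G) * p.2)⁻¹ = p.1 * a * (p.1 : G)⁻¹ := by
      rw [mul_assoc (p.1 : G), ← (dade_commute hD ha p.2.2).eq]; group
    exact e ▸ hD.conj_mem p.1 p.1.2 a ha
  · rintro ⟨l, u⟩ ⟨m, v⟩ hh
    have hh' : (l : G) * u = m * v := congrArg Subtype.val hh
    have e : (m : G)⁻¹ * l = v * (u : G)⁻¹ := by
      calc (m : G)⁻¹ * l = (m : G)⁻¹ * (l * u) * (u : G)⁻¹ := by group
        _ = v * (u : G)⁻¹ := by rw [hh']; group
    have hm : (m : G)⁻¹ * l ∈ H a ⊓ (L ⊓ Subgroup.centralizer ({a} : Set G)) := by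
      have h1 : (m : G)⁻¹ * l ∈ H a := e ▸ (H a).mul_mem v.2 ((H a).inv_mem u.2)
      exact ⟨h1, L.mul_mem (L.inv_mem m.2) l.2, hD.le_centralizer a ha h1⟩
    rw [hD.inf_eq_bot a ha, Subgroup.mem_bot, inv_mul_eq_one] at hm
    refine Prod.ext (Subtype.ext hm.symm) (Subtype.ext ?_)
    rw [← hm] at hh'
    exact mul_left_cancel hh'
  · rintro ⟨y, hy⟩
    obtain ⟨l, hl, c, hc, rfl, -⟩ := dade_split hD ha hy
    have hn : L ⊓ Subgroup.centralizer ({a} : Set G) ≤ Subgroup.normalizer (H a : Set G) := by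
      intro d hd
      rw [Subgroup.mem_set_normalizer_iff]
      intro v
      refine ⟨hD.conj_mem_H a ha d hd.2 v, fun hv => ?_⟩
      have := hD.conj_mem_H a ha d⁻¹ (Subgroup.inv_mem _ hd.2) _ hv
      simpa [mul_assoc] using this
    rw [← hD.sup_eq a ha, sup_comm, ← SetLike.mem_coe,
      Subgroup.coe_mul_of_left_le_normalizer_right _ _ hn] at hc
    obtain ⟨d, hd, v, hv, rfl⟩ := Set.mem_mul.mp hc
    exact ⟨(⟨l * d, L.mul_mem hl hd.1⟩, ⟨v, hv⟩), Subtype.ext (mul_assoc l d v)⟩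

section

variable [Fintype L] {α : L → ℂ} (hα : Cfsg.IsClassFunction L α)

include hα

theorem dade_apply {a : L} (ha : (a : G) ∈ A) {x g u : G} (hu : u ∈ H (a : G))
    (he : x * g * x⁻¹ = (a : G) * u) : Cfsg.dadeIsometry A L H α g = α a := by
  have h : ∃ a : L, (a : G) ∈ A ∧ ∃ x : G, ∃ u ∈ H (a : G), x * g * x⁻¹ = (a : G) * u :=
    ⟨a, ha, x, u, hu, he⟩
  rw [show Cfsg.dadeIsometry A L H α g = α (Classical.choose h) from dif_pos h]
  obtain ⟨hb, y, v, hv, he'⟩ := Classical.choose_spec h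
  set b := Classical.choose h
  have hk := dade_key hD ha hb hu hv (g := y * x⁻¹) (by
    rw [← he, ← he']; group)
  obtain ⟨l, hl, hle⟩ := hD.fusion (a : G) ha (y * x⁻¹) (hk.symm ▸ hb)
  have : (⟨l, hl⟩ : L) * a * (⟨l, hl⟩ : L)⁻¹ = b := Subtype.ext (hle.trans hk)
  rw [← this, hα]

omit hα in
theorem dade_eq_zero {g : G}
    (h : ¬ ∃ a : L, (a : G) ∈ A ∧ ∃ x : G, ∃ u ∈ H (a : G), x * g * x⁻¹ = (a : G) * u) :
    Cfsg.dadeIsometry A L H α g = 0 :=
  dif_neg h

theorem dade_apply_coset {a : L} (ha : (a : G) ∈ A) (u : H (a : G)) :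
    Cfsg.dadeIsometry A L H α ((a : G) * u) = α a :=
  dade_apply hD hα ha (x := 1) u.2 (by group)

theorem dade_classFunction : Cfsg.IsClassFunction G (Cfsg.dadeIsometry A L H α) := by
  intro g k
  by_cases h : ∃ a : L, (a : G) ∈ A ∧ ∃ x : G, ∃ u ∈ H (a : G), x * g * x⁻¹ = (a : G) * u
  · obtain ⟨a, ha, x, u, hu, he⟩ := h
    rw [dade_apply hD hα ha hu he, dade_apply hD hα ha (x := x * k⁻¹) hu (by rw [← he]; group)]
  · rw [dade_eq_zero hD h, dade_eq_zero hD]
    rintro ⟨a, ha, x, u, hu, he⟩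
    exact h ⟨a, ha, x * k, u, hu, by rw [← he]; group⟩

/-- Counting the ways an element lies in a Dade coset. -/
theorem dade_weight (g : G) :
    ∑ x : G, ∑ a : L, (if (a : G) ∈ A ∧ (a : G)⁻¹ * (x * g * x⁻¹) ∈ H (a : G) then
      α a * (Nat.card (H (a : G)) : ℂ)⁻¹ else 0) =
      (Nat.card L : ℂ) * Cfsg.dadeIsometry A L H α g := by
  by_cases h : ∃ a : L, (a : G) ∈ A ∧ ∃ x : G, ∃ u ∈ H (a : G), x * g * x⁻¹ = (a : G) * u
  · obtain ⟨a₀, ha₀, x₀, u₀, hu₀, he₀⟩ := h
    rw [dade_apply hD hα ha₀ hu₀ he₀]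
    have inner : ∀ x : G, ∑ a : L, (if (a : G) ∈ A ∧ (a : G)⁻¹ * (x * g * x⁻¹) ∈ H (a : G) then
        α a * (Nat.card (H (a : G)) : ℂ)⁻¹ else 0) =
        if (x * x₀⁻¹) * a₀ * (x * x₀⁻¹)⁻¹ ∈ A then α a₀ * (Nat.card (H (a₀ : G)) : ℂ)⁻¹ else 0 := by
      intro x
      have hxg : (x * x₀⁻¹) * ((a₀ : G) * u₀) * (x * x₀⁻¹)⁻¹ = x * g * x⁻¹ := by
        rw [← he₀]; group
      have huniq : ∀ a : L, (a : G) ∈ A → (a : G)⁻¹ * (x * g * x⁻¹) ∈ H (a : G) →
          (a : G) = (x * x₀⁻¹) * a₀ * (x * x₀⁻¹)⁻¹ := fun a ha hm =>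
        (dade_key hD ha₀ ha hu₀ hm (g := x * x₀⁻¹) (by rw [hxg]; group)).symm
      split_ifs with hA
      · set b : L := ⟨_, hD.subset hA⟩
        rw [Finset.sum_eq_single b]
        · have hm : (b : G)⁻¹ * (x * g * x⁻¹) ∈ H (b : G) := by
            have := dade_H_transport hD ha₀ hA hu₀
            convert this using 1
            rw [← hxg]
            show ((x * x₀⁻¹) * a₀ * (x * x₀⁻¹)⁻¹)⁻¹ * _ = _
            group
          rw [if_pos ⟨hA, hm⟩]
          obtain ⟨l, hl, hle⟩ := hD.fusion (a₀ : G) ha₀ (x * x₀⁻¹) hA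
          have e : (⟨l, hl⟩ : L) * a₀ * (⟨l, hl⟩ : L)⁻¹ = b := Subtype.ext hle
          have hc : Nat.card (H (b : G)) = Nat.card (H (a₀ : G)) := dade_card_H hD ha₀ hA
          rw [hc, ← e, hα]
        · intro a _ hne
          rw [if_neg]
          rintro ⟨ha, hm⟩
          exact hne (Subtype.ext (huniq a ha hm))
        · exact fun hb => absurd (Finset.mem_univ _) hb
      · refine Finset.sum_eq_zero fun a _ => if_neg ?_
        rintro ⟨ha, hm⟩
        exact hA (huniq a ha hm ▸ ha)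
    rw [Finset.sum_congr rfl fun x _ => inner x, Fintype.sum_equiv (Equiv.mulRight x₀⁻¹)
      (fun x : G => if (x * x₀⁻¹) * a₀ * (x * x₀⁻¹)⁻¹ ∈ A then
        α a₀ * (Nat.card (H (a₀ : G)) : ℂ)⁻¹ else 0)
      (fun y : G => if y * a₀ * y⁻¹ ∈ A then α a₀ * (Nat.card (H (a₀ : G)) : ℂ)⁻¹ else 0)
      (fun x => rfl), ← Finset.sum_filter, Finset.sum_const, nsmul_eq_mul,
      ← Fintype.card_subtype, ← Nat.card_eq_fintype_card, dade_card_movers hD ha₀]
    have : (Nat.card (H (a₀ : G)) : ℂ) ≠ 0 := by exact_mod_cast Nat.card_pos.ne'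
    push_cast
    field_simp
  · rw [dade_eq_zero hD h, mul_zero]
    refine Finset.sum_eq_zero fun x _ => Finset.sum_eq_zero fun a _ => if_neg ?_
    rintro ⟨ha, hm⟩
    exact h ⟨a, ha, x, _, hm, by group⟩

/-- The averaging identity for the Dade map. -/
theorem dade_sum {F : G → ℂ} (hF : Cfsg.IsClassFunction G F) :
    (Nat.card L : ℂ) * ∑ g, Cfsg.dadeIsometry A L H α g * F g =
      (Nat.card G : ℂ) * ∑ a : L, (if (a : G) ∈ A then
        α a * ((Nat.card (H (a : G)) : ℂ)⁻¹ * ∑ u : H (a : G), F ((a : G) * u)) else 0) := by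
  have inner : ∀ (a : L) (x : G), ∑ g : G, (if (a : G)⁻¹ * (x * g * x⁻¹) ∈ H (a : G) then F g else 0) =
      ∑ u : H (a : G), F ((a : G) * u) := by
    intro a x
    rw [Fintype.sum_equiv (MulAut.conj x).toEquiv
      (fun g : G => if (a : G)⁻¹ * (x * g * x⁻¹) ∈ H (a : G) then F g else 0)
      (fun k : G => if (a : G)⁻¹ * k ∈ H (a : G) then F k else 0) (fun g => by
        show _ = if (a : G)⁻¹ * (x * g * x⁻¹) ∈ H (a : G) then F (x * g * x⁻¹) else 0
        rw [hF g x]),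
      Fintype.sum_equiv (Equiv.mulLeft (a : G)⁻¹)
      (fun k : G => if (a : G)⁻¹ * k ∈ H (a : G) then F k else 0)
      (fun w : G => if w ∈ H (a : G) then F ((a : G) * w) else 0) (fun k => by simp),
      ← Finset.sum_filter, Finset.sum_subtype (p := fun w => w ∈ H (a : G)) _ (fun w => by simp)
      (fun w => F ((a : G) * w))]
  calc (Nat.card L : ℂ) * ∑ g, Cfsg.dadeIsometry A L H α g * F g
      = ∑ g, ((Nat.card L : ℂ) * Cfsg.dadeIsometry A L H α g) * F g := by
        rw [Finset.mul_sum]; exact Finset.sum_congr rfl fun g _ => by ring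
    _ = ∑ g, ∑ x : G, ∑ a : L, (if (a : G) ∈ A then α a * (Nat.card (H (a : G)) : ℂ)⁻¹ *
          (if (a : G)⁻¹ * (x * g * x⁻¹) ∈ H (a : G) then F g else 0) else 0) := by
        refine Finset.sum_congr rfl fun g _ => ?_
        rw [← dade_weight hD hα g, Finset.sum_mul]
        refine Finset.sum_congr rfl fun x _ => ?_
        rw [Finset.sum_mul]
        refine Finset.sum_congr rfl fun a _ => ?_
        by_cases ha : (a : G) ∈ A <;> simp [ha]
    _ = ∑ x : G, ∑ a : L, ∑ g : G, (if (a : G) ∈ A then α a * (Nat.card (H (a : G)) : ℂ)⁻¹ *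
          (if (a : G)⁻¹ * (x * g * x⁻¹) ∈ H (a : G) then F g else 0) else 0) := by
        rw [Finset.sum_comm]
        exact Finset.sum_congr rfl fun x _ => Finset.sum_comm
    _ = ∑ x : G, ∑ a : L, (if (a : G) ∈ A then
          α a * ((Nat.card (H (a : G)) : ℂ)⁻¹ * ∑ u : H (a : G), F ((a : G) * u)) else 0) := by
        refine Finset.sum_congr rfl fun x _ => Finset.sum_congr rfl fun a _ => ?_
        by_cases ha : (a : G) ∈ A
        · simp only [ha, if_true]
          rw [← Finset.mul_sum, inner a x, mul_assoc]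
        · simp [ha]
    _ = _ := by rw [Finset.sum_const, nsmul_eq_mul, Finset.card_univ, Nat.card_eq_fintype_card]

/-- The Dade map against a class function. -/
theorem dade_classInner (hαA : ∀ x : L, (x : G) ∉ A → α x = 0) {χ : G → ℂ}
    (hχ : Cfsg.IsClassFunction G χ) {ψ : L → ℂ} (hψ : ∀ a : L, (a : G) ∈ A →
      ψ a = (Nat.card (H (a : G)) : ℂ)⁻¹ * ∑ u : H (a : G), χ ((a : G) * u)) :
    Cfsg.classInner (Cfsg.dadeIsometry A L H α) χ = Cfsg.classInner α ψ := by
  have hF : Cfsg.IsClassFunction G (fun g => conj (χ g)) := fun g k => congrArg _ (hχ g k)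
  have h := dade_sum hD hα hF
  have hrhs : ∑ a : L, (if (a : G) ∈ A then α a * ((Nat.card (H (a : G)) : ℂ)⁻¹ *
      ∑ u : H (a : G), conj (χ ((a : G) * u))) else 0) = ∑ a : L, α a * conj (ψ a) := by
    refine Finset.sum_congr rfl fun a _ => ?_
    split_ifs with ha
    · rw [hψ a ha, map_mul, map_inv₀, map_natCast, map_sum]
    · rw [hαA a ha, zero_mul]
  rw [hrhs] at h
  have h1 : (Nat.card L : ℂ) ≠ 0 := natCard_ne_zero_complex
  have h2 : (Nat.card G : ℂ) ≠ 0 := natCard_ne_zero_complex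
  rw [Cfsg.classInner, Cfsg.classInner]
  field_simp
  linear_combination h

/-- The Dade map is an isometry. -/
theorem dade_isometry (hαA : ∀ x : L, (x : G) ∉ A → α x = 0) {β : L → ℂ}
    (hβ : Cfsg.IsClassFunction L β) :
    Cfsg.classInner (Cfsg.dadeIsometry A L H α) (Cfsg.dadeIsometry A L H β) =
      Cfsg.classInner α β := by
  refine dade_classInner hD hα hαA (dade_classFunction hD hβ) fun a ha => ?_
  rw [Finset.sum_congr rfl fun u _ => dade_apply_coset hD hβ ha u, Finset.sum_const, nsmul_eq_mul,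
    Finset.card_univ, ← Nat.card_eq_fintype_card, ← mul_assoc,
    inv_mul_cancel₀ (by exact_mod_cast Nat.card_pos.ne'), one_mul]

end

end Cfsg.Agent.Lib.OddChar
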