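import Cfsg.Agent.Lib.OddChar.Dade
import Cfsg.Agent.Lib.Characters.Induced
import Cfsg.Agent.S1496
import Mathlib.Algebra.BigOperators.Ring.Finset

/-!
The Dade map sends virtual characters to virtual characters: it is an alternating sum of functions
induced from the semidirect products attached to the subsets of `A`.
-/

namespace Cfsg.Agent.Lib.OddChar

open Cfsg.Agent.Lib.Characters
open scoped Classical

set_option linter.unusedSectionVars false
set_option linter.style.haveILetI false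

universe u

variable {G : Type u} [Group G]

/-- Conjugate of a finite set. -/
noncomputable def cjSet (l : G) (B : Finset G) : Finset G := B.image fun b => l * b * l⁻¹

theorem mem_cjSet {l y : G} {B : Finset G} : y ∈ cjSet l B ↔ l⁻¹ * y * l ∈ B := by
  simp only [cjSet, Finset.mem_image]
  constructor
  · rintro ⟨b, hb, rfl⟩
    simpa [mul_assoc] using hb
  · exact fun h => ⟨_, h, by group⟩

theorem cjSet_cjSet (k l : G) (B : Finset G) : cjSet k (cjSet l B) = cjSet (k * l) B := by
  ext y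
  simp [mem_cjSet, mul_assoc]

theorem cjSet_one (B : Finset G) : cjSet 1 B = B := by
  ext y; simp [mem_cjSet]

theorem card_cjSet (l : G) (B : Finset G) : (cjSet l B).card = B.card :=
  Finset.card_image_of_injective _ (MulAut.conj l).injective

/-- Stabiliser of a finite set inside `L`. -/
def setStab (L : Subgroup G) (B : Finset G) : Subgroup G where
  carrier := {l | l ∈ L ∧ cjSet l B = B}
  one_mem' := ⟨L.one_mem, cjSet_one B⟩
  mul_mem' := fun {a b} ha hb => ⟨L.mul_mem ha.1 hb.1, by rw [← cjSet_cjSet, hb.2, ha.2]⟩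
  inv_mem' := fun {a} ha => ⟨L.inv_mem ha.1, by
    conv_lhs => rw [← ha.2, cjSet_cjSet, inv_mul_cancel, cjSet_one]⟩

theorem mem_setStab {L : Subgroup G} {B : Finset G} {l : G} :
    l ∈ setStab L B ↔ l ∈ L ∧ cjSet l B = B := Iff.rfl

/-- Intersection of the Dade subgroups over a set. -/
def infH (H : G → Subgroup G) (B : Finset G) : Subgroup G := ⨅ b ∈ B, H b

theorem mem_infH {H : G → Subgroup G} {B : Finset G} {v : G} : v ∈ infH H B ↔ ∀ b ∈ B, v ∈ H b := by
  simp [infH, Subgroup.mem_iInf]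

variable [Fintype G]

/-- Averaging over a coset of a coprimely normalised subgroup reduces to its fixed points. -/
theorem card_coset_fixed (N : Subgroup G) {l g : G} (hl : l ∈ Subgroup.normalizer (N : Set G))
    (hcop : Nat.Coprime (orderOf l) (Nat.card N)) :
    Nat.card N * Nat.card {x : G // x * g * x⁻¹ * l⁻¹ ∈ N ⊓ Subgroup.centralizer ({l} : Set G)} =
      Nat.card ↥(N ⊓ Subgroup.centralizer ({l} : Set G)) * Nat.card {x : G // x * g * x⁻¹ * l⁻¹ ∈ N} := by
  have memC : ∀ c, c ∈ N ⊓ Subgroup.centralizer ({l} : Set G) ↔ c ∈ N ∧ Commute c l := fun c => by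
    rw [Subgroup.mem_inf, Subgroup.mem_centralizer_singleton_iff]; rfl
  generalize hC : N ⊓ Subgroup.centralizer ({l} : Set G) = C at memC ⊢
  let f : N × {x : G // x * g * x⁻¹ * l⁻¹ ∈ C} → {x : G // x * g * x⁻¹ * l⁻¹ ∈ N} := fun p =>
    ⟨(p.1 : G) * p.2.1, by
      have e : (p.1 : G) * p.2.1 * g * ((p.1 : G) * p.2.1)⁻¹ * l⁻¹ =
          (p.1 : G) * (p.2.1 * g * p.2.1⁻¹ * l⁻¹) * (l * (p.1 : G)⁻¹ * l⁻¹) := by group
      rw [e]
      exact N.mul_mem (N.mul_mem p.1.2 ((memC _).mp p.2.2).1)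
        ((Subgroup.mem_set_normalizer_iff.mp hl _).mp (N.inv_mem p.1.2))⟩
  obtain ⟨n, hn1, hn2⟩ := Nat.chineseRemainder hcop 1 0
  have hpow : ∀ c : G, c ∈ N → Commute c l → (c * l) ^ n = l := fun c hc hcl => by
    rw [hcl.mul_pow]
    have e1 : c ^ n = 1 := by
      rw [← orderOf_dvd_iff_pow_eq_one]
      exact (N.orderOf_dvd_natCard hc).trans (Nat.modEq_zero_iff_dvd.mp hn2)
    have e2 : l ^ n = l := by
      conv_rhs => rw [← pow_one l]
      exact pow_eq_pow_iff_modEq.mpr hn1
    rw [e1, e2, one_mul]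
  have hfib : ∀ x', Nat.card {p // f p = x'} = Nat.card C := by
    rintro ⟨x', hx'⟩
    obtain ⟨y, hy, c, hc, hcl, hyc⟩ :=
      Cfsg.Agent.S1496.result N l hl hcop (x' * g * x'⁻¹ * l⁻¹) hx'
    have hC' : y * x' * g * (y * x')⁻¹ * l⁻¹ = c := by
      calc y * x' * g * (y * x')⁻¹ * l⁻¹ = y * (x' * g * x'⁻¹ * l⁻¹ * l) * y⁻¹ * l⁻¹ := by group
        _ = c := by rw [hyc]; group
    refine (Nat.card_congr (Equiv.ofBijective
      (fun d : C => (⟨(⟨y⁻¹ * d, N.mul_mem (N.inv_mem hy) ((memC _).mp d.2).1⟩,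
        ⟨(d : G)⁻¹ * (y * x'), ?_⟩), ?_⟩ : {p // f p = ⟨x', hx'⟩})) ⟨?_, ?_⟩)).symm
    · obtain ⟨hd, hdl⟩ := (memC _).mp d.2
      have e : (d : G)⁻¹ * (y * x') * g * ((d : G)⁻¹ * (y * x'))⁻¹ * l⁻¹ =
          (d : G)⁻¹ * (y * x' * g * (y * x')⁻¹ * l⁻¹) * (l * d * l⁻¹) := by group
      rw [e, hC', ← hdl.eq, mul_inv_cancel_right]
      exact C.mul_mem (C.mul_mem (C.inv_mem d.2) ((memC _).mpr ⟨hc, hcl⟩)) d.2
    · exact Subtype.ext (show y⁻¹ * (d : G) * ((d : G)⁻¹ * (y * x')) = x' by group)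
    · intro d e hde
      have : y⁻¹ * (d : G) = y⁻¹ * e := congrArg (fun p => ((p.1.1 : N) : G)) hde
      exact Subtype.ext (mul_left_cancel this)
    · rintro ⟨⟨⟨z, hz⟩, ⟨x, hx⟩⟩, hp⟩
      have hzx : z * x = x' := congrArg Subtype.val hp
      obtain ⟨hc', hcl'⟩ := (memC _).mp hx
      set c' := x * g * x⁻¹ * l⁻¹ with hc'def
      have he : (y * z) * (c' * l) * (y * z)⁻¹ = c * l := by
        rw [← hC', ← hzx, hc'def]; group
      have hyz : Commute (y * z) l := by
        have h2 : (y * z) * l * (y * z)⁻¹ = l := by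
          calc (y * z) * l * (y * z)⁻¹ = ((y * z) * (c' * l) * (y * z)⁻¹) ^ n := by
                rw [conj_pow, hpow c' hc' hcl']
            _ = l := by rw [he, hpow c hc hcl]
        exact mul_inv_eq_iff_eq_mul.mp h2
      refine ⟨⟨y * z, (memC _).mpr ⟨N.mul_mem hy hz, hyz⟩⟩, Subtype.ext (Prod.ext ?_ ?_)⟩
      · exact Subtype.ext (show y⁻¹ * (y * z) = z by group)
      · exact Subtype.ext (show (y * z)⁻¹ * (y * x') = x by rw [← hzx]; group)
  calc Nat.card N * Nat.card {x : G // x * g * x⁻¹ * l⁻¹ ∈ C}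
      = Nat.card (N × {x : G // x * g * x⁻¹ * l⁻¹ ∈ C}) := (Nat.card_prod _ _).symm
    _ = Nat.card (Σ x', {p // f p = x'}) := (Nat.card_congr (Equiv.sigmaFiberEquiv f)).symm
    _ = ∑ x', Nat.card {p // f p = x'} := Nat.card_sigma
    _ = _ := by
      rw [Finset.sum_congr rfl fun x' _ => hfib x', Finset.sum_const, smul_eq_mul,
        Finset.card_univ, ← Nat.card_eq_fintype_card, mul_comm]

variable {A : Set G} {L : Subgroup G} {H : G → Subgroup G} (hD : Cfsg.DadeHypothesis A L H)

include hD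

theorem infH_cjSet {B : Finset G} (hB : ∀ b ∈ B, b ∈ A) {k : G} (hk : k ∈ L) (v : G) :
    v ∈ infH H (cjSet k B) ↔ k⁻¹ * v * k ∈ infH H B := by
  simp only [mem_infH, cjSet, Finset.mem_image]
  constructor
  · intro h b hb
    exact (dade_mem_H_conj hD (hB b hb) hk).mp (h _ ⟨b, hb, rfl⟩)
  · rintro h _ ⟨b, hb, rfl⟩
    exact (dade_mem_H_conj hD (hB b hb) hk).mpr (h b hb)

theorem setStab_normalize {B : Finset G} (hB : ∀ b ∈ B, b ∈ A) :
    setStab L B ≤ Subgroup.normalizer (infH H B : Set G) := by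
  intro l hl
  rw [Subgroup.mem_set_normalizer_iff]
  intro v
  have h := infH_cjSet hD hB hl.1 (l * v * l⁻¹)
  rw [hl.2] at h
  have e : l⁻¹ * (l * v * l⁻¹) * l = v := by group
  rw [e] at h
  exact h.symm

theorem infH_inf_L {B : Finset G} (hB : ∀ b ∈ B, b ∈ A) (hne : B.Nonempty) {v : G}
    (hv : v ∈ infH H B) (hvL : v ∈ L) : v = 1 := by
  obtain ⟨b, hb⟩ := hne
  have h1 := mem_infH.mp hv b hb
  have h2 : v ∈ H b ⊓ (L ⊓ Subgroup.centralizer ({b} : Set G)) :=
    ⟨h1, hvL, hD.le_centralizer b (hB b hb) h1⟩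
  rwa [hD.inf_eq_bot b (hB b hb), Subgroup.mem_bot] at h2

theorem infH_centralizer {B : Finset G} (hB : ∀ b ∈ B, b ∈ A) (hne : B.Nonempty) {l : G}
    (hl : l ∈ A) : infH H B ⊓ Subgroup.centralizer ({l} : Set G) = infH H (insert l B) := by
  obtain ⟨b, hb⟩ := hne
  ext v
  simp only [Subgroup.mem_inf, mem_infH, Finset.forall_mem_insert]
  refine ⟨fun ⟨h, hc⟩ => ⟨?_, h⟩, fun ⟨h1, h2⟩ => ⟨h2, hD.le_centralizer l hl h1⟩⟩
  exact Cfsg.Agent.S1498.mem_of_coprime_complement _ _ _ (hD.conj_mem_H l hl) (hD.inf_eq_bot l hl)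
    (hD.sup_eq l hl) hc
    ((hD.coprime b (hB b hb) l hl).coprime_dvd_left ((H b).orderOf_dvd_natCard (h b hb)))

omit hD in
/-- Conjugates of `g` in a coset, weighted. -/
noncomputable def cosetWeight (H : G → Subgroup G) (g : G) (B : Finset G) (l : G) : ℂ :=
  (Nat.card (infH H B) : ℂ)⁻¹ * Nat.card {x : G // x * g * x⁻¹ * l⁻¹ ∈ infH H B}

theorem cosetWeight_insert {B : Finset G} (hB : ∀ b ∈ B, b ∈ A) (hne : B.Nonempty) {l : G}
    (hl : l ∈ A) (hfix : cjSet l B = B) (g : G) :
    cosetWeight H g (insert l B) l = cosetWeight H g B l := by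
  obtain ⟨b, hb⟩ := id hne
  have hcop : Nat.Coprime (orderOf l) (Nat.card (infH H B)) := by
    refine (((hD.coprime b (hB b hb) l hl).coprime_dvd_left (Subgroup.card_dvd_of_le
      (fun v hv => mem_infH.mp hv b hb))).coprime_dvd_right
      (Subgroup.orderOf_dvd_natCard _ (dade_mem_inf hD hl))).symm
  have h := card_coset_fixed (infH H B) (g := g)
    (setStab_normalize hD hB ⟨hD.subset hl, hfix⟩) hcop
  rw [infH_centralizer hD hB hne hl] at h
  have h1 : (Nat.card (infH H B) : ℂ) ≠ 0 := by exact_mod_cast Nat.card_pos.ne'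
  have h2 : (Nat.card (infH H (insert l B)) : ℂ) ≠ 0 := by exact_mod_cast Nat.card_pos.ne'
  have h' := congrArg (Nat.cast (R := ℂ)) h
  push_cast at h'
  simp only [cosetWeight]
  field_simp
  linear_combination h'

omit hD in
/-- The virtual character attached to a subset, times the order of its stabiliser. -/
noncomputable def dadeTerm (L : Subgroup G) (H : G → Subgroup G) (α : L → ℂ) (B : Finset G) (g : G) : ℂ :=
  ∑ l : L, if cjSet (l : G) B = B then α l * cosetWeight H g B l else 0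

section

variable {α : L → ℂ}

theorem dadeTerm_sum (hαA : ∀ x : L, (x : G) ∉ A → α x = 0) (hα : Cfsg.IsClassFunction L α) (g : G) :
    ∑ B ∈ ((Finset.univ.filter fun a : G => a ∈ A).powerset.filter fun B => B.Nonempty),
      (-1 : ℂ) ^ (B.card + 1) * dadeTerm L H α B g =
      (Nat.card L : ℂ) * Cfsg.dadeIsometry A L H α g := by
  set 𝓑 := (Finset.univ.filter fun a : G => a ∈ A).powerset.filter fun B => B.Nonempty with h𝓑
  have hmem : ∀ B, B ∈ 𝓑 ↔ (∀ b ∈ B, b ∈ A) ∧ B.Nonempty := fun B => by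
    simp [h𝓑, Finset.subset_iff]
  have key : ∀ l : L, (l : G) ∈ A →
      ∑ B ∈ 𝓑, (if cjSet (l : G) B = B then (-1 : ℂ) ^ (B.card + 1) * cosetWeight H g B l else 0) =
        cosetWeight H g {(l : G)} l := by
    intro l hl
    rw [← Finset.sum_filter]
    set S := 𝓑.filter fun B => cjSet (l : G) B = B
    have hlS : ({(l : G)} : Finset G) ∈ S := by
      refine Finset.mem_filter.mpr ⟨(hmem _).mpr ⟨by simp [hl], Finset.singleton_nonempty _⟩, ?_⟩
      simp [cjSet]
    rw [← Finset.add_sum_erase S _ hlS]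
    have h0 : ∑ B ∈ S.erase {(l : G)}, (-1 : ℂ) ^ (B.card + 1) * cosetWeight H g B l = 0 := by
      have hmemS : ∀ B, B ∈ S.erase {(l : G)} ↔
          B ≠ {(l : G)} ∧ ((∀ b ∈ B, b ∈ A) ∧ B.Nonempty) ∧ cjSet (l : G) B = B := fun B => by
        simp [S, hmem]
      have hins : ∀ B, B ∈ S.erase {(l : G)} → (l : G) ∉ B → insert (l : G) B ∈ S.erase {(l : G)} := by
        intro B hB hlB
        obtain ⟨-, ⟨hBA, hBne⟩, hfix⟩ := (hmemS B).mp hB
        refine (hmemS _).mpr ⟨?_, ⟨by simpa [hl] using hBA, Finset.insert_nonempty _ _⟩, ?_⟩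
        · intro e
          obtain ⟨b, hb⟩ := hBne
          have : b = (l : G) := Finset.mem_singleton.mp (e ▸ Finset.mem_insert_of_mem hb)
          exact hlB (this ▸ hb)
        · simp only [cjSet, Finset.image_insert, mul_inv_cancel_right]
          exact congrArg (insert (l : G)) hfix
      have hera : ∀ B, B ∈ S.erase {(l : G)} → (l : G) ∈ B → B.erase (l : G) ∈ S.erase {(l : G)} := by
        intro B hB hlB
        obtain ⟨hne, ⟨hBA, -⟩, hfix⟩ := (hmemS B).mp hB
        refine (hmemS _).mpr ⟨?_, ⟨fun b hb => hBA b (Finset.mem_of_mem_erase hb), ?_⟩, ?_⟩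
        · intro e
          have : (l : G) ∈ B.erase (l : G) := by rw [e]; simp
          simp at this
        · rw [Finset.nonempty_iff_ne_empty, Ne, Finset.erase_eq_empty_iff]
          rintro (e | e)
          · simp [e] at hlB
          · exact hne e
        · have e : cjSet (l : G) (B.erase (l : G)) = (cjSet (l : G) B).erase ((l : G) * l * (l : G)⁻¹) :=
            Finset.image_erase (MulAut.conj (l : G)).injective B (l : G)
          rw [e, hfix, mul_inv_cancel_right]
      refine Finset.sum_involution (fun B _ => if (l : G) ∈ B then B.erase (l : G) else insert (l : G) B)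
        ?_ ?_ ?_ ?_
      · intro B hB
        obtain ⟨-, ⟨hBA, hBne⟩, hfix⟩ := (hmemS B).mp hB
        by_cases hlB : (l : G) ∈ B
        · rw [if_pos hlB]
          obtain ⟨-, ⟨hEA, hEne⟩, hEfix⟩ := (hmemS _).mp (hera B hB hlB)
          have := cosetWeight_insert hD hEA hEne hl hEfix g
          rw [Finset.insert_erase hlB] at this
          rw [this, ← Finset.card_erase_add_one hlB]
          ring
        · rw [if_neg hlB, cosetWeight_insert hD hBA hBne hl hfix g,
            Finset.card_insert_of_notMem hlB]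
          ring
      · intro B _ _
        by_cases hlB : (l : G) ∈ B
        · rw [if_pos hlB]; exact fun e => (Finset.notMem_erase (l : G) B) (e.symm ▸ hlB)
        · rw [if_neg hlB]; exact fun e => hlB (e ▸ Finset.mem_insert_self _ _)
      · intro B hB
        by_cases hlB : (l : G) ∈ B
        · rw [if_pos hlB]; exact hera B hB hlB
        · rw [if_neg hlB]; exact hins B hB hlB
      · intro B _
        by_cases hlB : (l : G) ∈ B
        · simp [hlB, Finset.insert_erase hlB]
        · simp [hlB, Finset.erase_insert hlB]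
    rw [h0, add_zero]
    simp
  calc ∑ B ∈ 𝓑, (-1 : ℂ) ^ (B.card + 1) * dadeTerm L H α B g
      = ∑ l : L, ∑ B ∈ 𝓑, α l * (if cjSet (l : G) B = B then
          (-1 : ℂ) ^ (B.card + 1) * cosetWeight H g B l else 0) := by
        rw [Finset.sum_comm]
        refine Finset.sum_congr rfl fun B _ => ?_
        rw [dadeTerm, Finset.mul_sum]
        refine Finset.sum_congr rfl fun l _ => ?_
        split_ifs <;> ring
    _ = ∑ l : L, (if (l : G) ∈ A then α l * cosetWeight H g {(l : G)} l else 0) := by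
        refine Finset.sum_congr rfl fun l _ => ?_
        rw [← Finset.mul_sum]
        split_ifs with hl
        · rw [key l hl]
        · rw [hαA l hl, zero_mul]
    _ = _ := by
        rw [← dade_weight hD hα g, Finset.sum_comm]
        refine Finset.sum_congr rfl fun l _ => ?_
        by_cases hl : (l : G) ∈ A
        · have hmemH : ∀ x : G, (x * g * x⁻¹ * (l : G)⁻¹ ∈ infH H {(l : G)}) ↔
              ((l : G) ∈ A ∧ (l : G)⁻¹ * (x * g * x⁻¹) ∈ H (l : G)) := by
            intro x
            rw [mem_infH]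
            simp only [Finset.mem_singleton, forall_eq, hl, true_and]
            constructor <;> intro h
            · have := dade_commute hD hl h
              have e : (l : G)⁻¹ * (x * g * x⁻¹) = x * g * x⁻¹ * (l : G)⁻¹ := by
                calc (l : G)⁻¹ * (x * g * x⁻¹)
                    = (l : G)⁻¹ * ((x * g * x⁻¹ * (l : G)⁻¹) * l) := by group
                  _ = _ := by rw [← this.eq]; group
              rwa [e]
            · have := dade_commute hD hl h
              have e : x * g * x⁻¹ * (l : G)⁻¹ = (l : G)⁻¹ * (x * g * x⁻¹) := by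
                calc x * g * x⁻¹ * (l : G)⁻¹
                    = ((l : G) * ((l : G)⁻¹ * (x * g * x⁻¹))) * (l : G)⁻¹ := by group
                  _ = _ := by rw [this.eq]; group
              rwa [e]
          have hcard : Nat.card (infH H {(l : G)}) = Nat.card (H (l : G)) := by
            rw [show infH H {(l : G)} = H (l : G) by ext v; simp [mem_infH]]
          simp only [← hmemH]
          rw [if_pos hl, ← Finset.sum_filter, Finset.sum_const, nsmul_eq_mul, cosetWeight, hcard,
            Nat.card_eq_fintype_card (α := {x : G // x * g * x⁻¹ * (l : G)⁻¹ ∈ infH H {(l : G)}}),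
            Fintype.card_subtype]
          ring
        · simp [hl]

theorem dadeTerm_cjSet {B : Finset G} (hB : ∀ b ∈ B, b ∈ A) {k : G} (hk : k ∈ L)
    (hα : Cfsg.IsClassFunction L α) (g : G) :
    dadeTerm L H α (cjSet k B) g = dadeTerm L H α B g := by
  set K : L := ⟨k, hk⟩
  have hcardH : Nat.card (infH H (cjSet k B)) = Nat.card (infH H B) :=
    Nat.card_congr ((MulAut.conj k⁻¹).toEquiv.subtypeEquiv fun v => by
      rw [infH_cjSet hD hB hk v]; simp)
  rw [dadeTerm, dadeTerm]
  refine (Fintype.sum_equiv (MulAut.conj K).toEquiv _ _ fun l => ?_).symm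
  show _ = if cjSet ((K * l * K⁻¹ : L) : G) (cjSet k B) = cjSet k B then
    α (K * l * K⁻¹) * cosetWeight H g (cjSet k B) ((K * l * K⁻¹ : L) : G) else 0
  have hco : ((K * l * K⁻¹ : L) : G) = k * l * k⁻¹ := rfl
  have hiff : cjSet ((K * l * K⁻¹ : L) : G) (cjSet k B) = cjSet k B ↔ cjSet (l : G) B = B := by
    rw [hco, cjSet_cjSet, inv_mul_cancel_right]
    constructor
    · intro h
      have := congrArg (cjSet k⁻¹) h
      rwa [cjSet_cjSet, cjSet_cjSet, inv_mul_cancel_left, inv_mul_cancel, cjSet_one] at this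
    · intro h
      rw [← cjSet_cjSet, h]
  have hw : cosetWeight H g (cjSet k B) ((K * l * K⁻¹ : L) : G) = cosetWeight H g B (l : G) := by
    rw [cosetWeight, cosetWeight, hcardH]
    congr 2
    refine Nat.card_congr ((Equiv.mulLeft k⁻¹).subtypeEquiv fun x => ?_)
    rw [infH_cjSet hD hB hk, hco]
    have e : k⁻¹ * (x * g * x⁻¹ * (k * (l : G) * k⁻¹)⁻¹) * k =
        k⁻¹ * x * g * (k⁻¹ * x)⁻¹ * (l : G)⁻¹ := by group
    rw [e]; rfl
  rw [hα, hw]
  simp only [hiff]

/-- Each term is the stabiliser order times an induced virtual character. -/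
theorem dadeTerm_eq {B : Finset G} (hB : ∀ b ∈ B, b ∈ A) (hne : B.Nonempty)
    (hα : Cfsg.IsGeneralizedCharacter L α) :
    ∃ Z : G → ℂ, Cfsg.IsGeneralizedCharacter G Z ∧
      ∀ g, dadeTerm L H α B g = (Nat.card (setStab L B) : ℂ) * Z g := by
  set N := infH H B
  set S := setStab L B
  set M : Subgroup G := N ⊔ S
  have hmemM : ∀ m, m ∈ M → ∃ l : L, (l : G) ∈ S ∧ m * (l : G)⁻¹ ∈ N := by
    intro m hm
    rw [← SetLike.mem_coe, Subgroup.coe_mul_of_right_le_normalizer_left N S
      (setStab_normalize hD hB)] at hm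
    obtain ⟨a, ha, b, hb, rfl⟩ := Set.mem_mul.mp hm
    exact ⟨⟨b, hb.1⟩, hb, by simpa using ha⟩
  have huniq : ∀ (m : G) (l l' : L), m * (l : G)⁻¹ ∈ N → m * (l' : G)⁻¹ ∈ N → l = l' := by
    intro m l l' h h'
    have h1 : (l : G) * (l' : G)⁻¹ ∈ N := by
      have := N.mul_mem (N.inv_mem h) h'
      simpa [mul_assoc] using this
    exact Subtype.ext (mul_inv_eq_one.mp
      (infH_inf_L hD hB hne h1 (L.mul_mem l.2 (L.inv_mem l'.2))))
  choose p hpS hpN using fun m : M => hmemM m m.2
  have hp : ∀ m m' : M, p (m * m') = p m * p m' := by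
    intro m m'
    refine huniq ((m * m' : M) : G) _ _ (hpN _) ?_
    have e : ((m * m' : M) : G) * ((p m * p m' : L) : G)⁻¹ =
        ((m : G) * (p m : G)⁻¹) * ((p m : G) * ((m' : G) * (p m' : G)⁻¹) * (p m : G)⁻¹) := by
      push_cast
      group
    rw [e]
    exact N.mul_mem (hpN m) ((Subgroup.mem_set_normalizer_iff.mp
      (setStab_normalize hD hB (hpS m)) _).mp (hpN m'))
  let f : M →* L := MonoidHom.mk' p hp
  refine ⟨Cfsg.indFun M fun m => α (f m),
    IsGeneralizedCharacter.indFun M (IsGeneralizedCharacter.comp hα f), fun g => ?_⟩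
  have hcardM : Nat.card M = Nat.card N * Nat.card S := by
    rw [← Nat.card_prod]
    refine (Nat.card_congr (Equiv.ofBijective
      (fun q : N × S => (⟨(q.1 : G) * q.2, M.mul_mem (Subgroup.mem_sup_left q.1.2)
        (Subgroup.mem_sup_right q.2.2)⟩ : M)) ⟨?_, ?_⟩)).symm
    · rintro ⟨a, b⟩ ⟨a', b'⟩ h
      have h' : (a : G) * b = a' * b' := congrArg Subtype.val h
      have e : (⟨b, b.2.1⟩ : L) = ⟨b', b'.2.1⟩ := huniq ((a : G) * b) _ _ (by simp) (by rw [h']; simp)
      have e' : (b : G) = b' := congrArg (fun t : L => (t : G)) e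
      rw [e'] at h'
      exact Prod.ext (Subtype.ext (mul_right_cancel h')) (Subtype.ext e')
    · rintro ⟨m, hm⟩
      obtain ⟨l, hl, hlm⟩ := hmemM m hm
      exact ⟨(⟨_, hlm⟩, ⟨l, hl⟩), Subtype.ext (by simp)⟩
  have hext : ∀ y : G, Cfsg.extendByZero M (fun m => α (f m)) y =
      ∑ l : L, (if cjSet (l : G) B = B ∧ y * (l : G)⁻¹ ∈ N then α l else 0) := by
    intro y
    by_cases hy : y ∈ M
    · rw [extendByZero_of_mem M _ hy, Finset.sum_eq_single (p ⟨y, hy⟩)]
      · rw [if_pos ⟨(hpS ⟨y, hy⟩).2, hpN ⟨y, hy⟩⟩]; rfl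
      · intro l _ hl
        rw [if_neg]
        exact fun h => hl (huniq y l _ h.2 (hpN ⟨y, hy⟩))
      · exact fun h => absurd (Finset.mem_univ _) h
    · rw [extendByZero_of_not_mem M _ hy]
      refine (Finset.sum_eq_zero fun l _ => if_neg ?_).symm
      rintro ⟨h1, h2⟩
      refine hy ?_
      have hS : (l : G) ∈ M := Subgroup.mem_sup_right (⟨l.2, h1⟩ : (l : G) ∈ S)
      simpa using M.mul_mem (Subgroup.mem_sup_left h2 : y * (l : G)⁻¹ ∈ M) hS
  rw [indFun_apply, hcardM, Fintype.sum_equiv (Equiv.inv G)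
    (fun x => Cfsg.extendByZero M (fun m => α (f m)) (x⁻¹ * g * x))
    (fun x => Cfsg.extendByZero M (fun m => α (f m)) (x * g * x⁻¹)) (fun x => by simp)]
  simp only [hext]
  rw [Finset.sum_comm, dadeTerm, Finset.mul_sum, Finset.mul_sum]
  refine Finset.sum_congr rfl fun l _ => ?_
  have hS0 : (Nat.card S : ℂ) ≠ 0 := by exact_mod_cast Nat.card_pos.ne'
  by_cases hfix : cjSet (l : G) B = B
  · simp only [hfix, true_and, if_true]
    rw [← Finset.sum_filter, Finset.sum_const, nsmul_eq_mul, cosetWeight,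
      Nat.card_eq_fintype_card (α := {x : G // x * g * x⁻¹ * (l : G)⁻¹ ∈ infH H B}),
      Fintype.card_subtype]
    change _ = _ * (_ * (((Finset.univ.filter fun x : G => x * g * x⁻¹ * (l : G)⁻¹ ∈ N).card : ℂ) * _))
    push_cast
    field_simp
    ring
  · simp [hfix]

/-- Dade's theorem: virtual characters go to virtual characters. -/
theorem dade_generalized (hαA : ∀ x : L, (x : G) ∉ A → α x = 0)
    (hα : Cfsg.IsGeneralizedCharacter L α) :
    Cfsg.IsGeneralizedCharacter G (Cfsg.dadeIsometry A L H α) := by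
  have hcl := IsGeneralizedCharacter.isClassFunction hα
  set 𝓑 := (Finset.univ.filter fun a : G => a ∈ A).powerset.filter fun B => B.Nonempty with h𝓑
  have hmem : ∀ B, B ∈ 𝓑 ↔ (∀ b ∈ B, b ∈ A) ∧ B.Nonempty := fun B => by
    simp [h𝓑, Finset.subset_iff]
  let O : Finset G → Finset (Finset G) := fun B => (Finset.univ : Finset L).image fun k : L => cjSet (k : G) B
  have hO : ∀ B C, C ∈ O B ↔ ∃ k ∈ L, cjSet k B = C := fun B C => by simp [O]
  have hfib : ∀ R ∈ 𝓑.image O, ∃ Z : G → ℂ, Cfsg.IsGeneralizedCharacter G Z ∧ ∀ g,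
      ∑ B ∈ 𝓑.filter (fun B => O B = R), (-1 : ℂ) ^ (B.card + 1) * dadeTerm L H α B g =
        (Nat.card L : ℂ) * Z g := by
    intro R hR
    obtain ⟨B, hB, rfl⟩ := Finset.mem_image.mp hR
    obtain ⟨hBA, hBne⟩ := (hmem B).mp hB
    obtain ⟨Z, hZ, hZg⟩ := dadeTerm_eq hD hBA hBne hα
    have hfeq : 𝓑.filter (fun C => O C = O B) = O B := by
      ext C
      simp only [Finset.mem_filter, hO]
      constructor
      · rintro ⟨-, h⟩
        exact (hO B C).mp (h ▸ (hO C C).mpr ⟨1, L.one_mem, cjSet_one C⟩)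
      · rintro ⟨k, hk, rfl⟩
        refine ⟨(hmem _).mpr ⟨fun b hb => ?_, hBne.image _⟩, ?_⟩
        · obtain ⟨c, hc, rfl⟩ := Finset.mem_image.mp hb
          exact hD.conj_mem k hk c (hBA c hc)
        · ext D
          rw [hO, hO]
          constructor
          · rintro ⟨m, hm, rfl⟩
            exact ⟨m * k, L.mul_mem hm hk, (cjSet_cjSet m k B).symm⟩
          · rintro ⟨m, hm, rfl⟩
            exact ⟨m * k⁻¹, L.mul_mem hm (L.inv_mem hk), by rw [cjSet_cjSet, inv_mul_cancel_right]⟩
    have horb : Nat.card L = (O B).card * Nat.card (setStab L B) := by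
      have hf : ∀ C ∈ O B, ((Finset.univ : Finset L).filter fun k : L => cjSet (k : G) B = C).card =
          Nat.card (setStab L B) := by
        intro C hC
        obtain ⟨m, hm, rfl⟩ := (hO B C).mp hC
        rw [← Fintype.card_subtype, ← Nat.card_eq_fintype_card]
        exact Nat.card_congr
          { toFun := fun k => ⟨m⁻¹ * (k.1 : G), L.mul_mem (L.inv_mem hm) k.1.2, by
              rw [← cjSet_cjSet, k.2, cjSet_cjSet, inv_mul_cancel, cjSet_one]⟩
            invFun := fun s => ⟨⟨m * s.1, L.mul_mem hm s.2.1⟩, by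
              show cjSet (m * s.1) B = cjSet m B
              rw [← cjSet_cjSet, s.2.2]⟩
            left_inv := fun k => by ext; simp
            right_inv := fun s => by ext; simp }
      rw [← Finset.sum_const_nat hf, Nat.card_eq_fintype_card, ← Finset.card_univ]
      exact Finset.card_eq_sum_card_fiberwise fun k _ => Finset.mem_image_of_mem _ (Finset.mem_univ k)
    refine ⟨(((-1 : ℤ) ^ (B.card + 1) : ℤ) : ℂ) • Z, IsGeneralizedCharacter.intCast_smul hZ _, fun g => ?_⟩
    rw [hfeq, Finset.sum_congr rfl (g := fun _ => (-1 : ℂ) ^ (B.card + 1) * dadeTerm L H α B g)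
      (fun C hC => by
        obtain ⟨k, hk, rfl⟩ := (hO B C).mp hC
        rw [card_cjSet, dadeTerm_cjSet hD hBA hk hcl]),
      Finset.sum_const, nsmul_eq_mul, hZg, horb]
    simp only [Pi.smul_apply, smul_eq_mul]
    push_cast
    ring
  choose Z hZ hZg using hfib
  have heq : Cfsg.dadeIsometry A L H α = ∑ R ∈ (𝓑.image O).attach, Z R.1 R.2 := by
    funext g
    have h1 : (Nat.card L : ℂ) ≠ 0 := natCard_ne_zero_complex
    apply mul_left_cancel₀ h1
    rw [Finset.sum_apply, Finset.mul_sum, ← dadeTerm_sum hD hαA hcl g,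
      ← Finset.sum_fiberwise_of_maps_to (g := O) (t := 𝓑.image O)
        (fun B hB => Finset.mem_image_of_mem O hB),
      ← Finset.sum_attach (𝓑.image O)]
    exact Finset.sum_congr rfl fun R _ => hZg R.1 R.2 g
  rw [heq]
  exact IsGeneralizedCharacter.sum _ fun R _ => hZ R.1 R.2

end

end Cfsg.Agent.Lib.OddChar
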