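import Cfsg.Agent.Lib.OddChar.CohGrow
import Mathlib.GroupTheory.Sylow

/-!
Sections of the kernel of a Frobenius quotient.
-/

namespace Cfsg.Agent.Lib.OddChar

open Cfsg.Agent.Lib.Characters

set_option linter.unusedSectionVars false
set_option linter.style.haveILetI false

universe u v

variable {L : Type u} [Group L] [Fintype L]

/-- The nonidentity cosets in a normal section fall into classes of size `[L:K]`. -/
theorem index_dvd_relIndex_sub_one (K H₁ N : Subgroup L) [K.Normal] [H₁.Normal] [N.Normal]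
    (h1 : H₁ ≤ N) (hNK : N ≤ K) (hab : ∀ a ∈ K, ∀ b ∈ K, a * b * a⁻¹ * b⁻¹ ∈ H₁)
    (hfrob : ∀ k ∈ K, k ∉ H₁ → ∀ x : L, x * k * x⁻¹ * k⁻¹ ∈ H₁ → x ∈ K) :
    K.index ∣ H₁.relIndex N - 1 := by
  classical
  haveI := Fintype.ofFinite (L ⧸ H₁)
  let q := QuotientGroup.mk' H₁
  have hq : Function.Surjective q := QuotientGroup.mk'_surjective H₁
  set T := (Finset.univ.filter fun y : L ⧸ H₁ => y ∈ N.map q).erase 1 with hT
  have hmem1 : (1 : L ⧸ H₁) ∈ Finset.univ.filter fun y : L ⧸ H₁ => y ∈ N.map q :=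
    Finset.mem_filter.mpr ⟨Finset.mem_univ _, one_mem _⟩
  have hcard : T.card = H₁.relIndex N - 1 := by
    rw [hT, Finset.card_erase_of_mem hmem1, ← Fintype.card_subtype, ← Nat.card_eq_fintype_card]
    congr 1
    show Nat.card (N.map q) = _
    rw [Subgroup.relIndex, Subgroup.index_eq_card]
    let f : N ⧸ H₁.subgroupOf N → N.map q :=
      Quotient.lift (fun n : N => (⟨q n, Subgroup.mem_map_of_mem q n.2⟩ : N.map q)) fun a b hab' => by
        refine Subtype.ext ((QuotientGroup.eq (s := H₁)).mpr ?_)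
        simpa [Subgroup.mem_subgroupOf] using QuotientGroup.leftRel_apply.mp hab'
    refine (Nat.card_eq_of_bijective f ⟨?_, ?_⟩).symm
    · intro a b hab'
      obtain ⟨a, rfl⟩ := QuotientGroup.mk_surjective a
      obtain ⟨b, rfl⟩ := QuotientGroup.mk_surjective b
      have := (QuotientGroup.eq (s := H₁)).mp (congrArg Subtype.val hab')
      exact QuotientGroup.eq.mpr (by simpa [Subgroup.mem_subgroupOf] using this)
    · rintro ⟨y, n, hn, rfl⟩
      exact ⟨QuotientGroup.mk ⟨n, hn⟩, rfl⟩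
  rw [← hcard, Finset.card_eq_sum_card_image (ConjClasses.mk : L ⧸ H₁ → _) T]
  refine Finset.dvd_sum fun c hc => ?_
  obtain ⟨y, hy, rfl⟩ := Finset.mem_image.mp hc
  simp only [hT, Finset.mem_erase, Finset.mem_filter, Finset.mem_univ, true_and] at hy
  obtain ⟨n, hn, rfl⟩ := hy.2
  have hfib : (T.filter fun z => ConjClasses.mk z = ConjClasses.mk (q n)).card =
      Nat.card {z : L ⧸ H₁ // IsConj (q n) z} := by
    rw [Nat.card_eq_fintype_card, Fintype.card_subtype]
    congr 1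
    ext z
    simp only [hT, Finset.mem_filter, Finset.mem_erase, Finset.mem_univ, true_and,
      ConjClasses.mk_eq_mk_iff_isConj]
    constructor
    · exact fun h => h.2.symm
    · intro h
      obtain ⟨c, hc⟩ := isConj_iff.mp h
      subst hc
      refine ⟨⟨fun e => hy.1 (conj_eq_one_iff.mp e), ?_⟩, h.symm⟩
      exact (Subgroup.Normal.map inferInstance q hq).conj_mem _ ⟨n, hn, rfl⟩ c
  rw [hfib, card_conj_eq_index]
  have hc : Subgroup.centralizer ({q n} : Set (L ⧸ H₁)) = K.map q := by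
    ext z
    obtain ⟨x, rfl⟩ := hq z
    rw [Subgroup.mem_centralizer_singleton_iff]
    constructor
    · intro h
      refine ⟨x, hfrob n (hNK hn) ?_ x ?_, rfl⟩
      · exact fun hn1 => hy.1 ((QuotientGroup.eq_one_iff n).mpr hn1)
      · rw [← QuotientGroup.eq_one_iff]
        show q (x * n * x⁻¹ * n⁻¹) = 1
        simp only [map_mul, map_inv]
        rw [h]
        group
    · rintro ⟨k, hk, hkx⟩
      have h2 := (QuotientGroup.eq_one_iff (N := H₁) _).mpr (hab k hk n (hNK hn))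
      change q (k * n * k⁻¹ * n⁻¹) = 1 at h2
      simp only [map_mul, map_inv] at h2
      rw [← hkx]
      exact mul_inv_eq_iff_eq_mul.mp (mul_inv_eq_one.mp h2)
  rw [hc, Subgroup.index_map_eq _ hq (by rw [QuotientGroup.ker_mk']; exact h1.trans hNK)]

/-- An element of a section gives an odd multiple bound. -/
theorem two_mul_index_lt_relIndex (K H₁ N : Subgroup L) [K.Normal] [H₁.Normal] [N.Normal]
    (hodd : Odd (Nat.card L)) (h1 : H₁ < N) (hNK : N ≤ K)
    (hab : ∀ a ∈ K, ∀ b ∈ K, a * b * a⁻¹ * b⁻¹ ∈ H₁)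
    (hfrob : ∀ k ∈ K, k ∉ H₁ → ∀ x : L, x * k * x⁻¹ * k⁻¹ ∈ H₁ → x ∈ K) :
    2 * K.index < H₁.relIndex N := by
  have hd := index_dvd_relIndex_sub_one K H₁ N h1.le hNK hab hfrob
  have hne : H₁.relIndex N ≠ 1 := fun h => h1.not_ge (Subgroup.relIndex_eq_one.mp h)
  have h0 : H₁.relIndex N ≠ 0 := Subgroup.index_ne_zero_of_finite
  obtain ⟨a, ha⟩ := Odd.of_dvd_nat hodd ((Subgroup.relIndex_dvd_index_of_le h1.le).trans H₁.index_dvd_card)
  obtain ⟨b, hb⟩ := Odd.of_dvd_nat hodd K.index_dvd_card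
  obtain ⟨t, ht⟩ := hd
  rcases t with _ | _ | t
  · omega
  · omega
  · have : H₁.relIndex N = K.index * (t + 1 + 1) + 1 := by omega
    rw [this]
    nlinarith

/-- In a nilpotent group with abelianization of prime power order the order is a prime power. -/
theorem isPGroup_of_abelianization {Q : Type u} [Group Q] [Finite Q] (hQ : Group.IsNilpotent Q) {p : ℕ}
    [Fact p.Prime] {m : ℕ} (h : (commutator Q).index = p ^ m) : IsPGroup p Q := by
  haveI := hQ
  let P : Sylow p Q := default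
  have htfae := (Group.isNilpotent_of_finite_tfae (G := Q)).out 0 3
  haveI : (P : Subgroup Q).Normal := htfae.mp hQ p inferInstance P
  have htop : (P : Subgroup Q) ⊔ commutator Q = ⊤ := by
    rw [← Subgroup.index_eq_one]
    refine Nat.eq_one_of_dvd_coprimes (Nat.Coprime.pow_left m
      ((Fact.out : p.Prime).coprime_iff_not_dvd.mpr P.not_dvd_index))
      (h ▸ Subgroup.index_dvd_of_le le_sup_right) (Subgroup.index_dvd_of_le le_sup_left)
  haveI hs : Subsingleton (Q ⧸ (P : Subgroup Q)) := by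
    by_contra hns
    haveI := not_subsingleton_iff_nontrivial.mp hns
    refine (Group.IsSolvable.commutator_lt_top_of_nontrivial (Q ⧸ (P : Subgroup Q))).ne ?_
    have hsur := QuotientGroup.mk'_surjective (P : Subgroup Q)
    rw [commutator_def, ← Subgroup.map_top_of_surjective _ hsur, ← Subgroup.map_commutator, ← commutator_def]
    refine le_antisymm (Subgroup.map_mono le_top) ?_
    rw [← htop, Subgroup.map_sup, sup_le_iff]
    exact ⟨((Subgroup.map_eq_bot_iff _).mpr (QuotientGroup.ker_mk' (P : Subgroup Q)).ge).le.trans bot_le, le_rfl⟩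
  have hPt : (P : Subgroup Q) = ⊤ := QuotientGroup.subgroup_eq_top_of_subsingleton (P : Subgroup Q) hs
  exact P.isPGroup'.of_equiv ((MulEquiv.subgroupCongr hPt).trans Subgroup.topEquiv)

/-- Characters above a subgroup containing the commutator are linear. -/
theorem degNat_eq_one_of_above {K : Subgroup L} [K.Normal] {H₁ : Subgroup L} [H₁.Normal]
    (hab : ∀ a ∈ K, ∀ b ∈ K, a * b * a⁻¹ * b⁻¹ ∈ H₁) {θ : IrrCharacter K}
    (hθ : Above H₁ (θ : K → ℂ)) : degNat θ = 1 := by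
  obtain ⟨ψ, hψ, he⟩ := IsIrrCharacter.exists_quotient θ.2 (H₁.subgroupOf K) fun n hn =>
    hθ n (Subgroup.mem_subgroupOf.mp hn)
  refine degNat_eq ?_
  rw [he, Function.comp_apply, map_one, Nat.cast_one]
  refine IsIrrCharacter.apply_one_of_comm (fun a b => ?_) hψ
  obtain ⟨a, rfl⟩ := QuotientGroup.mk'_surjective (H₁.subgroupOf K) a
  obtain ⟨b, rfl⟩ := QuotientGroup.mk'_surjective (H₁.subgroupOf K) b
  rw [← map_mul, ← map_mul]
  refine QuotientGroup.eq.mpr ?_
  rw [Subgroup.mem_subgroupOf]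
  have := hab _ (inv_mem b.2) _ (inv_mem a.2)
  simpa [mul_assoc] using this

theorem above_of_degNat_one {K : Subgroup L} [K.Normal] {M : Subgroup L} {θ : IrrCharacter K}
    (h : degNat θ = 1) (hθ : Above M (θ : K → ℂ)) : Above (⁅K, K⁆ ⊔ M) (θ : K → ℂ) := by
  intro a ha
  have h1 : (θ : K → ℂ) 1 = 1 := by rw [apply_one_eq_degNat, h, Nat.cast_one]
  have hle : ⁅K, K⁆ ⊔ M ⊓ K ≤ (charKernel (irr_isCharacter θ)).map K.subtype := by
    refine sup_le ?_ ?_
    · rw [← Subgroup.map_subtype_commutator]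
      exact Subgroup.map_mono fun x hx => by
        rw [mem_charKernel, IsCharacter.apply_of_mem_commutator (irr_isCharacter θ) h1 hx, h1]
    · intro x hx
      exact ⟨⟨x, hx.2⟩, hθ _ hx.1, rfl⟩
  have ha' : (a : L) ∈ ⁅K, K⁆ ⊔ M ⊓ K := by
    obtain ⟨c, hc, m, hm, hcm⟩ := Subgroup.mem_sup_of_normal_left.mp ha
    have hcK : c ∈ K := Subgroup.commutator_le_self K hc
    refine hcm ▸ Subgroup.mul_mem_sup hc ⟨hm, ?_⟩
    have : m = c⁻¹ * a := by rw [← hcm]; group
    rw [this]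
    exact K.mul_mem (K.inv_mem hcK) a.2
  obtain ⟨b, hb, hba⟩ := hle ha'
  rw [← Subtype.ext hba]
  exact hb

variable {G : Type v} [Group G] [Fintype G] {τ : (L → ℂ) → (G → ℂ)} {R : (L → ℂ) → Finset (G → ℂ)}

/-- The members of degree `[L:K]` form a coherent set. -/
theorem coherent_linear (K : Subgroup L) [K.Normal] (hsolv : Group.IsSolvable K)
    (hS : Cfsg.IsCoherenceSystem (Cfsg.inducedIrrAbove K ⊥) τ R) (H₁ : Subgroup L) [H₁.Normal]
    (hlt : ¬ K ≤ H₁) (hab : ∀ a ∈ K, ∀ b ∈ K, a * b * a⁻¹ * b⁻¹ ∈ H₁) :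
    Cfsg.IsCoherent (Cfsg.inducedIrrAbove K H₁) {1}ᶜ τ := by
  classical
  haveI := Fintype.ofFinite (IrrCharacter K)
  obtain ⟨θ, hθ, -⟩ := exists_linear_above hsolv H₁ hlt
  have hmem : Cfsg.indFun K (θ : K → ℂ) ∈ Cfsg.inducedIrrAbove K H₁ :=
    (indFun_mem_iff θ).mpr (mem_aboveSet.mp hθ)
  refine Cfsg.Agent.S1517.result _ τ R (system_restrict hS (inducedIrrAbove_subset_bot H₁) ⟨_, hmem⟩
    fun φ h => conjFun_mem_inducedIrrAbove h) fun φ hφ ψ hψ => ?_
  obtain ⟨a, -, ha, rfl⟩ := mem_inducedIrrAbove.mp hφ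
  obtain ⟨b, -, hb, rfl⟩ := mem_inducedIrrAbove.mp hψ
  rw [indFun_degree, indFun_degree, degNat_eq_one_of_above hab ha, degNat_eq_one_of_above hab hb]

/-- A prime power order kernel with `[L:K]` dividing `p - 1`. -/
theorem coherent_prime_power (K : Subgroup L) [K.Normal] (hsolv : Group.IsSolvable K) (hodd : Odd (Nat.card L))
    (hS : Cfsg.IsCoherenceSystem (Cfsg.inducedIrrAbove K ⊥) τ R) (M : Subgroup L) [M.Normal] (hMK : M < K)
    (hlt : ¬ K ≤ ⁅K, K⁆ ⊔ M) {p m : ℕ} (hp : p.Prime) (hcard : M.relIndex K = p ^ m) (he : K.index ∣ p - 1) :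
    Cfsg.IsCoherent (Cfsg.inducedIrrAbove K M) {1}ᶜ τ := by
  classical
  haveI := Fintype.ofFinite (IrrCharacter K)
  have hm : m ≠ 0 := fun h => hMK.not_ge (Subgroup.relIndex_eq_one.mp (by rw [hcard, h, pow_zero]))
  have hpodd : Odd p := Odd.of_dvd_nat hodd ((dvd_pow_self p hm).trans (hcard ▸
    (Subgroup.relIndex_dvd_index_of_le hMK.le).trans M.index_dvd_card))
  have hpe : 2 * K.index + 1 ≤ p := by
    obtain ⟨a, ha⟩ := hpodd
    obtain ⟨b, hb⟩ := Odd.of_dvd_nat hodd K.index_dvd_card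
    obtain ⟨t, ht⟩ := he
    rcases t with _ | _ | t
    · have := hp.two_le; omega
    · omega
    · have := hp.two_le
      have : p = K.index * (t + 1 + 1) + 1 := by omega
      rw [this]; nlinarith
  set H₁ := ⁅K, K⁆ ⊔ M with hH₁
  have hab : ∀ a ∈ K, ∀ b ∈ K, a * b * a⁻¹ * b⁻¹ ∈ H₁ := fun a ha b hb =>
    Subgroup.mem_sup_left (Subgroup.commutator_mem_commutator ha hb)
  set T := (aboveSet (K := K) M).image fun θ : IrrCharacter K => Cfsg.indFun K (θ : K → ℂ) with hT
  set X₀ := (aboveSet (K := K) H₁).image fun θ : IrrCharacter K => Cfsg.indFun K (θ : K → ℂ) with hX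
  have hTc : (T : Set (L → ℂ)) = Cfsg.inducedIrrAbove K M := coe_image_aboveSet M
  have hXc : (X₀ : Set (L → ℂ)) = Cfsg.inducedIrrAbove K H₁ := coe_image_aboveSet H₁
  obtain ⟨θ₁, hθ₁, hθ₁d⟩ := exists_linear_above hsolv H₁ hlt
  rw [← hTc]
  refine coherent_grow hS T (hTc ▸ inducedIrrAbove_subset_bot M) ?_ X₀ ?_ ?_
    (hXc.symm ▸ coherent_linear K hsolv hS H₁ hlt hab) _ (Finset.mem_image_of_mem _ hθ₁) K.index
    (by rw [indFun_degree, hθ₁d, mul_one]) ?_
  · intro φ hφ
    rw [← Finset.mem_coe, hTc] at hφ ⊢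
    exact conjFun_mem_inducedIrrAbove hφ
  · rw [← Finset.coe_subset, hTc, hXc]
    exact inducedIrrAbove_mono le_sup_right
  · intro φ hφ
    rw [← Finset.mem_coe, hXc] at hφ ⊢
    exact conjFun_mem_inducedIrrAbove hφ
  intro φ hφ hφX X _ _ hlow
  obtain ⟨θ, hθ, rfl⟩ := Finset.mem_image.mp hφ
  refine ⟨degNat θ, by rw [indFun_degree, mul_comm], ?_⟩
  -- degrees are powers of p
  have hdeg : ∀ ψ ∈ aboveSet (K := K) M, ∃ i, degNat ψ = p ^ i := by
    intro ψ hψ
    obtain ⟨ξ, hξ, he'⟩ := IsIrrCharacter.exists_quotient ψ.2 (M.subgroupOf K) fun n hn =>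
      (mem_aboveSet.mp hψ).2 n (Subgroup.mem_subgroupOf.mp hn)
    obtain ⟨t, -, ht, htd⟩ := IsIrrCharacter.exists_degree_dvd hξ
    rw [← Subgroup.index_eq_card, show (M.subgroupOf K).index = p ^ m from hcard] at htd
    obtain ⟨i, -, rfl⟩ := (Nat.dvd_prime_pow hp).mp htd
    exact ⟨i, degNat_eq (by rw [he', Function.comp_apply, map_one, ht])⟩
  obtain ⟨i, hi⟩ := hdeg θ hθ
  have hd1 : 1 < degNat θ := by
    refine lt_of_le_of_ne (degNat_pos θ) fun h => hφX ?_
    exact Finset.mem_image_of_mem _ (mem_aboveSet.mpr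
      ⟨(mem_aboveSet.mp hθ).1, above_of_degNat_one h.symm (mem_aboveSet.mp hθ).2⟩)
  set T' := (aboveSet (K := K) M).filter fun ψ => degNat ψ < degNat θ with hT'
  have hsub : T'.image (fun ψ : IrrCharacter K => Cfsg.indFun K (ψ : K → ℂ)) ⊆ X := by
    intro ψ hψ
    obtain ⟨a, ha, rfl⟩ := Finset.mem_image.mp hψ
    refine hlow _ (Finset.mem_image_of_mem _ (Finset.mem_filter.mp ha).1) ?_
    rw [indFun_degree, indFun_degree, Complex.natCast_re, Complex.natCast_re, Nat.cast_lt]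
    exact Nat.mul_lt_mul_of_pos_left (Finset.mem_filter.mp ha).2 (Nat.pos_of_ne_zero Subgroup.index_ne_zero_of_finite)
  refine lt_of_lt_of_le ?_ (Finset.sum_le_sum_of_subset_of_nonneg hsub fun ψ _ _ => wt_nonneg ψ)
  rw [sum_wt_image T' fun a ha ψ h => by
    obtain ⟨ha1, ha2⟩ := Finset.mem_filter.mp ha
    refine Finset.mem_filter.mpr ⟨mem_aboveSet.mpr ⟨ne_triv_of_indFun_eq h.symm (mem_aboveSet.mp ha1).1,
      above_of_indFun_eq h.symm (mem_aboveSet.mp ha1).2⟩, ?_⟩
    rwa [degNat_eq_of_indFun_eq h]]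
  rw [indFun_degree, Complex.natCast_re]
  have hle : 2 * K.index * degNat θ < ∑ a ∈ T', degNat a ^ 2 := by
    have htot : (∑ a ∈ aboveSet (K := K) M, degNat a ^ 2) + 1 = p ^ m := hcard ▸ sum_degSq_above M
    have hrest : ∀ a ∈ (aboveSet (K := K) M).filter (fun a => ¬ degNat a < degNat θ),
        degNat θ ^ 2 ∣ degNat a ^ 2 := by
      intro a ha
      obtain ⟨j, hj⟩ := hdeg a (Finset.mem_filter.mp ha).1
      have := (Finset.mem_filter.mp ha).2
      rw [hi, hj, not_lt] at this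
      rw [hi, hj]
      exact pow_dvd_pow_of_dvd (pow_dvd_pow p ((Nat.pow_le_pow_iff_right hp.one_lt).mp this)) 2
    have hsq : degNat θ ^ 2 ∣ p ^ m := by
      rw [hi, ← pow_mul]
      refine pow_dvd_pow p ((Nat.pow_le_pow_iff_right hp.one_lt).mp ?_)
      rw [pow_mul, ← hi, ← htot]
      exact le_add_right (Finset.single_le_sum (f := fun a => degNat a ^ 2) (fun _ _ => Nat.zero_le _) hθ)
    have hdvd : degNat θ ^ 2 ∣ (∑ a ∈ T', degNat a ^ 2) + 1 := by
      rw [← htot, ← Finset.sum_filter_add_sum_filter_not (aboveSet (K := K) M) (fun a => degNat a < degNat θ),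
        add_right_comm] at hsq
      exact (Nat.dvd_add_left (Finset.dvd_sum hrest)).mp hsq
    have hge := Nat.le_of_dvd (Nat.succ_pos _) hdvd
    have hpd : p ≤ degNat θ := by
      rw [hi] at hd1 ⊢
      exact Nat.le_self_pow (fun h => by rw [h, pow_zero] at hd1; omega) p
    nlinarith
  have hpos : (0 : ℝ) < K.index := by exact_mod_cast Nat.pos_of_ne_zero Subgroup.index_ne_zero_of_finite
  have h4 : ((2 * K.index * degNat θ : ℕ) : ℝ) < ((∑ a ∈ T', degNat a ^ 2 : ℕ) : ℝ) := Nat.cast_lt.mpr hle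
  have := mul_lt_mul_of_pos_left h4 hpos
  push_cast at this ⊢
  linarith

end Cfsg.Agent.Lib.OddChar
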