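import Cfsg.Agent.Lib.OddChar.LiftRank
import Cfsg.Agent.Lib.Coprime.External
import Mathlib.GroupTheory.Solvable
import Mathlib.Algebra.Module.ZMod
import Mathlib.LinearAlgebra.Dimension.Free

/-!
The order formula for the fixed points of a Frobenius group acting coprimely on a solvable group.
-/

namespace Cfsg.Agent.Lib.OddChar

universe u v

/-- Fixed points of a subgroup of operators. -/
def fixSub {Y : Type v} [Group Y] {K : Type u} [Group K] (φ : Y →* MulAut K) (S : Subgroup Y) : Subgroup K where
  carrier := {k | ∀ s ∈ S, φ s k = k}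
  one_mem' := fun s _ => map_one _
  mul_mem' := fun {a b} ha hb s hs => by rw [map_mul, ha s hs, hb s hs]
  inv_mem' := fun {a} ha s hs => by rw [map_inv, ha s hs]

theorem mem_fixSub {Y : Type v} [Group Y] {K : Type u} [Group K] {φ : Y →* MulAut K} {S : Subgroup Y}
    {k : K} : k ∈ fixSub φ S ↔ ∀ s ∈ S, φ s k = k := Iff.rfl

section

variable {Y : Type v} [Group Y] [Finite Y] {K : Type u} [Group K] [Finite K] (φ : Y →* MulAut K)

/-- Restriction to a characteristic subgroup. -/
noncomputable def restrictAct (N : Subgroup K) [hN : N.Characteristic] : Y →* MulAut N :=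
  MonoidHom.mk' (fun y =>
    { toFun := fun n => ⟨φ y n,
        (Subgroup.characteristic_iff_map_eq.mp hN (φ y)).le (Subgroup.mem_map_of_mem _ n.2)⟩
      invFun := fun n => ⟨φ y⁻¹ n,
        (Subgroup.characteristic_iff_map_eq.mp hN (φ y⁻¹)).le (Subgroup.mem_map_of_mem _ n.2)⟩
      left_inv := fun n => Subtype.ext (by simp)
      right_inv := fun n => Subtype.ext (by simp)
      map_mul' := fun a b => Subtype.ext (map_mul (φ y) _ _) })
    fun a b => MulEquiv.ext fun n => Subtype.ext (by simp)

/-- The action on a characteristic quotient. -/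
noncomputable def quotientAct (N : Subgroup K) [hN : N.Characteristic] : Y →* MulAut (K ⧸ N) :=
  MonoidHom.mk' (fun y => QuotientGroup.congr N N (φ y) (Subgroup.characteristic_iff_map_eq.mp hN (φ y)))
    fun a b => MulEquiv.ext fun q => by
      induction q using QuotientGroup.induction_on with | _ k =>
      show ((φ (a * b) k : K) : K ⧸ N) = _
      rw [map_mul]; rfl

theorem card_fixSub_mul (hsolv : Group.IsSolvable K) (N : Subgroup K) [hN : N.Characteristic]
    (S : Subgroup Y) (hcop : (Nat.card S).Coprime (Nat.card K)) :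
    Nat.card (fixSub φ S) = Nat.card (fixSub (restrictAct φ N) S) *
      Nat.card (fixSub (quotientAct φ N) S) := by
  haveI : N.Normal := Subgroup.normal_of_characteristic N
  let g : fixSub φ S →* K ⧸ N := (QuotientGroup.mk' N).comp (fixSub φ S).subtype
  rw [← g.ker.card_mul_index, Subgroup.index_ker g]
  congr 1
  · refine Nat.card_congr
      { toFun := fun k => ⟨⟨(k : K), (QuotientGroup.eq_one_iff (k : K)).mp (MonoidHom.mem_ker.mp k.2)⟩,
          fun s hs => Subtype.ext (k.1.2 s hs)⟩
        invFun := fun n => ⟨⟨(n : K), fun s hs => congrArg Subtype.val (n.2 s hs)⟩,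
          MonoidHom.mem_ker.mpr ((QuotientGroup.eq_one_iff ((n : N) : K)).mpr n.1.2)⟩
        left_inv := fun k => rfl
        right_inv := fun n => rfl }
  · have h : g.range = fixSub (quotientAct φ N) S := by
      apply le_antisymm
      · rintro _ ⟨k, rfl⟩ s hs
        show quotientAct φ N s (QuotientGroup.mk' N (k : K)) = QuotientGroup.mk' N (k : K)
        conv_rhs => rw [← k.2 s hs]
        rfl
      · intro q hq
        induction q using QuotientGroup.induction_on with | _ k =>
        obtain ⟨n, hn, hfix⟩ := Coprime.exists_fixed_of_fixed_coset (φ.comp S.subtype) hcop (Or.inr hsolv)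
          (N := N) (fun a x hx => (Subgroup.characteristic_iff_map_eq.mp hN (φ a)).le (Subgroup.mem_map_of_mem _ hx))
          k (fun a => by
            have h1 : ((φ a k : K) : K ⧸ N) = (k : K ⧸ N) := hq a a.2
            rw [← QuotientGroup.eq_one_iff, QuotientGroup.mk_mul, QuotientGroup.mk_inv]
            show ((φ a k : K) : K ⧸ N) * _ = 1
            rw [h1, mul_inv_cancel])
        exact ⟨⟨k * n, fun s hs => hfix ⟨s, hs⟩⟩, QuotientGroup.mk_mul_of_mem k hn⟩
    rw [h]

end

/-- Splitting a sum over a Frobenius group along its partition. -/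
theorem frobenius_sum {Y : Type v} [Group Y] [Fintype Y] (U E : Subgroup Y) [Fintype U] [Fintype E]
    [hU : U.Normal] (hUE : U ⊓ E = ⊥) (hcard : Fintype.card Y = Fintype.card U * Fintype.card E)
    (hfpf : ∀ e ∈ E, e ≠ 1 → ∀ u ∈ U, e * u = u * e → u = 1) {M : Type} [AddCommGroup M] (f : Y → M) :
    ∑ g, f g + Fintype.card U • f 1 = ∑ u : U, f u + ∑ u : U, ∑ e : E, f ((u : Y) * e * (u : Y)⁻¹) := by
  classical
  let T : Finset (U × E) := Finset.univ.filter fun p => p.2 ≠ 1
  let F : U × E → Y := fun p => (p.1 : Y) * p.2 * (p.1 : Y)⁻¹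
  have hsplit : ∑ u : U, ∑ e : E, f ((u : Y) * e * (u : Y)⁻¹) = Fintype.card U • f 1 + ∑ p ∈ T, f (F p) := by
    rw [← Fintype.sum_prod_type' (f := fun (u : U) (e : E) => f ((u : Y) * e * (u : Y)⁻¹)),
      ← Finset.sum_filter_not_add_sum_filter Finset.univ (fun p : U × E => p.2 ≠ 1)]
    congr 1
    rw [Finset.sum_congr rfl (g := fun _ => f 1) fun p hp => ?_, Finset.sum_const]
    · congr 1
      have e : (Finset.univ.filter fun p : U × E => ¬ p.2 ≠ 1) = Finset.univ ×ˢ {1} := by
        ext p; simp only [Finset.mem_filter, Finset.mem_product, Finset.mem_univ, Finset.mem_singleton, true_and, ne_eq, not_not]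
      rw [e, Finset.card_product]; simp
    · simp at hp; simp [hp]
  have hinj : Set.InjOn F ↑T := by
    rintro ⟨u, e⟩ he ⟨v, f⟩ hf h
    simp only [T, Finset.coe_filter, Finset.mem_univ, true_and, Set.mem_setOf_eq] at he hf
    have h' : (v : Y)⁻¹ * u * e * ((v : Y)⁻¹ * u)⁻¹ = f := by
      calc (v : Y)⁻¹ * u * e * ((v : Y)⁻¹ * u)⁻¹ = (v : Y)⁻¹ * ((u : Y) * e * (u : Y)⁻¹) * v := by group
        _ = (v : Y)⁻¹ * ((v : Y) * f * (v : Y)⁻¹) * v := by
          rw [show (u : Y) * e * (u : Y)⁻¹ = (v : Y) * f * (v : Y)⁻¹ from h]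
        _ = f := by group
    have hw : (v : Y)⁻¹ * u ∈ U := U.mul_mem (U.inv_mem v.2) u.2
    generalize hwd : (v : Y)⁻¹ * u = w at h' hw
    have hef : (f : Y) * (e : Y)⁻¹ ∈ U ⊓ E := by
      refine ⟨?_, E.mul_mem f.2 (E.inv_mem e.2)⟩
      rw [← h']
      have := U.mul_mem hw (hU.conj_mem w⁻¹ (U.inv_mem hw) e)
      simpa [mul_assoc] using this
    rw [hUE, Subgroup.mem_bot, mul_inv_eq_one] at hef
    rw [hef] at h'
    have hw1 : w = 1 := hfpf e e.2 (fun h1 => he (Subtype.ext h1)) w hw (mul_inv_eq_iff_eq_mul.mp h').symm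
    rw [hw1, inv_mul_eq_one] at hwd
    exact Prod.ext (Subtype.ext hwd.symm) (Subtype.ext hef.symm)
  have himg : T.image F = Finset.univ.filter fun g : Y => g ∉ U := by
    refine Finset.eq_of_subset_of_card_le (fun g hg => ?_) ?_
    · obtain ⟨⟨u, e⟩, he, rfl⟩ := Finset.mem_image.mp hg
      simp only [T, Finset.mem_filter, Finset.mem_univ, true_and] at he ⊢
      intro hin
      have h1 : (e : Y) ∈ U ⊓ E := ⟨by
        have := hU.conj_mem _ hin (u : Y)⁻¹
        simpa [F, mul_assoc] using this, e.2⟩
      rw [hUE, Subgroup.mem_bot] at h1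
      exact he (Subtype.ext h1)
    · rw [Finset.card_image_of_injOn hinj]
      have e1 : T = Finset.univ ×ˢ (Finset.univ.erase (1 : E)) := by ext p; simp [T]
      rw [Finset.filter_not, Finset.card_sdiff_of_subset (Finset.filter_subset _ _), Finset.card_univ,
        ← Fintype.card_subtype, e1, Finset.card_product, Finset.card_erase_of_mem (Finset.mem_univ _),
        Finset.card_univ, Finset.card_univ, hcard, Nat.mul_sub, mul_one]
  rw [hsplit, ← Finset.sum_filter_add_sum_filter_not Finset.univ (fun g : Y => g ∈ U), ← himg,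
    Finset.sum_image hinj, Finset.sum_subtype (p := fun g => g ∈ U) _ (fun x => by simp) f]
  abel

section

variable {Y : Type v} [Group Y] [Fintype Y] (U E : Subgroup Y) [Fintype U] [Fintype E] [hU : U.Normal]
  (hUE : U ⊓ E = ⊥) (hcard : Fintype.card Y = Fintype.card U * Fintype.card E)
  (hfpf : ∀ e ∈ E, e ≠ 1 → ∀ u ∈ U, e * u = u * e → u = 1)

include hUE hcard hfpf

theorem formula_elementary {K : Type u} [CommGroup K] [Finite K] {p : ℕ} [Fact p.Prime]
    (hK : ∀ x : K, x ^ p = 1) (hp : ¬ p ∣ Fintype.card Y) (φ : Y →* MulAut K) :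
    Nat.card (fixSub φ ⊤) ^ Fintype.card E * Nat.card K =
      Nat.card (fixSub φ E) ^ Fintype.card E * Nat.card (fixSub φ U) := by
  classical
  haveI : Module (ZMod p) (Additive K) :=
    AddCommGroup.zmodModule fun v => Additive.toMul.injective (hK v.toMul)
  haveI : Module.Finite (ZMod p) (Additive K) := Module.Finite.of_finite
  obtain ⟨d, ⟨b⟩⟩ : ∃ d, Nonempty (Module.Basis (Fin d) (ZMod p) (Additive K)) :=
    ⟨_, ⟨Module.finBasis (ZMod p) (Additive K)⟩⟩
  let L : Y → Additive K →ₗ[ZMod p] Additive K := fun y =>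
    (MonoidHom.toAdditive ((φ y : MulAut K) : K →* K)).toZModLinearMap p
  let m : Y →* Matrix (Fin d) (Fin d) (ZMod p) :=
    { toFun := fun y => LinearMap.toMatrix b b (L y)
      map_one' := by
        rw [← LinearMap.toMatrix_one b]
        congr 1
        refine LinearMap.ext fun v => ?_
        simp [L]
      map_mul' := fun x y => by
        rw [← LinearMap.toMatrix_comp b b b]
        congr 1
        refine LinearMap.ext fun v => ?_
        simp [L] }
  let e : K ≃ (Fin d → ZMod p) := Additive.ofMul.trans b.equivFun.toEquiv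
  have hm : ∀ y k, (m y).mulVec (e k) = e (φ y k) := fun y k => by
    show (LinearMap.toMatrix b b (L y)).mulVec (b.equivFun (Additive.ofMul k)) = b.equivFun (Additive.ofMul (φ y k))
    rw [Module.Basis.equivFun_apply, Module.Basis.equivFun_apply, LinearMap.toMatrix_mulVec_repr]
    rfl
  have hcnt : ∀ S : Subgroup Y, ∀ [Fintype S],
      Nat.card (fixSub φ S) = p ^ (∑ s : S, m s).rank := by
    intro S _
    have hS : (Fintype.card S : ZMod p) ≠ 0 := by
      rw [Ne, ZMod.natCast_eq_zero_iff]
      intro h
      refine hp (h.trans ?_)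
      rw [← Nat.card_eq_fintype_card, ← Nat.card_eq_fintype_card]
      exact S.card_subgroup_dvd_card
    set M := ∑ s : S, m s with hM
    have hrange : ∀ k, k ∈ fixSub φ S ↔ e k ∈ LinearMap.range M.mulVecLin := by
      intro k
      constructor
      · intro hk
        refine ⟨(Fintype.card S : ZMod p)⁻¹ • e k, ?_⟩
        rw [LinearMap.map_smul, Matrix.mulVecLin_apply, hM, Matrix.sum_mulVec,
          Finset.sum_congr rfl (g := fun _ => e k) (fun s _ => by rw [hm, hk s s.2]), Finset.sum_const,
          Finset.card_univ, ← Nat.cast_smul_eq_nsmul (ZMod p), smul_smul, inv_mul_cancel₀ hS, one_smul]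
      · rintro ⟨w, hw⟩ s hs
        apply e.injective
        rw [← hm, ← hw, Matrix.mulVecLin_apply, Matrix.mulVec_mulVec]
        congr 1
        rw [hM, Finset.mul_sum]
        exact Fintype.sum_equiv (Equiv.mulLeft ⟨s, hs⟩) _ _ fun t => by rw [← map_mul]; rfl
    rw [Nat.card_congr (e.subtypeEquiv hrange : fixSub φ S ≃ LinearMap.range M.mulVecLin),
      Module.natCard_eq_pow_finrank (K := ZMod p), Nat.card_zmod]
    rfl
  have hid := rank_identity hp m U E hcard (fun {M} _ f => frobenius_sum U E hUE hcard hfpf f)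
  have htop : Nat.card (fixSub φ ⊤) = p ^ (∑ g, m g).rank := by
    rw [hcnt ⊤, Fintype.sum_equiv (Subgroup.topEquiv.toEquiv) (fun t : (⊤ : Subgroup Y) => m (t : Y)) m (fun t => rfl)]
  have hKd : Nat.card K = p ^ d := by
    rw [Nat.card_congr e, Nat.card_fun, Nat.card_zmod, Nat.card_fin]
  rw [htop, hcnt U, hcnt E, hKd, ← pow_mul, ← pow_mul, ← pow_add, ← pow_add]
  congr 1
  linarith [hid]

theorem formula_solvable : ∀ (n : ℕ) (K : Type u) [Group K] [Finite K], Nat.card K = n →
    Group.IsSolvable K → Nat.Coprime (Fintype.card Y) (Nat.card K) → ∀ φ : Y →* MulAut K,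
    Nat.card (fixSub φ ⊤) ^ Fintype.card E * Nat.card K =
      Nat.card (fixSub φ E) ^ Fintype.card E * Nat.card (fixSub φ U) := by
  intro n
  induction n using Nat.strong_induction_on with
  | _ n ih =>
    intro K _ _ hn hsolv hcop φ
    classical
    by_cases htriv : Nat.card K = 1
    · haveI := (Nat.card_eq_one_iff_unique.mp htriv).1
      simp
    have step : ∀ N : Subgroup K, N.Characteristic → N ≠ ⊥ → N ≠ ⊤ →
        Nat.card (fixSub φ ⊤) ^ Fintype.card E * Nat.card K =
          Nat.card (fixSub φ E) ^ Fintype.card E * Nat.card (fixSub φ U) := by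
      intro N hN hNb hNt
      haveI := hN
      haveI : N.Normal := Subgroup.normal_of_characteristic N
      have hcS : ∀ S : Subgroup Y, (Nat.card S).Coprime (Nat.card K) := fun S =>
        (hcop.coprime_dvd_left (by rw [← Nat.card_eq_fintype_card]; exact S.card_subgroup_dvd_card))
      have h2N : 1 < Nat.card N := N.one_lt_card_iff_ne_bot.mpr hNb
      have hi : 1 < N.index := by
        rcases Nat.lt_trichotomy N.index 1 with h | h | h
        · exact absurd (Nat.lt_one_iff.mp h) Subgroup.index_ne_zero_of_finite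
        · exact absurd (Subgroup.index_eq_one.mp h) hNt
        · exact h
      have hmul : Nat.card K = Nat.card N * Nat.card (K ⧸ N) := by
        rw [← Subgroup.index_eq_card, Subgroup.card_mul_index]
      have hlt1 : Nat.card N < n := by
        rw [← hn, hmul, ← Subgroup.index_eq_card]
        exact lt_mul_of_one_lt_right (by omega) hi
      have hlt2 : Nat.card (K ⧸ N) < n := by
        rw [← hn, hmul]
        exact lt_mul_of_one_lt_left Nat.card_pos h2N
      haveI := hsolv
      have hA := ih _ hlt1 N rfl inferInstance (hcop.coprime_dvd_right N.card_subgroup_dvd_card) (restrictAct φ N)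
      have hB := ih _ hlt2 (K ⧸ N) rfl inferInstance
        (hcop.coprime_dvd_right N.card_quotient_dvd_card) (quotientAct φ N)
      rw [card_fixSub_mul φ hsolv N ⊤ (hcS _), card_fixSub_mul φ hsolv N E (hcS _),
        card_fixSub_mul φ hsolv N U (hcS _), hmul, mul_pow, mul_pow]
      linear_combination (Nat.card (fixSub (quotientAct φ N) (⊤ : Subgroup Y)) ^ Fintype.card E * Nat.card (K ⧸ N)) * hA
        + (Nat.card (fixSub (restrictAct φ N) E) ^ Fintype.card E * Nat.card (fixSub (restrictAct φ N) U)) * hB
    by_cases hc : commutator K = ⊥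
    · letI : CommGroup K :=
        { (inferInstance : Group K) with
          mul_comm := fun a b => by
            have h : a * b * a⁻¹ * b⁻¹ ∈ commutator K :=
              Subgroup.commutator_mem_commutator (Subgroup.mem_top a) (Subgroup.mem_top b)
            rw [hc, Subgroup.mem_bot, mul_inv_eq_one, mul_inv_eq_iff_eq_mul] at h
            exact h }
      obtain ⟨p, hp, hpK⟩ := Nat.exists_prime_and_dvd htriv
      haveI := Fact.mk hp
      let N : Subgroup K := (powMonoidHom p : K →* K).ker
      have hmemN : ∀ x, x ∈ N ↔ x ^ p = 1 := fun x => Iff.rfl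
      by_cases hNt : N = ⊤
      · refine formula_elementary U E hUE hcard hfpf (fun x => (hmemN x).mp (hNt ▸ Subgroup.mem_top x)) ?_ φ
        intro h
        exact hp.ne_one (Nat.eq_one_of_dvd_coprimes hcop h hpK)
      · refine step N (Subgroup.characteristic_iff_comap_eq.mpr fun α => ?_) ?_ hNt
        · ext x
          rw [Subgroup.mem_comap, hmemN, hmemN]
          show (α x) ^ p = 1 ↔ _
          rw [← map_pow, map_eq_one_iff α α.injective]
        · obtain ⟨x, hx⟩ := exists_prime_orderOf_dvd_card' p hpK
          intro hb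
          have hxN : x ∈ N := (hmemN x).mpr (hx ▸ pow_orderOf_eq_one x)
          rw [hb, Subgroup.mem_bot] at hxN
          rw [hxN, orderOf_one] at hx
          exact hp.one_lt.ne' hx.symm
    · haveI : Nontrivial K := Finite.one_lt_card_iff_nontrivial.mp (by
        have := Nat.card_pos (α := K); omega)
      haveI := hsolv
      exact step (commutator K) inferInstance hc (Group.IsSolvable.commutator_lt_top_of_nontrivial K).ne

end

end Cfsg.Agent.Lib.OddChar
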