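import Cfsg.Agent.Lib.OddChar.CohSys
import Cfsg.Agent.Lib.Characters.Coherence

/-!
The sets of functions induced from the irreducible characters of a normal subgroup.
-/

namespace Cfsg.Agent.Lib.OddChar

open Cfsg.Agent.Lib.Characters
open scoped ComplexConjugate

set_option linter.unusedSectionVars false
set_option linter.style.haveILetI false

universe u

variable {L : Type u} [Group L] [Fintype L] {K : Subgroup L} [hK : K.Normal]

/-- Induction does not see conjugation. -/
theorem indFun_conjugate (x : L) (θ : K → ℂ) :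
    Cfsg.indFun K (Lib.Characters.conjFun K x θ) = Cfsg.indFun K θ := by
  funext g
  by_cases hg : g ∈ K
  · have h1 := congrFun (indFun_restrict K (Lib.Characters.conjFun K x θ)) ⟨g, hg⟩
    have h2 := congrFun (indFun_restrict K θ) ⟨g, hg⟩
    rw [h1, h2]
    simp only [Pi.smul_apply, Finset.sum_apply, smul_eq_mul, ← conjFun_mul]
    congr 1
    exact Fintype.sum_equiv (Equiv.mulLeft x) _ _ fun y => rfl
  · rw [indFun_vanish K _ hg, indFun_vanish K _ hg]

/-- Two induced irreducible characters are orthogonal or come from conjugate characters. -/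
theorem exists_conjugate_of_inner_ne {θ θ' : IrrCharacter K}
    (h : classInner (Cfsg.indFun K (θ : K → ℂ)) (Cfsg.indFun K (θ' : K → ℂ)) ≠ 0) :
    ∃ x : L, Lib.Characters.conjFun K x (θ : K → ℂ) = θ' := by
  haveI := Fintype.ofFinite K
  by_contra hne
  push Not at hne
  apply h
  haveI : IsEmpty {x : L // Lib.Characters.conjFun K x (θ : K → ℂ) = θ'} := ⟨fun x => hne x.1 x.2⟩
  rw [classInner_indFun_right K _ (isClassFunction_indFun K _),
    classInner_indFun_restrict K θ.2 θ'.2, Nat.card_of_isEmpty]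
  simp

theorem indFun_inner_self_ne (θ : IrrCharacter K) :
    classInner (Cfsg.indFun K (θ : K → ℂ)) (Cfsg.indFun K (θ : K → ℂ)) ≠ 0 := by
  intro h
  have := congrFun (classInner_self_eq_zero h) 1
  rw [indFun_one, Pi.zero_apply, mul_eq_zero, Nat.cast_eq_zero] at this
  exact this.elim Subgroup.index_ne_zero_of_finite (IsIrrCharacter.apply_one_ne_zero θ.2)

theorem exists_conjugate_of_eq {θ θ' : IrrCharacter K}
    (h : Cfsg.indFun K (θ : K → ℂ) = Cfsg.indFun K (θ' : K → ℂ)) :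
    ∃ x : L, Lib.Characters.conjFun K x (θ : K → ℂ) = θ' :=
  exists_conjugate_of_inner_ne (h ▸ indFun_inner_self_ne θ')

theorem indFun_orth_of_ne {θ θ' : IrrCharacter K}
    (h : Cfsg.indFun K (θ : K → ℂ) ≠ Cfsg.indFun K (θ' : K → ℂ)) :
    classInner (Cfsg.indFun K (θ : K → ℂ)) (Cfsg.indFun K (θ' : K → ℂ)) = 0 := by
  by_contra hne
  obtain ⟨x, hx⟩ := exists_conjugate_of_inner_ne hne
  exact h (by rw [← hx, indFun_conjugate])

theorem degNat_eq_of_indFun_eq {θ θ' : IrrCharacter K}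
    (h : Cfsg.indFun K (θ : K → ℂ) = Cfsg.indFun K (θ' : K → ℂ)) : degNat θ = degNat θ' := by
  have h1 := congrFun h 1
  rw [indFun_one, indFun_one, apply_one_eq_degNat, apply_one_eq_degNat] at h1
  exact_mod_cast mul_left_cancel₀ (Nat.cast_ne_zero.mpr Subgroup.index_ne_zero_of_finite) h1

theorem indFun_degree (θ : IrrCharacter K) :
    Cfsg.indFun K (θ : K → ℂ) 1 = ((K.index * degNat θ : ℕ) : ℂ) := by
  rw [indFun_one, apply_one_eq_degNat, Nat.cast_mul]

/-- The weight `φ(1)^2 / ⟨φ, φ⟩` of a function. -/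
noncomputable def wt (φ : L → ℂ) : ℝ := (φ 1).re ^ 2 / (classInner φ φ).re

theorem wt_nonneg (φ : L → ℂ) : 0 ≤ wt φ :=
  div_nonneg (sq_nonneg _) (classInner_self_re_nonneg φ)

open scoped Classical in
/-- The weight of an induced character in terms of the characters inducing it. -/
theorem wt_indFun [Fintype (IrrCharacter K)] (θ : IrrCharacter K) :
    wt (Cfsg.indFun K (θ : K → ℂ)) =
      (K.index : ℝ) * ((∑ ψ ∈ Finset.univ.filter (fun ψ : IrrCharacter K =>
        Cfsg.indFun K (ψ : K → ℂ) = Cfsg.indFun K (θ : K → ℂ)), degNat ψ ^ 2 : ℕ) : ℝ) := by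
  haveI := Fintype.ofFinite K
  set φ := Cfsg.indFun K (θ : K → ℂ) with hφ
  set F := Finset.univ.filter (fun ψ : IrrCharacter K => Cfsg.indFun K (ψ : K → ℂ) = φ) with hF
  obtain ⟨n, hn0, hn⟩ := char_norm (IsCharacter.indFun K (irr_isCharacter θ))
    (fun h => indFun_inner_self_ne θ (by rw [h, classInner_zero_left]))
  have hrec : ∀ ψ : IrrCharacter K, classInner (fun k : K => φ k) (ψ : K → ℂ) =
      if ψ ∈ F then (n : ℂ) else 0 := by
    intro ψ
    have hψ : (Finset.univ.filter (fun ψ : IrrCharacter K => Cfsg.indFun K (ψ : K → ℂ) = φ)) = F := rfl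
    rw [← classInner_indFun_right K (ψ : K → ℂ) (χ := φ) (isClassFunction_indFun K _)]
    split_ifs with h
    · rw [(Finset.mem_filter.mp h).2, hn]
    · exact indFun_orth_of_ne fun e => h (Finset.mem_filter.mpr ⟨Finset.mem_univ _, e.symm⟩)
  have hdeg : ∀ ψ ∈ F, degNat ψ = degNat θ := fun ψ hψ => degNat_eq_of_indFun_eq (Finset.mem_filter.mp hψ).2
  have h1 := congrFun (eq_sum_classInner (IsCharacter.isClassFunction
    (IsCharacter.restrict (IsCharacter.indFun K (irr_isCharacter θ)) K))) 1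
  simp only [Finset.sum_apply, Pi.smul_apply, smul_eq_mul, OneMemClass.coe_one] at h1
  rw [Finset.sum_congr rfl (g := fun ψ => if ψ ∈ F then (n : ℂ) * (degNat θ : ℂ) else 0) fun ψ _ => by
    rw [show classInner (fun k : K => Cfsg.indFun K (θ : K → ℂ) k) (ψ : K → ℂ) = _ from hrec ψ]
    split_ifs with h
    · rw [apply_one_eq_degNat, hdeg ψ h]
    · rw [zero_mul], Finset.sum_ite_mem, Finset.univ_inter, Finset.sum_const, indFun_degree,
    nsmul_eq_mul] at h1
  have h2 : K.index * degNat θ = F.card * (n * degNat θ) := by exact_mod_cast h1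
  rw [Finset.sum_congr rfl fun ψ hψ => by rw [hdeg ψ hψ], Finset.sum_const, smul_eq_mul]
  have h3 : K.index = F.card * n := Nat.eq_of_mul_eq_mul_right (degNat_pos θ) (by rw [h2]; ring)
  rw [wt, hn, hφ, indFun_degree, Complex.natCast_re, Complex.natCast_re, div_eq_iff (by positivity)]
  rw [h3]
  push_cast
  ring

open scoped Classical in
/-- Weights over the image of a conjugation-closed set of characters. -/
theorem sum_wt_image [Fintype (IrrCharacter K)] (T : Finset (IrrCharacter K))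
    (hT : ∀ θ ∈ T, ∀ ψ : IrrCharacter K,
      Cfsg.indFun K (ψ : K → ℂ) = Cfsg.indFun K (θ : K → ℂ) → ψ ∈ T) :
    ∑ φ ∈ T.image (fun θ : IrrCharacter K => Cfsg.indFun K (θ : K → ℂ)), wt φ =
      (K.index : ℝ) * ((∑ θ ∈ T, degNat θ ^ 2 : ℕ) : ℝ) := by
  rw [← Finset.sum_fiberwise_of_maps_to (s := T) (t := T.image (fun θ : IrrCharacter K => Cfsg.indFun K (θ : K → ℂ)))
    (g := fun θ : IrrCharacter K => Cfsg.indFun K (θ : K → ℂ)) (fun θ hθ => Finset.mem_image_of_mem _ hθ)
    (fun θ => degNat θ ^ 2)]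
  push_cast
  rw [Finset.mul_sum]
  refine Finset.sum_congr rfl fun φ hφ => ?_
  obtain ⟨θ, hθ, rfl⟩ := Finset.mem_image.mp hφ
  rw [wt_indFun]
  push_cast
  congr 1
  refine Finset.sum_congr ?_ fun _ _ => rfl
  ext ψ
  simp only [Finset.mem_filter, Finset.mem_univ, true_and]
  exact ⟨fun h => ⟨hT θ hθ ψ h, h⟩, fun h => h.2⟩

/-- The kernel of the character contains `A ⊓ K`. -/
def Above (A : Subgroup L) (θ : K → ℂ) : Prop := ∀ a : K, (a : L) ∈ A → θ a = θ 1

theorem above_conjugate {A : Subgroup L} [hA : A.Normal] {θ : K → ℂ} (h : Above A θ) (x : L) :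
    Above A (Lib.Characters.conjFun K x θ) := fun a ha => by
  rw [conjFun_apply_one]
  exact h _ (hA.conj_mem _ ha x)

theorem above_of_indFun_eq {A : Subgroup L} [A.Normal] {θ θ' : IrrCharacter K}
    (h : Cfsg.indFun K (θ : K → ℂ) = Cfsg.indFun K (θ' : K → ℂ)) (hA : Above A (θ : K → ℂ)) :
    Above A (θ' : K → ℂ) := by
  obtain ⟨x, hx⟩ := exists_conjugate_of_eq h
  rw [← hx]
  exact above_conjugate hA x

theorem ne_triv_of_indFun_eq {θ θ' : IrrCharacter K}
    (h : Cfsg.indFun K (θ : K → ℂ) = Cfsg.indFun K (θ' : K → ℂ)) (hθ : θ ≠ trivIrr K) :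
    θ' ≠ trivIrr K := by
  rintro rfl
  obtain ⟨x, hx⟩ := exists_conjugate_of_eq h.symm
  exact hθ (Subtype.ext (hx.symm.trans (funext fun k => rfl)))

theorem mem_inducedIrrAbove {A : Subgroup L} {φ : L → ℂ} :
    φ ∈ Cfsg.inducedIrrAbove K A ↔
      ∃ θ : IrrCharacter K, θ ≠ trivIrr K ∧ Above A (θ : K → ℂ) ∧ φ = Cfsg.indFun K (θ : K → ℂ) := by
  constructor
  · rintro ⟨θ, hθ, hne, hA, rfl⟩
    exact ⟨⟨θ, hθ⟩, fun h => hne (congrArg Subtype.val h), hA, rfl⟩
  · rintro ⟨θ, hne, hA, rfl⟩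
    exact ⟨θ, θ.2, fun h => hne (Subtype.ext h), hA, rfl⟩

theorem indFun_mem_iff {A : Subgroup L} [A.Normal] (θ : IrrCharacter K) :
    Cfsg.indFun K (θ : K → ℂ) ∈ Cfsg.inducedIrrAbove K A ↔ θ ≠ trivIrr K ∧ Above A (θ : K → ℂ) := by
  rw [mem_inducedIrrAbove]
  constructor
  · rintro ⟨θ', hne, hA, he⟩
    exact ⟨ne_triv_of_indFun_eq he.symm hne, above_of_indFun_eq he.symm hA⟩
  · rintro ⟨hne, hA⟩
    exact ⟨θ, hne, hA, rfl⟩

theorem inducedIrrAbove_subset_bot (A : Subgroup L) :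
    Cfsg.inducedIrrAbove K A ⊆ Cfsg.inducedIrrAbove K ⊥ := by
  rintro φ ⟨θ, hθ, hne, -, rfl⟩
  refine ⟨θ, hθ, hne, fun a ha => ?_, rfl⟩
  rw [show a = 1 from Subtype.ext (Subgroup.mem_bot.mp ha)]

theorem inducedIrrAbove_mono {A B : Subgroup L} (h : A ≤ B) :
    Cfsg.inducedIrrAbove K B ⊆ Cfsg.inducedIrrAbove K A := by
  rintro φ ⟨θ, hθ, hne, hA, rfl⟩
  exact ⟨θ, hθ, hne, fun a ha => hA a (h ha), rfl⟩

open scoped Classical in
/-- The finite set behind `inducedIrrAbove`. -/
noncomputable def aboveSet (A : Subgroup L) [Fintype (IrrCharacter K)] : Finset (IrrCharacter K) :=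
  Finset.univ.filter fun θ => θ ≠ trivIrr K ∧ Above A (θ : K → ℂ)

theorem mem_aboveSet {A : Subgroup L} [Fintype (IrrCharacter K)] {θ : IrrCharacter K} :
    θ ∈ aboveSet (K := K) A ↔ θ ≠ trivIrr K ∧ Above A (θ : K → ℂ) := by
  classical
  simp [aboveSet]

open scoped Classical in
theorem coe_image_aboveSet (A : Subgroup L) [Fintype (IrrCharacter K)] :
    ((aboveSet (K := K) A).image fun θ : IrrCharacter K => Cfsg.indFun K (θ : K → ℂ) : Set (L → ℂ)) =
      Cfsg.inducedIrrAbove K A := by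
  ext φ
  simp only [Finset.coe_image, Set.mem_image, Finset.mem_coe, mem_aboveSet, mem_inducedIrrAbove]
  exact ⟨fun ⟨θ, ⟨h1, h2⟩, h⟩ => ⟨θ, h1, h2, h.symm⟩, fun ⟨θ, h1, h2, h⟩ => ⟨θ, ⟨h1, h2⟩, h.symm⟩⟩

open scoped Classical in
theorem conjFun_mem_inducedIrrAbove {A : Subgroup L} {φ : L → ℂ} (h : φ ∈ Cfsg.inducedIrrAbove K A) :
    Cfsg.conjFun φ ∈ Cfsg.inducedIrrAbove K A := by
  obtain ⟨θ, hθ, hne, hA, rfl⟩ := h
  refine ⟨fun k => conj (θ k), IsIrrCharacter.conjugate hθ, fun h => hne ?_,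
    fun a ha => congrArg conj (hA a ha), ?_⟩
  · funext k
    simpa using congrArg conj (congrFun h k)
  · funext g
    simp only [Cfsg.conjFun, indFun_apply, map_mul, map_sum, map_inv₀, map_natCast]
    congr 1
    refine Finset.sum_congr rfl fun x _ => ?_
    by_cases hx : x⁻¹ * g * x ∈ K
    · rw [extendByZero_of_mem K _ hx, extendByZero_of_mem K _ hx]
    · rw [extendByZero_of_not_mem K _ hx, extendByZero_of_not_mem K _ hx, map_zero]

open scoped Classical in
/-- The sum of the squared degrees of the characters above `A`. -/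
theorem sum_degSq_above [Fintype (IrrCharacter K)] (A : Subgroup L) [A.Normal] :
    (∑ θ ∈ aboveSet (K := K) A, degNat θ ^ 2) + 1 = A.relIndex K := by
  set A' := A.subgroupOf K with hA'
  haveI : A'.Normal := inferInstanceAs (A.subgroupOf K).Normal
  haveI := Fintype.ofFinite (IrrCharacter (K ⧸ A'))
  have h := sum_degree_sq (G := K ⧸ A')
  simp only [apply_one_eq_degNat] at h
  have h' : ∑ χ : IrrCharacter (K ⧸ A'), degNat χ ^ 2 = A.relIndex K := by
    rw [Subgroup.relIndex, Subgroup.index_eq_card]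
    exact_mod_cast h
  have htr : trivIrr K ∈ Finset.univ.filter (fun θ : IrrCharacter K => Above A (θ : K → ℂ)) :=
    Finset.mem_filter.mpr ⟨Finset.mem_univ _, fun a _ => rfl⟩
  have he : (Finset.univ.filter fun θ : IrrCharacter K => Above A (θ : K → ℂ)).erase (trivIrr K) =
      aboveSet (K := K) A := by
    ext θ; simp [mem_aboveSet]
  have htriv : degNat (trivIrr K) ^ 2 = 1 := by
    rw [degNat_eq (φ := trivIrr K) (n := 1) (by simp), one_pow]
  rw [← he, ← h']
  conv_lhs => arg 2; rw [← htriv]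
  rw [Finset.sum_erase_add _ _ htr]
  symm
  refine Finset.sum_bij (fun χ _ => ⟨_, IsIrrCharacter.comp_surjective χ.2 (QuotientGroup.mk' A')
    QuotientGroup.mk_surjective⟩) ?_ ?_ ?_ ?_
  · intro χ _
    refine Finset.mem_filter.mpr ⟨Finset.mem_univ _, fun a ha => ?_⟩
    show (χ : K ⧸ A' → ℂ) (QuotientGroup.mk' A' a) = (χ : K ⧸ A' → ℂ) (QuotientGroup.mk' A' 1)
    rw [show QuotientGroup.mk' A' a = 1 from (QuotientGroup.eq_one_iff a).mpr (Subgroup.mem_subgroupOf.mpr ha),
      map_one]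
  · intro χ _ χ' _ h
    refine Subtype.ext (funext fun q => ?_)
    obtain ⟨k, rfl⟩ := QuotientGroup.mk_surjective q
    exact congrFun (congrArg Subtype.val h) k
  · intro θ hθ
    obtain ⟨ψ, hψ, he'⟩ := IsIrrCharacter.exists_quotient θ.2 A' fun n hn =>
      (Finset.mem_filter.mp hθ).2 n (Subgroup.mem_subgroupOf.mp hn)
    exact ⟨⟨ψ, hψ⟩, Finset.mem_univ _, Subtype.ext he'.symm⟩
  · intro χ _
    refine congrArg (· ^ 2) (degNat_eq ?_).symm
    show (χ : K ⧸ A' → ℂ) (QuotientGroup.mk' A' 1) = _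
    rw [map_one, apply_one_eq_degNat]

open scoped Classical in
/-- The weights of `S(A)` add up to `[L:K] ([K:A] - 1)`. -/
theorem sum_wt_above [Fintype (IrrCharacter K)] (A : Subgroup L) [A.Normal] :
    ∑ φ ∈ (aboveSet (K := K) A).image (fun θ : IrrCharacter K => Cfsg.indFun K (θ : K → ℂ)), wt φ =
      (K.index : ℝ) * ((A.relIndex K : ℝ) - 1) := by
  rw [sum_wt_image _ fun θ hθ ψ h => mem_aboveSet.mpr ⟨ne_triv_of_indFun_eq h.symm (mem_aboveSet.mp hθ).1,
    above_of_indFun_eq h.symm (mem_aboveSet.mp hθ).2⟩, ← sum_degSq_above (K := K) A]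
  push_cast
  ring

/-- If a group is solvable there are linear characters above any proper normal subgroup. -/
theorem exists_linear_above [Fintype (IrrCharacter K)] (hsolv : Group.IsSolvable K) (A : Subgroup L)
    [A.Normal] (hA : ¬ K ≤ A) : ∃ θ ∈ aboveSet (K := K) A, degNat θ = 1 := by
  haveI := hsolv
  set A' := A.subgroupOf K with hA'
  haveI : A'.Normal := inferInstanceAs (A.subgroupOf K).Normal
  haveI : Nontrivial (K ⧸ A') := QuotientGroup.nontrivial_iff.mpr fun h => hA (Subgroup.subgroupOf_eq_top.mp h)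
  haveI : Group.IsSolvable (K ⧸ A') := Group.isSolvable_of_surjective (QuotientGroup.mk'_surjective A')
  have hlt : 1 < (commutator (K ⧸ A')).index := by
    refine lt_of_le_of_ne (Nat.one_le_iff_ne_zero.mpr Subgroup.index_ne_zero_of_finite) ?_
    exact fun h => (Group.IsSolvable.commutator_lt_top_of_nontrivial (K ⧸ A')).ne (Subgroup.index_eq_one.mp h.symm)
  rw [← card_linear_irr, Finite.one_lt_card_iff_nontrivial] at hlt
  obtain ⟨⟨χ, hχ⟩, hne⟩ := exists_ne (⟨trivIrr (K ⧸ A'), rfl⟩ : {χ : IrrCharacter (K ⧸ A') // (χ : K ⧸ A' → ℂ) 1 = 1})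
  refine ⟨⟨_, IsIrrCharacter.comp_surjective χ.2 (QuotientGroup.mk' A') QuotientGroup.mk_surjective⟩,
    mem_aboveSet.mpr ⟨fun h => hne ?_, fun a ha => ?_⟩, degNat_eq ?_⟩
  · refine Subtype.ext (Subtype.ext (funext fun q => ?_))
    obtain ⟨k, rfl⟩ := QuotientGroup.mk_surjective q
    exact congrFun (congrArg Subtype.val h) k
  · show (χ : K ⧸ A' → ℂ) (QuotientGroup.mk' A' a) = (χ : K ⧸ A' → ℂ) (QuotientGroup.mk' A' 1)
    rw [show QuotientGroup.mk' A' a = 1 from (QuotientGroup.eq_one_iff a).mpr (Subgroup.mem_subgroupOf.mpr ha),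
      map_one]
  · show (χ : K ⧸ A' → ℂ) (QuotientGroup.mk' A' 1) = _
    rw [map_one, hχ, Nat.cast_one]

/-- A summand of a character trivial at a point is trivial there. -/
theorem apply_eq_one_of_add {H : Type*} [Group H] [Finite H] {χ ψ : H → ℂ} (hχ : Cfsg.IsCharacter H χ)
    (hψ : Cfsg.IsCharacter H ψ) {b : H} (h : (χ + ψ) b = (χ + ψ) 1) : χ b = χ 1 := by
  obtain ⟨m, hm⟩ := IsCharacter.exists_apply_one hχ
  obtain ⟨k, hk⟩ := IsCharacter.exists_apply_one hψ
  have h1 := IsCharacter.norm_le hχ b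
  have h2 := IsCharacter.norm_le hψ b
  rw [Pi.add_apply, Pi.add_apply, hm, hk] at h
  rw [hm, Complex.norm_natCast] at h1
  rw [hk, Complex.norm_natCast] at h2
  have h3 := congrArg Complex.re h
  simp only [Complex.add_re, Complex.natCast_re] at h3
  have hr1 := (Complex.re_le_norm (χ b)).trans h1
  have hr2 := (Complex.re_le_norm (ψ b)).trans h2
  have he : (χ b).re = m := by linarith
  have him : (χ b).im = 0 := by
    have h4 := Complex.sq_norm (χ b)
    rw [Complex.normSq_apply, he] at h4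
    have h5 : ‖χ b‖ ^ 2 ≤ (m : ℝ) ^ 2 := pow_le_pow_left₀ (norm_nonneg _) h1 2
    nlinarith
  rw [hm]
  exact Complex.ext (by simpa using he) (by simpa using him)

/-- An irreducible character with a subgroup of scalars has small degree. -/
theorem sq_mul_card_le {H : Type*} [Group H] [Finite H] (φ : IrrCharacter H) (B D : Subgroup H)
    (hB : ∀ b ∈ B, (φ : H → ℂ) b = (φ : H → ℂ) 1) (hcent : ∀ x ∈ D, ∀ y, x * y * x⁻¹ * y⁻¹ ∈ B) :
    degNat φ ^ 2 * Nat.card D ≤ Nat.card H := by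
  classical
  haveI := Fintype.ofFinite H
  have hself := IsIrrCharacter.classInner_self φ.2
  have hd := apply_one_eq_degNat φ
  obtain ⟨χ, n, ρ, hρ, rfl⟩ := φ
  simp only at hB hself hd
  haveI := hρ
  set d := degNat (⟨ρ.character, n, ρ, hρ, rfl⟩ : IrrCharacter H) with hddef
  have hnorm : ∀ x ∈ D, ‖ρ.character x‖ = (d : ℝ) := by
    intro x hx
    have hcomm : ∀ y, ρ x * ρ y = ρ y * ρ x := fun y => by
      have h1 := hB _ (hcent x hx y)
      rw [ρ.char_one, char_eq_finrank_iff] at h1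
      rw [← map_mul, ← map_mul, show x * y = x * y * x⁻¹ * y⁻¹ * (y * x) by group, map_mul, h1]
      rfl
    obtain ⟨c, hc⟩ := exists_smul_of_commute ρ (ρ x) hcomm
    rw [(norm_char_eq_iff ρ x).mpr ⟨c, hc⟩]
    rw [ρ.char_one] at hd
    exact_mod_cast hd
  have hsum : ∑ x : H, ‖ρ.character x‖ ^ 2 = (Nat.card H : ℝ) := by
    rw [Cfsg.classInner] at hself
    have h2 : ((∑ x : H, ‖ρ.character x‖ ^ 2 : ℝ) : ℂ) = (Nat.card H : ℂ) := by
      push_cast
      rw [← mul_one (Nat.card H : ℂ), ← hself, ← mul_assoc, mul_inv_cancel₀ natCard_ne_zero_complex, one_mul]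
      exact Finset.sum_congr rfl fun x _ => (Complex.mul_conj' _).symm
    exact_mod_cast h2
  have hle : ∑ x ∈ Finset.univ.filter (· ∈ D), ‖ρ.character x‖ ^ 2 ≤ (Nat.card H : ℝ) := by
    rw [← hsum]
    exact Finset.sum_le_sum_of_subset_of_nonneg (Finset.subset_univ _) fun _ _ _ => sq_nonneg _
  rw [Finset.sum_congr rfl (g := fun _ => (d : ℝ) ^ 2) fun x hx => by rw [hnorm x (Finset.mem_filter.mp hx).2],
    Finset.sum_const, nsmul_eq_mul, ← Fintype.card_subtype, ← Nat.card_eq_fintype_card, mul_comm] at hle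
  exact_mod_cast hle

open scoped Classical in
/-- The degree bound through a normal section centralised modulo the kernel. -/
theorem degSq_le (θ : IrrCharacter K) (B C D : Subgroup L) [C.Normal] (hBD : B ≤ D) (hDC : D ≤ C)
    (hCK : C ≤ K) (hθ : Above B (θ : K → ℂ)) (hcent : ∀ x ∈ D, ∀ y ∈ C, x * y * x⁻¹ * y⁻¹ ∈ B) :
    degNat θ ^ 2 ≤ C.relIndex K ^ 2 * D.relIndex C := by
  set C' := C.subgroupOf K with hC'
  haveI : C'.Normal := inferInstanceAs (C.subgroupOf K).Normal
  haveI := Fintype.ofFinite C'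
  haveI := Fintype.ofFinite K
  have hres := IsCharacter.restrict (irr_isCharacter θ) C'
  obtain ⟨φ, hφ⟩ := IsCharacter.exists_constituent hres fun h =>
    IsIrrCharacter.apply_one_ne_zero θ.2 (by simpa using congrFun h 1)
  obtain ⟨ψ, hψ, hdec⟩ := IsCharacter.exists_add_of_classInner_ne_zero hres φ.2 hφ
  let toC : C' → L := fun x => ((x : K) : L)
  have hker : ∀ b : C', toC b ∈ B → (φ : C' → ℂ) b = (φ : C' → ℂ) 1 := by
    intro b hb
    refine apply_eq_one_of_add (irr_isCharacter φ) hψ ?_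
    rw [← hdec]
    simpa using hθ _ hb
  -- the degree of `θ` is at most that of the induced character
  have hne : classInner (Cfsg.indFun C' (φ : C' → ℂ)) (θ : K → ℂ) ≠ 0 := by
    rw [classInner_indFun C' _ (irr_isClassFunction θ), ← classInner_conj_symm]
    simpa using hφ
  obtain ⟨ξ, hξ, hdec'⟩ := IsCharacter.exists_add_of_classInner_ne_zero
    (IsCharacter.indFun C' (irr_isCharacter φ)) θ.2 hne
  have hdeg : degNat θ ≤ C'.index * degNat φ := by
    obtain ⟨k, hk⟩ := IsCharacter.exists_apply_one hξ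
    have h1 := congrFun hdec' 1
    rw [indFun_one, Pi.add_apply, apply_one_eq_degNat, apply_one_eq_degNat, hk] at h1
    have : C'.index * degNat φ = degNat θ + k := by exact_mod_cast h1
    omega
  -- the degree of `φ`
  set D' := (D.subgroupOf K).subgroupOf C' with hD'
  have hsq := sq_mul_card_le φ ((B.subgroupOf K).subgroupOf C') D' (fun b hb => hker b (by
      simpa [Subgroup.mem_subgroupOf] using hb)) fun x hx y => by
    simp only [hD', Subgroup.mem_subgroupOf] at hx ⊢
    have := hcent _ hx _ (Subgroup.mem_subgroupOf.mp y.2)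
    simpa using this
  have hD'card : Nat.card D' = Nat.card D := by
    rw [hD', Nat.card_congr (Subgroup.subgroupOfEquivOfLe (fun x hx => Subgroup.mem_subgroupOf.mpr
      (hDC (Subgroup.mem_subgroupOf.mp hx)))).toEquiv, Nat.card_congr (Subgroup.subgroupOfEquivOfLe (hDC.trans hCK)).toEquiv]
  have hC'card : Nat.card C' = Nat.card C := Nat.card_congr (Subgroup.subgroupOfEquivOfLe hCK).toEquiv
  have hφ2 : degNat φ ^ 2 ≤ D.relIndex C := by
    rw [hD'card, hC'card] at hsq
    refine Nat.le_of_mul_le_mul_right ?_ (Nat.card_pos (α := D))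
    refine hsq.trans (le_of_eq ?_)
    rw [Subgroup.relIndex, mul_comm, ← Nat.card_congr (Subgroup.subgroupOfEquivOfLe hDC).toEquiv,
      Subgroup.card_mul_index]
  calc degNat θ ^ 2 ≤ (C'.index * degNat φ) ^ 2 := Nat.pow_le_pow_left hdeg 2
    _ = C'.index ^ 2 * degNat φ ^ 2 := mul_pow _ _ _
    _ ≤ C.relIndex K ^ 2 * D.relIndex C := Nat.mul_le_mul le_rfl hφ2

end Cfsg.Agent.Lib.OddChar
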