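import Cfsg.Agent.Lib.OddChar.AbelianQuot
import Cfsg.Agent.Lib.Characters.InducedMore

/-!
Inducing the decomposition from the inertia group to the whole group.
-/

namespace Cfsg.Agent.Lib.OddChar

open Cfsg.Agent.Lib.Characters

set_option linter.unusedSectionVars false
set_option linter.style.haveILetI false

universe u

variable {G : Type u} [Group G] [Fintype G] (H : Subgroup G) [hN : H.Normal]

/-- A decomposition over the inertia group induces to one over the whole group. -/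
theorem induce_decomp {θ : H → ℂ} (hθ : Cfsg.IsIrrCharacter H θ) (T : Subgroup G) [Fintype T]
    (hT : inertia H θ = T) (hHT : H ≤ T) (θ' : H.subgroupOf T → ℂ)
    (hθ' : θ' = fun x : H.subgroupOf T => θ ⟨(x : T), Subgroup.mem_subgroupOf.mp x.2⟩)
    {e : ℕ} (he : 0 < e) {C : Finset (T → ℂ)} (hirr : ∀ φ ∈ C, Cfsg.IsIrrCharacter T φ)
    (hcard : e ^ 2 * C.card = (H.subgroupOf T).index)
    (hdec : Cfsg.indFun (H.subgroupOf T) θ' = (e : ℂ) • ∑ φ ∈ C, φ)
    (hdeg : ∀ φ ∈ C, φ 1 = (e : ℂ) * θ 1) :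
    ∃ D : Finset (G → ℂ), (∀ χ ∈ D, Cfsg.IsIrrCharacter G χ) ∧ D.card = C.card ∧
      Cfsg.indFun H θ = (e : ℂ) • ∑ χ ∈ D, χ ∧ ∀ χ ∈ D, χ 1 = (T.index : ℂ) * e * θ 1 := by
  classical
  haveI := Fintype.ofFinite H
  have hI : Cfsg.indFun H θ = (e : ℂ) • ∑ φ ∈ C, Cfsg.indFun T φ := by
    rw [← indFun_trans H T hHT θ, ← hθ', hdec, indFun_smul, indFun_sum]
  have hchar : ∀ φ ∈ C, Cfsg.IsCharacter G (Cfsg.indFun T φ) := fun φ hφ =>
    IsCharacter.indFun T (IsIrrCharacter.isCharacter (hirr φ hφ))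
  choose k hk using fun (p : {φ // φ ∈ C} × {φ // φ ∈ C}) =>
    IsCharacter.exists_classInner_nat (hchar p.1 p.1.2) (hchar p.2 p.2.2)
  have hdiag : ∀ φ : {φ // φ ∈ C}, 1 ≤ k (φ, φ) := by
    intro φ
    refine Nat.one_le_iff_ne_zero.mpr fun h0 => ?_
    have h1 : Cfsg.classInner (Cfsg.indFun T (φ : T → ℂ)) (Cfsg.indFun T (φ : T → ℂ)) = 0 := by
      rw [hk (φ, φ), h0, Nat.cast_zero]
    have h2 := congrFun (classInner_self_eq_zero h1) 1
    rw [indFun_one, Pi.zero_apply, mul_eq_zero, Nat.cast_eq_zero] at h2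
    exact h2.elim Subgroup.index_ne_zero_of_finite (IsIrrCharacter.apply_one_ne_zero (hirr φ φ.2))
  have hnorm : (Nat.card H : ℂ) * Cfsg.classInner (Cfsg.indFun H θ) (Cfsg.indFun H θ) = (Nat.card T : ℂ) := by
    rw [classInner_indFun_self H hθ, hT]
  have htot : ∑ p : {φ // φ ∈ C} × {φ // φ ∈ C}, k p = C.card := by
    have h1 : Cfsg.classInner (Cfsg.indFun H θ) (Cfsg.indFun H θ) =
        ((e ^ 2 * ∑ p : {φ // φ ∈ C} × {φ // φ ∈ C}, k p : ℕ) : ℂ) := by
      rw [hI, classInner_smul_left, classInner_smul_right, map_natCast, ← Finset.sum_coe_sort C,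
        classInner_sum_left, Fintype.sum_prod_type]
      push_cast
      rw [sq, mul_assoc]
      congr 2
      refine Finset.sum_congr rfl fun φ _ => ?_
      rw [classInner_sum_right]
      exact Finset.sum_congr rfl fun ψ _ => hk (φ, ψ)
    rw [h1] at hnorm
    have h2 : Nat.card H * (e ^ 2 * ∑ p : {φ // φ ∈ C} × {φ // φ ∈ C}, k p) = Nat.card T := by
      exact_mod_cast hnorm
    have h3 : Nat.card H * (H.subgroupOf T).index = Nat.card T := by
      rw [← Nat.card_congr (Subgroup.subgroupOfEquivOfLe hHT).toEquiv, Subgroup.card_mul_index]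
    rw [← h3, ← hcard] at h2
    exact Nat.eq_of_mul_eq_mul_left (by positivity) (Nat.eq_of_mul_eq_mul_left Nat.card_pos h2)
  have hk1 : ∀ p : {φ // φ ∈ C} × {φ // φ ∈ C}, k p = if p.1 = p.2 then 1 else 0 := by
    have hle : ∀ p ∈ (Finset.univ : Finset ({φ // φ ∈ C} × {φ // φ ∈ C})),
        (if p.1 = p.2 then 1 else 0) ≤ k p := by
      intro p _
      split_ifs with h
      · rw [show p = (p.1, p.1) from Prod.ext rfl h.symm]; exact hdiag p.1
      · exact Nat.zero_le _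
    have heq : ∑ p : {φ // φ ∈ C} × {φ // φ ∈ C}, (if p.1 = p.2 then 1 else 0) = ∑ p, k p := by
      rw [htot, Fintype.sum_prod_type]
      simp
    exact fun p => ((Finset.sum_eq_sum_iff_of_le hle).mp heq p (Finset.mem_univ p)).symm
  have hinner : ∀ φ (hφ : φ ∈ C), ∀ ψ (hψ : ψ ∈ C),
      Cfsg.classInner (Cfsg.indFun T φ) (Cfsg.indFun T ψ) = if φ = ψ then 1 else 0 := by
    intro φ hφ ψ hψ
    rw [hk (⟨φ, hφ⟩, ⟨ψ, hψ⟩), hk1]
    by_cases h : φ = ψ <;> simp [h]
  have hinj : Set.InjOn (Cfsg.indFun T) (↑C : Set (T → ℂ)) := by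
    intro φ hφ ψ hψ h
    by_contra hne
    have := hinner φ hφ ψ hψ
    rw [h, hinner ψ hψ ψ hψ, if_neg hne, if_pos rfl] at this
    exact one_ne_zero this
  refine ⟨C.image (Cfsg.indFun T), fun χ hχ => ?_, Finset.card_image_of_injOn hinj, ?_, fun χ hχ => ?_⟩
  · obtain ⟨φ, hφ, rfl⟩ := Finset.mem_image.mp hχ
    exact (IsCharacter.isIrr_iff (hchar φ hφ)).mpr (by rw [hinner φ hφ φ hφ, if_pos rfl])
  · rw [hI, Finset.sum_image hinj]
  · obtain ⟨φ, hφ, rfl⟩ := Finset.mem_image.mp hχ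
    rw [indFun_one, hdeg φ hφ, mul_assoc]

end Cfsg.Agent.Lib.OddChar
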