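import Mathlib.LinearAlgebra.Matrix.Rank
import Mathlib.RingTheory.LocalRing.Module
import Mathlib.RingTheory.Idempotents
import Mathlib.Algebra.Module.Projective
import Mathlib.RingTheory.Flat.Basic
import Mathlib.Data.ZMod.Basic
import Mathlib.LinearAlgebra.Matrix.ToLin
import Mathlib.LinearAlgebra.Matrix.Trace
import Mathlib.Algebra.Ring.Subring.Basic
import Mathlib.GroupTheory.Index
import Mathlib.Tactic

/-!
Ranks of fixed-point projections of a `p'`-group in characteristic `p`, by lifting the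
regular projection to `ℤ / p ^ k`.
-/

namespace Cfsg.Agent.Lib.OddChar

open Matrix

/-- The trace of an idempotent over a local ring is the rank of any reduction to a field. -/
theorem trace_idem_eq_rank {R F ι : Type*} [CommRing R] [IsLocalRing R] [Field F] [Fintype ι]
    [DecidableEq ι] (φ : R →+* F) {Q : Matrix ι ι R} (hQ : Q * Q = Q) :
    Q.trace = ((Q.map φ).rank : R) := by
  classical
  set f := Matrix.mulVecLin Q with hf
  let s : LinearMap.range f →ₗ[R] (ι → R) := (LinearMap.range f).subtype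
  have hfix : ∀ x : LinearMap.range f, f.rangeRestrict (s x) = x := by
    rintro ⟨_, y, rfl⟩
    refine Subtype.ext ?_
    simp [s, hf, Matrix.mulVec_mulVec, hQ]
  haveI : Module.Projective R (LinearMap.range f) :=
    Module.Projective.of_split s f.rangeRestrict (LinearMap.ext hfix)
  haveI : Module.Finite R (LinearMap.range f) :=
    Module.Finite.of_surjective f.rangeRestrict f.surjective_rangeRestrict
  haveI : Module.Free R (LinearMap.range f) := Module.free_of_flat_of_isLocalRing
  let b := Module.finBasis R (LinearMap.range f)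
  set r := Module.finrank R (LinearMap.range f)
  let A : Matrix ι (Fin r) R := LinearMap.toMatrix' (s ∘ₗ b.equivFun.symm.toLinearMap)
  let B : Matrix (Fin r) ι R := LinearMap.toMatrix' (b.equivFun.toLinearMap ∘ₗ f.rangeRestrict)
  have hBA : B * A = 1 := by
    rw [← LinearMap.toMatrix'_comp, ← LinearMap.toMatrix'_id]
    congr 1
    refine LinearMap.ext fun x => ?_
    simp only [LinearMap.comp_apply, LinearEquiv.coe_coe, hfix, LinearEquiv.apply_symm_apply,
      LinearMap.id_apply]
  have hAB : A * B = Q := by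
    have hQe : Q = LinearMap.toMatrix' f := by
      rw [hf, ← Matrix.toLin'_apply', LinearMap.toMatrix'_toLin']
    rw [← LinearMap.toMatrix'_comp, hQe]
    congr 1
    refine LinearMap.ext fun x => ?_
    simp [s]
  have htr : Q.trace = (r : R) := by
    rw [← hAB, Matrix.trace_mul_comm, hBA, Matrix.trace_one, Fintype.card_fin]
  have hrk : (Q.map φ).rank = r := by
    have hBA' : B.map φ * A.map φ = 1 := by
      rw [← Matrix.map_mul, hBA, Matrix.map_one φ (map_zero φ) (map_one φ)]
    have hAB' : A.map φ * B.map φ = Q.map φ := by rw [← Matrix.map_mul, hAB]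
    refine le_antisymm ?_ ?_
    · rw [← hAB']
      exact (Matrix.rank_mul_le_left _ _).trans ((Matrix.rank_le_card_width _).trans (Fintype.card_fin r).le)
    · have e : A.map φ = Q.map φ * A.map φ := by rw [← hAB', Matrix.mul_assoc, hBA', Matrix.mul_one]
      calc r = (1 : Matrix (Fin r) (Fin r) F).rank := by rw [Matrix.rank_one, Fintype.card_fin]
        _ ≤ (A.map φ).rank := hBA' ▸ Matrix.rank_mul_le_right _ _
        _ ≤ (Q.map φ).rank := by rw [e]; exact Matrix.rank_mul_le_left _ _
  rw [htr, hrk]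

theorem isUnit_of_castHom_ne_zero {p k : ℕ} [Fact p.Prime] (hk : k ≠ 0) {a : ZMod (p ^ k)}
    (h : ZMod.castHom (dvd_pow_self p hk) (ZMod p) a ≠ 0) : IsUnit a := by
  haveI : NeZero (p ^ k) := ⟨pow_ne_zero k (Fact.out : p.Prime).ne_zero⟩
  obtain ⟨n, rfl⟩ : ∃ n : ℕ, (n : ZMod (p ^ k)) = a := ⟨a.val, ZMod.natCast_zmod_val a⟩
  rw [map_natCast, Ne, ZMod.natCast_eq_zero_iff] at h
  exact (ZMod.isUnit_iff_coprime n (p ^ k)).mpr
    ((((Fact.out : p.Prime).coprime_iff_not_dvd).mpr h).symm.pow_right k)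

/-- The rank identity from an identity of fixed-point projections. -/
theorem rank_identity {p : ℕ} [Fact p.Prime] {X : Type*} [Group X] [Fintype X]
    (hp : ¬ p ∣ Fintype.card X) {d : ℕ} (m : X →* Matrix (Fin d) (Fin d) (ZMod p))
    (U E : Subgroup X) [Fintype U] [Fintype E] (hcard : Fintype.card X = Fintype.card U * Fintype.card E)
    (hid : ∀ {M : Type} [AddCommGroup M] (f : X → M),
      ∑ g, f g + Fintype.card U • f 1 = ∑ u : U, f u + ∑ u : U, ∑ e : E, f ((u : X) * e * (u : X)⁻¹)) :
    Fintype.card E * (∑ g, m g).rank + d =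
      (∑ u : U, m u).rank + Fintype.card E * (∑ e : E, m e).rank := by
  classical
  -- work in a type in universe zero
  obtain ⟨c, ⟨toFin⟩⟩ : ∃ c, Nonempty (X ≃ Fin c) := ⟨_, ⟨Fintype.equivFin X⟩⟩
  set k := Fintype.card E * d + d + 1 with hk
  have hk0 : k ≠ 0 := by simp [hk]
  have hpk : k < p ^ k := Nat.lt_pow_self (Fact.out : p.Prime).one_lt
  haveI : NeZero (p ^ k) := ⟨pow_ne_zero k (Fact.out : p.Prime).ne_zero⟩
  haveI : Fact (1 < p ^ k) := ⟨lt_of_le_of_lt (Nat.one_le_iff_ne_zero.mpr hk0) hpk⟩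
  haveI : Nontrivial (ZMod (p ^ k)) := ZMod.nontrivial _
  set φ := ZMod.castHom (dvd_pow_self p hk0) (ZMod p) with hφ
  haveI : IsLocalRing (ZMod (p ^ k)) := IsLocalRing.of_isUnit_or_isUnit_one_sub_self fun a => by
    by_cases h : φ a = 0
    · exact Or.inr (isUnit_of_castHom_ne_zero hk0 (by rw [← hφ, map_sub, map_one, h, sub_zero]; exact one_ne_zero))
    · exact Or.inl (isUnit_of_castHom_ne_zero hk0 h)
  have hcX : ∀ n : ℕ, n ∣ Fintype.card X → (n : ZMod p) ≠ 0 := fun n hn h => by
    rw [ZMod.natCast_eq_zero_iff] at h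
    exact hp (h.trans hn)
  have hX0 : (Fintype.card X : ZMod p) ≠ 0 := hcX _ dvd_rfl
  let idx : Fin c × Fin d → X := fun i => toFin.symm i.1
  let act : X → Fin c × Fin d → Fin c × Fin d := fun x i => (toFin (x * idx i), i.2)
  have hact : ∀ x y i, act x (act y i) = act (x * y) i := fun x y i => by simp [act, idx, mul_assoc]
  have hact1 : ∀ i, act 1 i = i := fun i => by simp [act, idx]
  -- permutation matrices
  let σ : X → Matrix (Fin c × Fin d) (Fin c × Fin d) (ZMod (p ^ k)) := fun x =>
    Matrix.of fun i j => if i = act x j then 1 else 0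
  have hσl : ∀ x (M : Matrix (Fin c × Fin d) (Fin c × Fin d) (ZMod (p ^ k))) i j,
      (σ x * M) i j = M (act x⁻¹ i) j := fun x M i j => by
    rw [Matrix.mul_apply, Finset.sum_eq_single (act x⁻¹ i)]
    · simp [σ, hact, hact1]
    · intro l _ hl
      simp only [σ, Matrix.of_apply]
      rw [if_neg, zero_mul]
      rintro rfl
      exact hl (by simp [hact, hact1])
    · exact fun h => absurd (Finset.mem_univ _) h
  have hσr : ∀ x (M : Matrix (Fin c × Fin d) (Fin c × Fin d) (ZMod (p ^ k))) i j,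
      (M * σ x) i j = M i (act x j) := fun x M i j => by
    rw [Matrix.mul_apply, Finset.sum_eq_single (act x j)]
    · simp [σ]
    · intro l _ hl
      simp only [σ, Matrix.of_apply]
      rw [if_neg hl, mul_zero]
    · exact fun h => absurd (Finset.mem_univ _) h
  have hσ1 : σ 1 = 1 := by
    ext i j
    simp [σ, hact1, Matrix.one_apply]
  have hσmul : ∀ x y, σ x * σ y = σ (x * y) := fun x y => by
    ext i j
    rw [hσr]
    simp [σ, hact]
  -- the projection onto the module inside the free one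
  let S : Matrix (Fin c × Fin d) (Fin d) (ZMod p) := Matrix.of fun i b => m (idx i)⁻¹ i.2 b
  let P : Matrix (Fin d) (Fin c × Fin d) (ZMod p) :=
    Matrix.of fun b i => (Fintype.card X : ZMod p)⁻¹ * m (idx i) b i.2
  have hPS : P * S = 1 := by
    ext b b'
    rw [Matrix.mul_apply, Fintype.sum_prod_type]
    have h1 : ∀ i : Fin c, ∑ a : Fin d, P b (i, a) * S (i, a) b' =
        (Fintype.card X : ZMod p)⁻¹ * (1 : Matrix (Fin d) (Fin d) (ZMod p)) b b' := fun i => by
      rw [← map_one m, ← mul_inv_cancel (toFin.symm i), map_mul, Matrix.mul_apply, Finset.mul_sum]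
      exact Finset.sum_congr rfl fun a _ => by simp [P, S, idx, mul_assoc]
    rw [Finset.sum_congr rfl fun i _ => h1 i, Finset.sum_const, Finset.card_univ, Fintype.card_fin,
      nsmul_eq_mul, ← mul_assoc, ← show Fintype.card X = c by rw [Fintype.card_congr toFin, Fintype.card_fin],
      mul_inv_cancel₀ hX0, one_mul]
  have hσS : ∀ x, (σ x).map φ * S = S * m x := fun x => by
    ext i b
    rw [Matrix.mul_apply, Finset.sum_eq_single (act x⁻¹ i)]
    · rw [show (σ x).map φ i (act x⁻¹ i) = 1 by simp [σ, hact, hact1], one_mul, Matrix.mul_apply]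
      have e : (idx (act x⁻¹ i))⁻¹ = (idx i)⁻¹ * x := by simp [act, idx]
      show m (idx (act x⁻¹ i))⁻¹ (act x⁻¹ i).2 b = _
      rw [e, map_mul, Matrix.mul_apply]
      rfl
    · intro l _ hl
      rw [show (σ x).map φ i l = 0 by
        simp only [σ, Matrix.map_apply, Matrix.of_apply]
        rw [if_neg, map_zero]
        rintro rfl
        exact hl (by simp [hact, hact1]), zero_mul]
    · exact fun h => absurd (Finset.mem_univ _) h
  let C := Subring.centralizer (Set.range σ)
  let red : C →+* Matrix (Fin c × Fin d) (Fin c × Fin d) (ZMod p) := (φ.mapMatrix).comp C.subtype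
  obtain ⟨sec, hsec⟩ : ∃ sec : ZMod p → ZMod (p ^ k), ∀ z, φ (sec z) = z :=
    ⟨_, Function.surjInv_eq (f := φ) (ZMod.ringHom_surjective φ)⟩
  let A : Matrix (Fin c × Fin d) (Fin c × Fin d) (ZMod (p ^ k)) := Matrix.of fun i j => sec ((S * P) i j)
  have hinv : ∀ x i j, (S * P) (act x i) (act x j) = (S * P) i j := fun x i j => by
    have key : ∀ i j, (S * P) i j = (Fintype.card X : ZMod p)⁻¹ * m ((idx i)⁻¹ * idx j) i.2 j.2 := fun i j => by
      rw [map_mul, Matrix.mul_apply, Matrix.mul_apply, Finset.mul_sum]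
      exact Finset.sum_congr rfl fun a _ => by simp [P, S, mul_left_comm]
    rw [key, key]
    simp [act, idx, mul_assoc]
  have hAC : A ∈ C := by
    rw [Subring.mem_centralizer_iff]
    rintro _ ⟨x, rfl⟩
    ext i j
    rw [hσl, hσr]
    show sec _ = sec _
    congr 1
    rw [← hinv x (act x⁻¹ i) j, hact, mul_inv_cancel, hact1]
  have hker : ∀ z ∈ RingHom.ker red, IsNilpotent z := by
    intro z hz
    refine ⟨k, Subtype.ext ?_⟩
    have hz' : ∀ i j, φ ((z : Matrix (Fin c × Fin d) (Fin c × Fin d) (ZMod (p ^ k))) i j) = 0 :=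
      fun i j => (congrFun (congrFun (RingHom.mem_ker.mp hz :) i) j :)
    have hdiv : ∀ i j, ∃ y, (z : Matrix (Fin c × Fin d) (Fin c × Fin d) (ZMod (p ^ k))) i j = (p : ZMod (p ^ k)) * y := by
      intro i j
      obtain ⟨n, hn⟩ : ∃ n : ℕ, (n : ZMod (p ^ k)) = (z : Matrix (Fin c × Fin d) (Fin c × Fin d) (ZMod (p ^ k))) i j :=
        ⟨_, ZMod.natCast_zmod_val _⟩
      have h0 := hz' i j
      rw [← hn, map_natCast, ZMod.natCast_eq_zero_iff] at h0
      obtain ⟨q, rfl⟩ := h0
      exact ⟨q, by rw [← hn, Nat.cast_mul]⟩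
    choose y hy using hdiv
    have hz2 : (z : Matrix (Fin c × Fin d) (Fin c × Fin d) (ZMod (p ^ k))) = (p : ZMod (p ^ k)) • Matrix.of y := by
      ext i j; simp [hy]
    rw [SubmonoidClass.coe_pow, hz2, smul_pow, ← Nat.cast_pow, ZMod.natCast_self, zero_smul]
    rfl
  have hmemr : S * P ∈ red.range := ⟨⟨A, hAC⟩, by ext i j; exact hsec _⟩
  have hidem : IsIdempotentElem (S * P) := by
    show S * P * (S * P) = S * P
    rw [Matrix.mul_assoc, ← Matrix.mul_assoc P S, hPS, Matrix.one_mul]
  obtain ⟨Z, hZ2, hZred⟩ := exists_isIdempotentElem_eq_of_ker_isNilpotent red hker _ hmemr hidem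
  set Pz : Matrix (Fin c × Fin d) (Fin c × Fin d) (ZMod (p ^ k)) := Z.1 with hPz
  have hPz2 : Pz * Pz = Pz := congrArg Subtype.val hZ2
  have hPzc : ∀ x, σ x * Pz = Pz * σ x := fun x => Subring.mem_centralizer_iff.mp Z.2 _ ⟨x, rfl⟩
  have hPzred : Pz.map φ = S * P := hZred
  let φM := φ.mapMatrix (m := Fin c × Fin d)
  have htrace : ∀ T : Subgroup X, ∀ [Fintype T], (Pz * ∑ t : T, σ t).trace =
      (Fintype.card T : ZMod (p ^ k)) * ((∑ t : T, m t).rank : ZMod (p ^ k)) := by
    intro T _
    have hT : (Fintype.card T : ZMod p) ≠ 0 := by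
      refine hcX _ ?_
      rw [← Nat.card_eq_fintype_card, ← Nat.card_eq_fintype_card]
      exact T.card_subgroup_dvd_card
    have hu : IsUnit (Fintype.card T : ZMod (p ^ k)) :=
      isUnit_of_castHom_ne_zero hk0 (by rw [map_natCast]; exact hT)
    obtain ⟨u, hu'⟩ := hu
    set N := ∑ t : T, σ t with hN
    have hNN : N * N = (Fintype.card T : ZMod (p ^ k)) • N := by
      conv_lhs => rw [hN, Finset.sum_mul]
      rw [Finset.sum_congr rfl (g := fun _ => N) fun t _ => ?_, Finset.sum_const, Finset.card_univ,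
        Nat.cast_smul_eq_nsmul]
      rw [Finset.mul_sum]
      exact Fintype.sum_equiv (Equiv.mulLeft t) _ _ fun s => by rw [hσmul]; rfl
    have hNc : N * Pz = Pz * N := by
      rw [hN, Finset.sum_mul, Finset.mul_sum]
      exact Finset.sum_congr rfl fun t _ => hPzc t
    set Q := (↑u⁻¹ : ZMod (p ^ k)) • (Pz * N) with hQ
    have hQ2 : Q * Q = Q := by
      rw [hQ, smul_mul_smul_comm, mul_assoc, ← mul_assoc N, hNc, mul_assoc Pz N, hNN, mul_smul_comm,
        mul_smul_comm, ← mul_assoc Pz Pz, hPz2, smul_smul, ← hu']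
      congr 1
      rw [mul_assoc, Units.inv_mul, mul_one]
    have hrank : (Q.map φ).rank = (∑ t : T, m t).rank := by
      have e : Q.map φ = S * ((φ ↑u⁻¹ : ZMod p) • ∑ t : T, m t) * P := by
        have h1 : Q.map φ = φ (↑u⁻¹ : ZMod (p ^ k)) • (φM (Pz * N)) := by
          ext i j; simp only [hQ, φM, RingHom.mapMatrix_apply, Matrix.map_apply, Matrix.smul_apply, smul_eq_mul, map_mul]
          rw [← Matrix.map_mul, Matrix.map_apply]
        rw [h1, ← hNc, map_mul, show φM Pz = S * P from hPzred, hN, map_sum, Matrix.mul_smul, Matrix.smul_mul,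
          ← Matrix.mul_assoc, Matrix.sum_mul, Matrix.mul_sum]
        congr 2
        exact Finset.sum_congr rfl fun t _ => hσS t
      have hne : φ (↑u⁻¹ : ZMod (p ^ k)) ≠ 0 := by
        intro h0
        have := congrArg φ (Units.inv_mul u)
        rw [map_mul, h0, zero_mul, map_one] at this
        exact zero_ne_one this
      set M₀ := ∑ t : T, m t
      have hback : P * Q.map φ * S = (φ ↑u⁻¹ : ZMod p) • M₀ := by
        rw [e, Matrix.mul_assoc S, ← Matrix.mul_assoc P S, hPS, Matrix.one_mul, Matrix.mul_assoc, hPS,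
          Matrix.mul_one]
      have hrk : ((φ ↑u⁻¹ : ZMod p) • M₀).rank = M₀.rank := by
        refine le_antisymm ?_ ?_
        · rw [← Matrix.one_mul M₀, ← Matrix.smul_mul, Matrix.one_mul]
          exact Matrix.rank_mul_le_right _ _
        · conv_lhs => rw [show M₀ = ((φ ↑u⁻¹ : ZMod p)⁻¹ • (1 : Matrix (Fin d) (Fin d) (ZMod p))) *
            ((φ ↑u⁻¹ : ZMod p) • M₀) by rw [Matrix.smul_mul, Matrix.one_mul, smul_smul, inv_mul_cancel₀ hne, one_smul]]
          exact Matrix.rank_mul_le_right _ _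
      rw [← hrk]
      refine le_antisymm ?_ ?_
      · rw [e, Matrix.mul_assoc]
        exact (Matrix.rank_mul_le_right _ _).trans (Matrix.rank_mul_le_left _ _)
      · rw [← hback]
        exact (Matrix.rank_mul_le_left _ _).trans (Matrix.rank_mul_le_right _ _)
    have h := trace_idem_eq_rank φ hQ2
    rw [hrank, hQ, Matrix.trace_smul, smul_eq_mul] at h
    rw [← hu', ← h, ← mul_assoc, Units.mul_inv, one_mul]
  -- traces of the identity
  have h := hid (fun g => Pz * σ g)
  have h' := congrArg Matrix.trace h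
  have hconj : ∀ (u : U) (e : E), (Pz * σ ((u : X) * e * (u : X)⁻¹)).trace = (Pz * σ e).trace := fun u e => by
    rw [← hσmul, ← hσmul, ← Matrix.mul_assoc, Matrix.trace_mul_comm, ← Matrix.mul_assoc, ← Matrix.mul_assoc,
      hPzc, Matrix.mul_assoc Pz (σ (u : X)⁻¹), hσmul, inv_mul_cancel, hσ1, Matrix.mul_one]
  simp only [Matrix.trace_add, Matrix.trace_smul, Matrix.trace_sum, hconj, Finset.sum_const, Finset.card_univ] at h'
  rw [← Matrix.trace_sum Finset.univ (fun e : E => Pz * σ (e : X)), ← Matrix.trace_sum Finset.univ (fun e : U => Pz * σ (e : X)),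
    ← Matrix.trace_sum Finset.univ (fun g : X => Pz * σ g), hσ1, ← Matrix.mul_sum, ← Matrix.mul_sum,
    ← Matrix.mul_sum, htrace U, htrace E] at h'
  have htop := htrace (⊤ : Subgroup X)
  rw [Fintype.sum_equiv (Subgroup.topEquiv.toEquiv) (fun t : (⊤ : Subgroup X) => σ (t : X)) σ (fun t => rfl),
    Fintype.sum_equiv (Subgroup.topEquiv.toEquiv) (fun t : (⊤ : Subgroup X) => m (t : X)) m (fun t => rfl),
    Fintype.card_congr Subgroup.topEquiv.toEquiv] at htop
  have hbot := htrace (⊥ : Subgroup X)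
  rw [show (∑ t : (⊥ : Subgroup X), σ (t : X)) = σ 1 by
        rw [Finset.univ_unique, Finset.sum_singleton]; rfl, hσ1,
    show (∑ t : (⊥ : Subgroup X), m (t : X)) = m 1 by
        rw [Finset.univ_unique, Finset.sum_singleton]; rfl, map_one,
    Matrix.rank_one, Fintype.card_fin, Fintype.card_unique, Nat.cast_one, one_mul] at hbot
  rw [htop, hbot, hcard, Nat.cast_mul, nsmul_eq_mul, nsmul_eq_mul] at h'
  set a := (∑ g, m g).rank
  set cU := (∑ u : U, m u).rank
  set cE := (∑ e : E, m e).rank
  have hU : IsUnit (Fintype.card U : ZMod (p ^ k)) :=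
    isUnit_of_castHom_ne_zero hk0 (by rw [map_natCast]; exact hcX _ (hcard ▸ dvd_mul_right _ _))
  have h'' : ((Fintype.card E * a + d : ℕ) : ZMod (p ^ k)) = ((cU + Fintype.card E * cE : ℕ) : ZMod (p ^ k)) := by
    push_cast
    refine hU.mul_left_cancel ?_
    linear_combination h'
  rw [ZMod.natCast_eq_natCast_iff', Nat.mod_eq_of_lt, Nat.mod_eq_of_lt] at h''
  · exact h''
  · have b1 : cU ≤ d := (Matrix.rank_le_width _)
    have b2 : Fintype.card E * cE ≤ Fintype.card E * d := Nat.mul_le_mul_left _ (Matrix.rank_le_width _)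
    omega
  · have b2 : Fintype.card E * a ≤ Fintype.card E * d := Nat.mul_le_mul_left _ (Matrix.rank_le_width _)
    omega

end Cfsg.Agent.Lib.OddChar
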