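import Mathlib
import Cfsg.Agent.Lib.BNPair.DefectZero

/-! Derived length of p-groups of permutations and of linear p-groups. -/

set_option autoImplicit false

namespace Cfsg.Agent.Lib.OddChar

open scoped commutatorElement

universe u v w

theorem derived_succ_le_map {G : Type u} [Group G] (H : Subgroup G) (h : derivedSeries G 1 ≤ H) (j : ℕ) :
    derivedSeries G (j + 1) ≤ (derivedSeries H j).map H.subtype := by
  induction j with
  | zero => rwa [derivedSeries_zero, ← MonoidHom.range_eq_map, Subgroup.range_subtype]
  | succ j ih =>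
    rw [derivedSeries_succ G (j + 1), derivedSeries_succ H j, Subgroup.map_commutator]
    exact Subgroup.commutator_mono ih ih

theorem derivedSeries_le_of_index {P : Type u} [Group P] [Finite P] {p : ℕ} [hp : Fact p.Prime]
    (hP : IsPGroup p P) : ∀ (k : ℕ) (H : Subgroup P), H.index ≤ p ^ k → derivedSeries P k ≤ H := by
  intro k
  induction k generalizing P with
  | zero =>
    intro H hH
    rw [pow_zero] at hH
    have h0 : 0 < H.index := Nat.pos_of_ne_zero Subgroup.index_ne_zero_of_finite
    rw [Subgroup.index_eq_one.mp (le_antisymm hH h0)]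
    exact le_top
  | succ k ih =>
    intro H hH
    rcases eq_or_ne H ⊤ with rfl | hne
    · exact le_top
    obtain ⟨M, hM, hle⟩ := (eq_top_or_exists_le_coatom H).resolve_left hne
    haveI := hP.isNilpotent
    haveI : M.Normal := Subgroup.NormalizerCondition.normal_of_coatom M normalizerCondition_of_isNilpotent hM
    have hMidx : 2 ≤ M.index := by
      have h1 : M.index ≠ 1 := fun h => hM.1 (Subgroup.index_eq_one.mp h)
      have h0 : M.index ≠ 0 := Subgroup.index_ne_zero_of_finite
      omega
    have hder : derivedSeries P 1 ≤ M := by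
      rw [derivedSeries_one]
      have hmax : ∀ x : P ⧸ M, x ≠ 1 → Subgroup.zpowers x = ⊤ := by
        intro x hx
        have hlt : M ≤ (Subgroup.zpowers x).comap (QuotientGroup.mk' M) := fun m hm => by
          rw [Subgroup.mem_comap, show QuotientGroup.mk' M m = 1 from (QuotientGroup.eq_one_iff m).mpr hm]
          exact one_mem _
        rcases hlt.eq_or_lt with e | e
        · exfalso
          obtain ⟨y, rfl⟩ := QuotientGroup.mk'_surjective M x
          exact hx ((QuotientGroup.eq_one_iff y).mpr (e.ge (Subgroup.mem_comap.mpr (Subgroup.mem_zpowers _))))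
        · exact Subgroup.comap_injective (QuotientGroup.mk'_surjective M) ((hM.2 _ e).trans (Subgroup.comap_top _).symm)
      refine Subgroup.Normal.quotient_commutative_iff_commutator_le.mp ⟨⟨fun a b => ?_⟩⟩
      by_cases ha : a = 1
      · simp [ha]
      obtain ⟨i, rfl⟩ := Subgroup.mem_zpowers_iff.mp (show b ∈ Subgroup.zpowers a by rw [hmax a ha]; trivial)
      exact (Commute.self_zpow a i).eq
    have hdiv : p ∣ M.index := by
      obtain ⟨m, hm⟩ := hP.index M
      rw [hm]
      refine dvd_pow_self p fun h0 => ?_
      rw [h0, pow_zero] at hm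
      omega
    have hidx : (H.subgroupOf M).index ≤ p ^ k := by
      have h1 := Subgroup.relIndex_mul_index hle
      change H.relIndex M ≤ p ^ k
      have h2 : H.relIndex M * p ≤ H.index :=
        h1 ▸ Nat.mul_le_mul_left _ (Nat.le_of_dvd (by omega) hdiv)
      rw [pow_succ] at hH
      exact Nat.le_of_mul_le_mul_right (h2.trans hH) hp.out.pos
    refine (derived_succ_le_map M hder k).trans (Subgroup.map_le_iff_le_comap.mpr ?_)
    exact ih (hP.to_subgroup M) _ hidx

/-- A `p`-group of permutations of `n` points has derived length at most `log p n`. -/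
theorem derivedSeries_perm_eq_bot {α : Type u} [Finite α] {p : ℕ} [hp : Fact p.Prime]
    (P : Subgroup (Equiv.Perm α)) (hP : IsPGroup p P) : derivedSeries P (Nat.log p (Nat.card α)) = ⊥ := by
  rw [eq_bot_iff]
  intro g hg
  refine Subgroup.mem_bot.mpr (Subtype.ext (Equiv.ext fun x => ?_))
  have hle : (MulAction.stabilizer P x).index ≤ p ^ Nat.log p (Nat.card α) := by
    obtain ⟨m, hm⟩ := hP.index (MulAction.stabilizer P x)
    rw [hm]
    refine Nat.pow_le_pow_right hp.out.pos (Nat.le_log_of_pow_le hp.out.one_lt ?_)
    rw [← hm, MulAction.index_stabilizer]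
    exact Nat.card_le_card_of_injective (Subtype.val) Subtype.val_injective
  exact (MulAction.mem_stabilizer_iff.mp (derivedSeries_le_of_index hP _ _ hle hg) :)

/-- The elements of derived subgroups of a wreath product seen in one coordinate. -/
theorem wreath_derived {D : Type u} {Q : Type v} [Group D] [Group Q] (s : Q) (hs : s ≠ 1) :
    ∀ (j : ℕ), ∀ x ∈ derivedSeries D j,
      ∃ w ∈ derivedSeries (RegularWreathProduct D Q) (j + 1), w.right = 1 ∧ w.left 1 = x := by
  classical
  intro j
  induction j with
  | zero =>
    intro x _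
    let a : RegularWreathProduct D Q := ⟨Pi.mulSingle 1 x, 1⟩
    refine ⟨⁅a, RegularWreathProduct.inl s⁆, ?_, ?_, ?_⟩
    · rw [derivedSeries_succ, derivedSeries_zero]
      exact Subgroup.commutator_mem_commutator (Subgroup.mem_top _) (Subgroup.mem_top _)
    · simp [commutatorElement_def, a]
    · have : s⁻¹ ≠ 1 := by simpa using hs
      simp [commutatorElement_def, a, this, Pi.mulSingle_apply]
  | succ j ih =>
    let K : Subgroup D :=
      { carrier := {x | ∃ w ∈ derivedSeries (RegularWreathProduct D Q) (j + 2), w.right = 1 ∧ w.left 1 = x}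
        one_mem' := ⟨1, one_mem _, rfl, rfl⟩
        mul_mem' := by
          rintro _ _ ⟨w, hw, hr, rfl⟩ ⟨w', hw', hr', rfl⟩
          exact ⟨w * w', mul_mem hw hw', by simp [hr, hr'], by simp [hr]⟩
        inv_mem' := by
          rintro _ ⟨w, hw, hr, rfl⟩
          exact ⟨w⁻¹, inv_mem hw, by simp [hr], by simp [hr]⟩ }
    have : derivedSeries D (j + 1) ≤ K := by
      rw [derivedSeries_succ, Subgroup.commutator_le]
      intro a ha b hb
      obtain ⟨w, hw, hr, rfl⟩ := ih a ha
      obtain ⟨w', hw', hr', rfl⟩ := ih b hb
      refine ⟨⁅w, w'⁆, ?_, by simp [commutatorElement_def, hr, hr'], by simp [commutatorElement_def, hr, hr']⟩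
      rw [derivedSeries_succ]
      exact Subgroup.commutator_mem_commutator hw hw'
    exact fun x hx => this hx

theorem iterated_derived_ne_bot {G : Type u} [Group G] [Nontrivial G] :
    ∀ k : ℕ, derivedSeries (IteratedWreathProduct G (k + 1)) k ≠ ⊥ := by
  obtain ⟨s, hs⟩ := exists_ne (1 : G)
  intro k
  induction k with
  | zero =>
    rw [derivedSeries_zero, ne_eq, Subgroup.eq_bot_iff_forall]
    intro h
    have := h (RegularWreathProduct.inl s : RegularWreathProduct (IteratedWreathProduct G 0) G) (Subgroup.mem_top _)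
    exact hs (congrArg RegularWreathProduct.right this)
  | succ k ih =>
    intro hbot
    apply ih
    rw [eq_bot_iff]
    intro x hx
    obtain ⟨w, hw, -, hl⟩ := wreath_derived (D := IteratedWreathProduct G (k + 1)) (Q := G) s hs k x hx
    have hw1 : w = 1 := by
      have := hbot.le (show w ∈ derivedSeries (IteratedWreathProduct G (k + 1 + 1)) (k + 1) from hw)
      exact this
    subst hw1
    exact hl.symm

section linear

variable {P : Type u} [Group P] [Finite P] {K : Type v} [Field K]

theorem rep_mul {V : Type w} [AddCommGroup V] [Module K V] (ρ : P →* Module.End K V) (a b : P) (x : V) :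
    ρ (a * b) x = ρ a (ρ b x) := by
  rw [map_mul]; rfl

theorem rep_inv {V : Type w} [AddCommGroup V] [Module K V] (ρ : P →* Module.End K V) (a : P) (x : V) :
    ρ a⁻¹ (ρ a x) = x := by
  rw [← rep_mul, inv_mul_cancel, map_one]; rfl

theorem derived_charP {p : ℕ} [hp : Fact p.Prime] [CharP K p] (hP : IsPGroup p P) {V : Type w}
    [AddCommGroup V] [Module K V] [FiniteDimensional K V] (ρ : P →* Module.End K V) (L : ℕ)
    (hL : Module.finrank K V ≤ 2 ^ L) : ∀ h ∈ derivedSeries P L, ρ h = 1 := by
  classical
  haveI := Fintype.ofFinite P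
  let step : Submodule K V → Submodule K V := fun W => ⨅ g : P, W.comap (ρ g - 1)
  let F : ℕ → Submodule K V := fun i => step^[i] ⊥
  have hmem : ∀ i v, v ∈ F (i + 1) ↔ ∀ g, ρ g v - v ∈ F i := fun i v => by
    simp only [F, Function.iterate_succ_apply', step, Submodule.mem_iInf, Submodule.mem_comap]
    rfl
  have hsucc : ∀ i, F i ≤ F (i + 1) := by
    intro i
    induction i with
    | zero => exact fun v hv => (hmem 0 v).mpr fun g => by simp [(Submodule.mem_bot K).mp hv, F]
    | succ i ih => exact fun v hv => (hmem (i + 1) v).mpr fun g => ih ((hmem i v).mp hv g)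
  have hmono : Monotone F := monotone_nat_of_le_succ hsucc
  have hinv : ∀ i (g : P), ∀ v ∈ F i, ρ g v ∈ F i := fun i g v hv => by
    cases i with
    | zero => simp [(Submodule.mem_bot K).mp hv, F]
    | succ i => simpa using add_mem hv (hsucc i ((hmem i v).mp hv g))
  have hgrow : ∀ i, F i ≠ ⊤ → F i < F (i + 1) := by
    intro i hi
    let σ : P →* Module.End K (V ⧸ F i) :=
      { toFun := fun g => (F i).mapQ (F i) (ρ g) (fun v hv => hinv i g v hv)
        map_one' := by
          refine Submodule.linearMap_qext _ (LinearMap.ext fun v => ?_)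
          simp
        map_mul' := fun a b => by
          refine Submodule.linearMap_qext _ (LinearMap.ext fun v => ?_)
          simp }
    haveI : Nontrivial (V ⧸ F i) := Submodule.Quotient.nontrivial_iff.mpr hi
    obtain ⟨x, hx0, hfix⟩ := BNPair.DefectZero.exists_fixed (p := p) σ (hP.to_subgroup (⊤ : Subgroup P))
    obtain ⟨v, rfl⟩ := Submodule.mkQ_surjective _ x
    refine lt_of_le_of_ne (hsucc i) fun e => hx0 ?_
    have hv : v ∈ F (i + 1) := (hmem i v).mpr fun g => by
      rw [← Submodule.Quotient.eq]
      exact hfix g (Subgroup.mem_top g)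
    rw [← e] at hv
    simpa using hv
  have hdim : ∀ i, F i = ⊤ ∨ i ≤ Module.finrank K (F i) := by
    intro i
    induction i with
    | zero => exact Or.inr (Nat.zero_le _)
    | succ i ih =>
      by_cases hi : F i = ⊤
      · exact Or.inl (top_le_iff.mp (hi ▸ hsucc i))
      · refine Or.inr ?_
        have := Submodule.finrank_lt_finrank_of_lt (hgrow i hi)
        have := ih.resolve_left hi
        omega
  have htop : F (Module.finrank K V) = ⊤ := by
    rcases hdim (Module.finrank K V) with h | h
    · exact h
    · exact Submodule.eq_top_of_finrank_eq (le_antisymm (Submodule.finrank_le _) h)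
  have key : ∀ j, ∀ h ∈ derivedSeries P j, ∀ i, ∀ v ∈ F (i + 2 ^ j), ρ h v - v ∈ F i := by
    intro j
    induction j with
    | zero => exact fun h _ i v hv => (hmem i v).mp hv h
    | succ j ih =>
      let S : Subgroup P :=
        { carrier := {h | ∀ i, ∀ v ∈ F (i + 2 ^ (j + 1)), ρ h v - v ∈ F i}
          one_mem' := fun i v _ => by simp
          mul_mem' := fun {a b} ha hb i v hv => by
            have e : ρ (a * b) v - v = ρ a (ρ b v - v) + (ρ a v - v) := by
              rw [rep_mul, map_sub]; abel
            rw [e]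
            exact add_mem (hinv i a _ (hb i v hv)) (ha i v hv)
          inv_mem' := fun {a} ha i v hv => by
            have e : ρ a⁻¹ v - v = -ρ a⁻¹ (ρ a v - v) := by
              rw [map_sub, rep_inv]; abel
            rw [e]
            exact neg_mem (hinv i a⁻¹ _ (ha i v hv)) }
      suffices derivedSeries P (j + 1) ≤ S from fun h hh => this hh
      rw [derivedSeries_succ, Subgroup.commutator_le]
      intro a ha b hb i v hv
      set u := ρ a⁻¹ (ρ b⁻¹ v) with hu
      have hu' : u ∈ F (i + 2 ^ j + 2 ^ j) := by
        rw [show i + 2 ^ j + 2 ^ j = i + 2 ^ (j + 1) by rw [pow_succ]; ring]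
        exact hinv _ _ _ (hinv _ _ _ hv)
      have hv' : v = ρ b (ρ a u) := by
        rw [hu, ← rep_mul ρ a, mul_inv_cancel, map_one, Module.End.one_apply, ← rep_mul, mul_inv_cancel, map_one,
          Module.End.one_apply]
      have h1 := ih a ha i _ (ih b hb (i + 2 ^ j) u hu')
      have h2 := ih b hb i _ (ih a ha (i + 2 ^ j) u hu')
      have e : ρ ⁅a, b⁆ v - v = (ρ a (ρ b u - u) - (ρ b u - u)) - (ρ b (ρ a u - u) - (ρ a u - u)) := by
        rw [commutatorElement_def, rep_mul, rep_mul, rep_mul, ← hu, map_sub, map_sub, hv']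
        abel
      rw [e]
      exact sub_mem h1 h2
  intro h hh
  refine LinearMap.ext fun v => ?_
  have hv : v ∈ F (0 + 2 ^ L) := by
    rw [zero_add]
    exact hmono hL (htop ▸ Submodule.mem_top)
  have := key L h hh 0 v hv
  simpa [F, sub_eq_zero] using this

theorem eq_one_of_sq_unipotent {V : Type w} [AddCommGroup V] [Module K V] {T : Module.End K V} {m : ℕ}
    (hm : (m : K) ≠ 0) (hT : T ^ m = 1) (hu : ∀ v, T (T v - v) = T v - v) : T = 1 := by
  refine LinearMap.ext fun v => ?_
  have hpow : ∀ k : ℕ, (T ^ k) v = v + (k : K) • (T v - v) := by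
    intro k
    induction k with
    | zero => simp
    | succ k ih =>
      rw [pow_succ', Module.End.mul_apply, ih, map_add, map_smul, hu, Nat.cast_succ, add_smul, one_smul]
      abel
  have h := hpow m
  rw [hT, Module.End.one_apply] at h
  have h2 : (m : K) • (T v - v) = 0 := by
    have := h.symm
    rwa [add_eq_left] at this
  exact sub_eq_zero.mp ((smul_eq_zero.mp h2).resolve_left hm)

theorem derived_semisimple [IsAlgClosed K] {p : ℕ} [hp : Fact p.Prime] (hpK : (p : K) ≠ 0) (hP : IsPGroup p P) :
    ∀ (n : ℕ) {Q : Subgroup P} {V : Type w} [AddCommGroup V] [Module K V] [FiniteDimensional K V]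
      (ρ : Q →* Module.End K V), Module.finrank K V ≤ n →
      ∀ h ∈ derivedSeries Q (Nat.log 2 n + 1), ρ h = 1 := by
  intro n
  induction n using Nat.strong_induction_on with
  | _ n ih =>
    intro Q V _ _ _ ρ hn h hh
    rcases Nat.eq_zero_or_pos (Module.finrank K V) with h0 | hpos
    · haveI : Subsingleton V := Module.finrank_zero_iff.mp h0
      exact LinearMap.ext fun v => Subsingleton.elim _ _
    haveI : Nontrivial V := Module.finrank_pos_iff.mp hpos
    by_cases hred : ∃ W : Submodule K V, W ≠ ⊥ ∧ W ≠ ⊤ ∧ ∀ g, ∀ v ∈ W, ρ g v ∈ W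
    · obtain ⟨W, hW0, hW1, hWi⟩ := hred
      let σ : Q →* Module.End K W :=
        { toFun := fun g => (ρ g).restrict (fun v hv => hWi g v hv)
          map_one' := LinearMap.ext fun v => Subtype.ext (by simp)
          map_mul' := fun a b => LinearMap.ext fun v => Subtype.ext (by simp) }
      let τ : Q →* Module.End K (V ⧸ W) :=
        { toFun := fun g => W.mapQ W (ρ g) (fun v hv => hWi g v hv)
          map_one' := by
            refine Submodule.linearMap_qext _ (LinearMap.ext fun v => ?_)
            simp
          map_mul' := fun a b => by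
            refine Submodule.linearMap_qext _ (LinearMap.ext fun v => ?_)
            simp }
      have hWp : 0 < Module.finrank K W := by
        rw [Nat.pos_iff_ne_zero]
        exact fun h => hW0 (Submodule.finrank_eq_zero.mp h)
      have hWlt : Module.finrank K W < Module.finrank K V := Submodule.finrank_lt hW1
      have hq := W.finrank_quotient_add_finrank
      have hmem : ∀ m, m ≤ n → h ∈ derivedSeries Q (Nat.log 2 m + 1) → True := fun _ _ _ => trivial
      have anti : ∀ m, m ≤ n → derivedSeries Q (Nat.log 2 n + 1) ≤ derivedSeries Q (Nat.log 2 m + 1) :=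
        fun m hm => derivedSeries_antitone Q (Nat.add_le_add_right (Nat.log_mono_right hm) 1)
      have h1 := ih (Module.finrank K W) (by omega) σ le_rfl h (anti _ (by omega) hh)
      have h2 := ih (Module.finrank K (V ⧸ W)) (by omega) τ le_rfl h (anti _ (by omega) hh)
      obtain ⟨k, hk⟩ := (hP.to_subgroup Q) h
      refine eq_one_of_sq_unipotent (m := p ^ k) (by rw [Nat.cast_pow]; exact pow_ne_zero _ hpK)
        (by rw [← map_pow, hk, map_one]) fun v => ?_
      have hv : ρ h v - v ∈ W := by
        rw [← Submodule.Quotient.eq]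
        exact congrArg (fun T : Module.End K (V ⧸ W) => T (Submodule.Quotient.mk v)) h2
      exact congrArg (fun T : Module.End K W => ((T ⟨_, hv⟩ : W) : V)) h1
    · push Not at hred
      have irr : ∀ W : Submodule K V, W ≠ ⊥ → (∀ g, ∀ v ∈ W, ρ g v ∈ W) → W = ⊤ := fun W h0 hi => by
        by_contra h1
        obtain ⟨g, v, hv, hgv⟩ := hred W h0 h1
        exact hgv (hi g v hv)
      by_cases hab : ∀ a b : Q, ρ ⁅a, b⁆ = 1
      · have hle : derivedSeries Q 1 ≤ ρ.toHomUnits.ker := by
          rw [derivedSeries_succ, derivedSeries_zero, Subgroup.commutator_le]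
          exact fun a _ b _ => Units.ext (hab a b)
        exact congrArg Units.val (MonoidHom.mem_ker.mp (hle (derivedSeries_antitone Q (Nat.le_add_left 1 _) hh)))
      push Not at hab
      -- an element whose commutators with everything are central in the image
      let R := ρ.toHomUnits.range
      haveI : Finite R := Finite.of_surjective _ ρ.toHomUnits.rangeRestrict_surjective
      have hR : IsPGroup p R := (hP.to_subgroup Q).of_surjective _ ρ.toHomUnits.rangeRestrict_surjective
      obtain ⟨a, b, hab⟩ := hab
      have hnc : Subgroup.center R ≠ ⊤ := fun htop => hab (by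
        have hc := Subgroup.mem_center_iff.mp (show ρ.toHomUnits.rangeRestrict a ∈ Subgroup.center R by rw [htop]; trivial)
          (ρ.toHomUnits.rangeRestrict b)
        have : ρ.toHomUnits.rangeRestrict ⁅a, b⁆ = 1 := by
          rw [map_commutatorElement, commutatorElement_eq_one_iff_mul_comm]
          exact hc.symm
        exact congrArg (fun r : R => ((r : (Module.End K V)ˣ) : Module.End K V)) this)
      haveI : Nontrivial (R ⧸ Subgroup.center R) :=
        QuotientGroup.nontrivial_iff.mpr hnc
      haveI := (hR.to_quotient (Subgroup.center R)).center_nontrivial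
      obtain ⟨⟨xq, hxq⟩, hxne⟩ := exists_ne (1 : Subgroup.center (R ⧸ Subgroup.center R))
      obtain ⟨xr, rfl⟩ := QuotientGroup.mk'_surjective _ xq
      have hxr : xr ∉ Subgroup.center R := fun hc => hxne (Subtype.ext ((QuotientGroup.eq_one_iff xr).mpr hc))
      have hxrz : ∀ r : R, ⁅r, xr⁆ ∈ Subgroup.center R := fun r => by
        rw [← QuotientGroup.eq_one_iff]
        change QuotientGroup.mk' (Subgroup.center R) ⁅r, xr⁆ = 1
        rw [map_commutatorElement, commutatorElement_eq_one_iff_mul_comm]
        exact Subgroup.mem_center_iff.mp hxq _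
      obtain ⟨x, hx⟩ := ρ.toHomUnits.rangeRestrict_surjective xr
      have hcen : ∀ g k : Q, ρ ⁅g, x⁆ * ρ k = ρ k * ρ ⁅g, x⁆ := fun g k => by
        have hc := Subgroup.mem_center_iff.mp (hxrz (ρ.toHomUnits.rangeRestrict g)) (ρ.toHomUnits.rangeRestrict k)
        rw [← hx, ← map_commutatorElement, ← map_mul, ← map_mul] at hc
        have := congrArg (fun r : R => ((r : (Module.End K V)ˣ) : Module.End K V)) hc
        simpa [-map_commutatorElement] using this.symm
      have hscal : ∀ g : Q, ∃ c : K, ∀ v, ρ ⁅g, x⁆ v = c • v := by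
        intro g
        obtain ⟨c, hc⟩ := Module.End.exists_eigenvalue (ρ ⁅g, x⁆)
        have htop := irr ((ρ ⁅g, x⁆).eigenspace c) hc fun k v hv => by
          rw [Module.End.mem_eigenspace_iff] at hv ⊢
          have := congrArg (fun T : Module.End K V => T v) (hcen g k)
          simp only [Module.End.mul_apply] at this
          rw [this, hv, map_smul]
        exact ⟨c, fun v => Module.End.mem_eigenspace_iff.mp (htop ▸ Submodule.mem_top)⟩
      choose ζ hζ using hscal
      have hconj : ∀ g v, ρ x (ρ g v) = (ζ g)⁻¹ • ρ g (ρ x v) := by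
        intro g v
        have e : ρ g (ρ x v) = ρ ⁅g, x⁆ (ρ x (ρ g v)) := by
          rw [← rep_mul, ← rep_mul, ← rep_mul, show ⁅g, x⁆ * x * g = g * x by rw [commutatorElement_def]; group]
        rw [hζ] at e
        have hz0 : ζ g ≠ 0 := fun h0 => by
          obtain ⟨w, hw⟩ := exists_ne (0 : V)
          have := rep_inv ρ ⁅g, x⁆ w
          rw [hζ g w, h0, zero_smul, map_zero] at this
          exact hw this.symm
        rw [e, smul_smul, inv_mul_cancel₀ hz0, one_smul]
      obtain ⟨c, hc⟩ := Module.End.exists_eigenvalue (ρ x)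
      set E := (ρ x).eigenspace c with hE
      let H : Subgroup Q :=
        { carrier := {g | ρ ⁅g, x⁆ = 1}
          one_mem' := by simp
          mul_mem' := fun {g k} hg hk => by
            change ρ ⁅g * k, x⁆ = 1
            rw [show ⁅g * k, x⁆ = g * ⁅k, x⁆ * g⁻¹ * ⁅g, x⁆ by simp only [commutatorElement_def]; group]
            rw [map_mul, map_mul, map_mul, show ρ ⁅k, x⁆ = 1 from hk, show ρ ⁅g, x⁆ = 1 from hg, mul_one, mul_one,
              ← map_mul, mul_inv_cancel, map_one]
          inv_mem' := fun {g} hg => by
            change ρ ⁅g⁻¹, x⁆ = 1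
            rw [show ⁅g⁻¹, x⁆ = g⁻¹ * ⁅g, x⁆⁻¹ * g by simp only [commutatorElement_def]; group]
            have h1 : ρ ⁅g, x⁆⁻¹ = 1 := by
              have := map_mul ρ ⁅g, x⁆⁻¹ ⁅g, x⁆
              rw [inv_mul_cancel, map_one, show ρ ⁅g, x⁆ = 1 from hg, mul_one] at this
              exact this.symm
            rw [map_mul, map_mul, h1, mul_one, ← map_mul, inv_mul_cancel, map_one] }
      have hHder : derivedSeries Q 1 ≤ H := by
        rw [derivedSeries_succ, derivedSeries_zero, Subgroup.commutator_le]
        intro g _ k _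
        change ρ ⁅⁅g, k⁆, x⁆ = 1
        refine LinearMap.ext fun v => ?_
        have hmul : ∀ g k : Q, ∀ v, ρ ⁅g * k, x⁆ v = (ζ g * ζ k) • v := fun g k v => by
          rw [show ⁅g * k, x⁆ = g * ⁅k, x⁆ * g⁻¹ * ⁅g, x⁆ by simp only [commutatorElement_def]; group]
          rw [rep_mul, rep_mul, rep_mul, hζ g, map_smul, hζ k, map_smul, map_smul, ← rep_mul, mul_inv_cancel,
            map_one, smul_smul, Module.End.one_apply, mul_comm]
        have huniq : ∀ (g : Q) (c : K), (∀ v, ρ ⁅g, x⁆ v = c • v) → ζ g = c := fun g c hc => by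
          obtain ⟨w, hw⟩ := exists_ne (0 : V)
          exact smul_left_injective K hw ((hζ g w).symm.trans (hc w))
        have hinv : ∀ g : Q, ζ g * ζ g⁻¹ = 1 := fun g => by
          refine ((huniq _ _ fun v => hmul g g⁻¹ v).symm.trans ?_)
          rw [mul_inv_cancel]
          exact huniq 1 1 fun v => by simp
        rw [Module.End.one_apply, hζ, commutatorElement_def, huniq (g * k * g⁻¹ * k⁻¹) 1 fun v => ?_, one_smul]
        rw [hmul, huniq (g * k * g⁻¹) (ζ g * ζ k * ζ g⁻¹) fun v => by rw [hmul, huniq (g * k) _ fun v => hmul g k v]]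
        rw [show ζ g * ζ k * ζ g⁻¹ * ζ k⁻¹ = ζ g * ζ g⁻¹ * (ζ k * ζ k⁻¹) by ring, hinv, hinv, mul_one]
      have hHE : ∀ g : H, ∀ v ∈ E, ρ (g : Q) v ∈ E := fun g v hv => by
        rw [Module.End.mem_eigenspace_iff] at hv ⊢
        have h1 : ζ (g : Q) = 1 := by
          obtain ⟨w, hw⟩ := exists_ne (0 : V)
          refine smul_left_injective K hw ((hζ _ w).symm.trans ?_)
          simp [show ρ ⁅(g : Q), x⁆ = 1 from g.2]
        rw [hconj, h1, inv_one, one_smul, hv, map_smul]
      -- the eigenspace has at most half of the dimension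
      obtain ⟨g₀, hg₀⟩ : ∃ g : Q, ζ g ≠ 1 := by
        by_contra hall
        push Not at hall
        apply hxr
        refine Subgroup.mem_center_iff.mpr fun r => ?_
        obtain ⟨g, rfl⟩ := ρ.toHomUnits.rangeRestrict_surjective r
        rw [← hx, ← commutatorElement_eq_one_iff_mul_comm, ← map_commutatorElement]
        refine Subtype.ext (Units.ext (LinearMap.ext fun v => ?_))
        change ρ ⁅g, x⁆ v = v
        rw [hζ, hall, one_smul]
      have hc0 : c ≠ 0 := fun h0 => by
        obtain ⟨v, hv, hv0⟩ := (Submodule.ne_bot_iff _).mp hc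
        rw [Module.End.mem_eigenspace_iff, h0, zero_smul] at hv
        have := rep_inv ρ x v
        rw [hv, map_zero] at this
        exact hv0 this.symm
      have hhalf : 2 * Module.finrank K E ≤ n := by
        have hinj : Function.Injective (ρ g₀) := Function.LeftInverse.injective (rep_inv ρ g₀)
        have hrank : Module.finrank K (E.map (ρ g₀)) = Module.finrank K E :=
          (Submodule.equivMapOfInjective _ hinj E).finrank_eq.symm
        have hdisj : E ⊓ E.map (ρ g₀) = ⊥ := by
          rw [eq_bot_iff]
          rintro w ⟨hw1, v, hv, rfl⟩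
          rw [SetLike.mem_coe, Module.End.mem_eigenspace_iff] at hw1 hv
          rw [hconj, hv, map_smul, smul_smul] at hw1
          by_contra hne
          have := smul_left_injective K (fun e => hne ((Submodule.mem_bot K).mpr e)) hw1
          exact hg₀ (inv_eq_one.mp (mul_right_cancel₀ hc0 (this.trans (one_mul c).symm)))
        have := Submodule.finrank_sup_add_finrank_inf_eq E (E.map (ρ g₀))
        rw [hdisj, finrank_bot, add_zero, hrank] at this
        have := Submodule.finrank_le (E ⊔ E.map (ρ g₀))
        omega
      have hEpos : 0 < Module.finrank K E := by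
        rw [Nat.pos_iff_ne_zero]
        exact fun h0 => hc (Submodule.finrank_eq_zero.mp h0)
      have hn2 : 2 ≤ n := by omega
      have hlog : Nat.log 2 (n / 2) + 1 = Nat.log 2 n := by
        rw [Nat.log_div_base]
        have := Nat.log_pos one_lt_two hn2
        omega
      let σ₀ : H →* Module.End K E :=
        { toFun := fun g => (ρ (g : Q)).restrict (fun v hv => hHE g v hv)
          map_one' := LinearMap.ext fun v => Subtype.ext (by simp)
          map_mul' := fun a b => LinearMap.ext fun v => Subtype.ext (by simp) }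
      let e : (H.map Q.subtype : Subgroup P) ≃* H := (H.equivMapOfInjective Q.subtype Q.subtype_injective).symm
      have key : ∀ k ∈ derivedSeries H (Nat.log 2 n), σ₀ k = 1 := by
        intro k hk
        have hk' : e.symm k ∈ derivedSeries (H.map Q.subtype : Subgroup P) (Nat.log 2 n) :=
          map_derivedSeries_le_derivedSeries e.symm.toMonoidHom (Nat.log 2 n) ⟨k, hk, rfl⟩
        rw [← hlog] at hk'
        have := ih (n / 2) (by omega) (σ₀.comp e.toMonoidHom) (by omega) _ hk'
        simpa using this
      have hfixE : ∀ k ∈ derivedSeries Q (Nat.log 2 n + 1), ∀ v ∈ E, ρ k v = v := by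
        intro k hk v hv
        obtain ⟨k', hk', rfl⟩ := derived_succ_le_map H hHder _ hk
        exact congrArg (fun T : Module.End K E => ((T ⟨v, hv⟩ : E) : V)) (key k' hk')
      let W : Submodule K V := ⨅ k ∈ derivedSeries Q (Nat.log 2 n + 1), LinearMap.ker (ρ k - 1)
      have hWmem : ∀ v, v ∈ W ↔ ∀ k ∈ derivedSeries Q (Nat.log 2 n + 1), ρ k v = v := fun v => by
        simp [W, sub_eq_zero]
      have hEW : E ≤ W := fun v hv => (hWmem v).mpr fun k hk => hfixE k hk v hv
      have hWtop := irr W (fun h0 => hc (le_bot_iff.mp (h0 ▸ hEW))) fun g v hv => by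
        rw [hWmem] at hv ⊢
        intro k hk
        have := hv (g⁻¹ * k * g) (by simpa using (derivedSeries_normal Q _).conj_mem k hk g⁻¹)
        have e2 := congrArg (ρ g) this
        rw [← rep_mul, show g * (g⁻¹ * k * g) = k * g by group, rep_mul] at e2
        exact e2
      refine LinearMap.ext fun v => ?_
      rw [Module.End.one_apply]
      exact (hWmem v).mp (hWtop ▸ Submodule.mem_top) h hh

end linear

end Cfsg.Agent.Lib.OddChar
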