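import Cfsg.Agent.Lib.OddChar.CohUnion
import Cfsg.Agent.Lib.OddChar.CentralCoherence
import Cfsg.Agent.S1523
import Cfsg.Agent.S1530
import Cfsg.Agent.Lib.Solvable.Nilpotent

/-!
Coherence for a TI Sylow subgroup with Frobenius normalizer of odd order.
-/

namespace Cfsg.Agent.Lib.OddChar

open Cfsg.Agent.Lib.Characters
open scoped ComplexConjugate

set_option linter.unusedSectionVars false
set_option linter.style.haveILetI false

universe u v

section Frob

variable {L : Type u} [Group L] [Fintype L] (K : Subgroup L) [K.Normal]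

/-- The characters not trivial on a Frobenius kernel. -/
def relSet : Set (L → ℂ) := {χ : L → ℂ | Cfsg.IsIrrCharacter L χ ∧ ∃ h ∈ K, χ h ≠ χ 1}

theorem relSet_eq (hC : ∀ k ∈ K, k ≠ 1 → ∀ x : L, x * k = k * x → x ∈ K) :
    relSet K = Cfsg.inducedIrrAbove K ⊥ := by
  haveI := Fintype.ofFinite K
  haveI := Fintype.ofFinite (IrrCharacter K)
  ext χ
  constructor
  · rintro ⟨hχ, hrel⟩
    obtain ⟨-, -, θ, hne, hind, -⟩ := redDeg_spec K hC ⟨⟨χ, hχ⟩, hrel⟩
    exact ⟨θ, θ.2, hne, fun a ha => by rw [show a = 1 from Subtype.ext (Subgroup.mem_bot.mp ha)], hind.symm⟩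
  · rintro ⟨θ, hθ, hne, -, rfl⟩
    exact ⟨frob_indFun_irr K hC (θ := ⟨θ, hθ⟩) hne, frob_indFun_relevant K hC (θ := ⟨θ, hθ⟩) hne⟩

theorem relSet_conj {χ : L → ℂ} (h : χ ∈ relSet K) : Cfsg.conjFun χ ∈ relSet K := by
  obtain ⟨hχ, k, hk, hne⟩ := h
  exact ⟨IsIrrCharacter.conjugate hχ, k, hk, fun e => hne (RingHom.injective _ e)⟩

theorem relSet_conj_ne (hodd : Odd (Nat.card L)) {χ : L → ℂ} (h : χ ∈ relSet K) : Cfsg.conjFun χ ≠ χ := by
  obtain ⟨hχ, k, -, hne⟩ := h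
  intro e
  have := congrArg Subtype.val (eq_trivIrr_of_real hodd ⟨χ, hχ⟩ fun g => congrFun e g)
  simp only at this
  exact hne (by rw [congrFun this k, congrFun this 1]; rfl)

theorem off_irr (hC : ∀ k ∈ K, k ≠ 1 → ∀ x : L, x * k = k * x → x ∈ K) (Z : Subgroup L)
    (θ : IrrCharacter K) (hθ : ¬ Above Z (θ : K → ℂ)) :
    Cfsg.IsIrrCharacter L (Cfsg.indFun K (θ : K → ℂ)) := by
  haveI := Fintype.ofFinite K
  exact frob_indFun_irr K hC fun h => hθ (by intro a _; rw [h])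

open scoped Classical in
/-- The squared degrees of the characters of `K` off `Z`. -/
theorem sum_degSq_off [Fintype (IrrCharacter K)] (Z : Subgroup L) [Z.Normal] :
    ∑ θ ∈ Finset.univ.filter (fun θ : IrrCharacter K => ¬ Above Z (θ : K → ℂ)), degNat θ ^ 2 +
      Z.relIndex K = Nat.card K := by
  have h1 := sum_degSq_above (K := K) Z
  have h2 : (Finset.univ.filter fun θ : IrrCharacter K => Above Z (θ : K → ℂ)) =
      insert (trivIrr K) (aboveSet (K := K) Z) := by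
    ext ψ
    by_cases hψ : ψ = trivIrr K
    · subst hψ; simp [Above]
    · simp [hψ, mem_aboveSet]
  have h3 : ∑ θ ∈ Finset.univ.filter (fun θ : IrrCharacter K => Above Z (θ : K → ℂ)), degNat θ ^ 2 =
      Z.relIndex K := by
    rw [h2, Finset.sum_insert (by simp [mem_aboveSet]), degNat_eq (φ := trivIrr K) (n := 1) (by simp), ← h1]
    ring
  have h4 := sum_degree_sq (G := K)
  simp only [apply_one_eq_degNat] at h4
  have h5 : ∑ θ : IrrCharacter K, degNat θ ^ 2 = Nat.card K := by exact_mod_cast h4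
  rw [← h5, ← Finset.sum_filter_add_sum_filter_not Finset.univ (fun θ : IrrCharacter K => Above Z (θ : K → ℂ)), h3,
    add_comm]

end Frob

section TI

variable {G : Type u} [Group G] [Fintype G] (H N : Subgroup G) [Fintype N] 

/-- Induction from the normalizer is an isometry on the relevant combinations of degree zero. -/
theorem ti_isometry (hN : N = Subgroup.normalizer (H : Set G)) (hTI : Cfsg.IsTISubset (H : Set G))
    (hC : ∀ k ∈ H, k ≠ 1 → Subgroup.centralizer ({k} : Set G) ≤ H) :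
    Cfsg.IsLinearIsometryOn
      (Cfsg.zspanOn (relSet (H.subgroupOf N)) {1}ᶜ)
      (fun α => Cfsg.indFun N α) ∧
    ∀ α ∈ Cfsg.zspanOn (relSet (H.subgroupOf N)) {1}ᶜ,
      Cfsg.indFun N α 1 = 0 := by
  haveI : (H.subgroupOf N).Normal := by subst hN; exact Subgroup.normal_in_normalizer
  haveI := Fintype.ofFinite (H.subgroupOf N)
  have hC' : ∀ k ∈ H.subgroupOf N, k ≠ 1 → ∀ x : N, x * k = k * x → x ∈ H.subgroupOf N := by
    subst hN; exact frobTI_centralizer H hC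
  have hfacts : ∀ α ∈ Cfsg.zspanOn (relSet (H.subgroupOf N)) {1}ᶜ,
      Cfsg.IsGeneralizedCharacter N α ∧ ∀ x : N, (x : G) ∉ ((H : Set G) \ {1}) → α x = 0 := by
    intro α hα
    obtain ⟨hz, h1⟩ := mem_zspanOn_one.mp hα
    have hgen : ∀ β ∈ Cfsg.zspan (relSet (H.subgroupOf N)),
        Cfsg.IsGeneralizedCharacter N β ∧ ∀ x : N, (x : G) ∉ H → β x = 0 := by
      intro β hβ
      induction hβ using Submodule.span_induction with
      | mem χ hχ => exact ⟨IsCharacter.isGeneralizedCharacter (IsIrrCharacter.isCharacter hχ.1),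
          fun x hx => frob_vanish _ hC' hχ.1 hχ.2 hx⟩
      | zero => exact ⟨IsCharacter.isGeneralizedCharacter isCharacter_zero, fun _ _ => rfl⟩
      | add y z _ _ hy hz => exact ⟨IsGeneralizedCharacter.add hy.1 hz.1, fun x hx => by
          rw [Pi.add_apply, hy.2 x hx, hz.2 x hx, add_zero]⟩
      | smul n y _ hy => exact ⟨by
          rw [← Int.cast_smul_eq_zsmul ℂ]; exact IsGeneralizedCharacter.intCast_smul hy.1 n,
          fun x hx => by rw [← Int.cast_smul_eq_zsmul ℂ, Pi.smul_apply, hy.2 x hx, smul_zero]⟩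
    refine ⟨(hgen α hz).1, fun x hx => ?_⟩
    by_cases hxH : (x : G) ∈ H
    · have hx1 : (x : G) = 1 := by
        by_contra h
        exact hx ⟨hxH, h⟩
      rw [show x = 1 from Subtype.ext hx1]
      exact h1
    · exact (hgen α hz).2 x hxH
  refine ⟨⟨fun α _ β _ => indFun_add N α β, fun α _ n => ?_, fun α hα β hβ => ?_,
    fun α hα => IsGeneralizedCharacter.indFun N (hfacts α hα).1⟩, fun α hα => ?_⟩
  · show Cfsg.indFun N (n • α) = _
    rw [← Int.cast_smul_eq_zsmul ℂ, indFun_smul, Int.cast_smul_eq_zsmul]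
  · refine classInner_indFun_indFun_eq N ((H : Set G) \ {1})
      (IsGeneralizedCharacter.isClassFunction (hfacts β hβ).1) (hfacts β hβ).2 fun t ht x hx hmem => ?_
    obtain ⟨htH, ht1⟩ : (t : G) ∈ ((H : Set G) \ {1}) := by
      by_contra h
      exact ht ((hfacts α hα).2 t h)
    refine ht1 (hTI x⁻¹ (fun h => hx (inv_mem_iff.mp (hN ▸ h))) _ htH ?_)
    simpa using hmem.1
  · show Cfsg.indFun N α 1 = 0
    rw [indFun_one, (mem_zspanOn_one.mp hα).2, mul_zero]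

variable {p : ℕ} [hp : Fact p.Prime]

/-- A TI subgroup of prime power order containing the centralizers of its elements is a Sylow subgroup. -/
theorem sylow_of_frobenius (hH : H ≠ ⊥) (hpH : IsPGroup p H)
    (hC : ∀ k ∈ H, k ≠ 1 → Subgroup.centralizer ({k} : Set G) ≤ H) : ∃ P : Sylow p G, (P : Subgroup G) = H := by
  obtain ⟨P, hP⟩ := hpH.exists_le_sylow
  refine ⟨P, le_antisymm (fun g hg => ?_) hP⟩
  obtain ⟨h, hh, hh1⟩ : ∃ h ∈ H, h ≠ (1 : G) := by
    by_contra hcon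
    push Not at hcon
    exact hH ((Subgroup.eq_bot_iff_forall _).mpr hcon)
  haveI : Nontrivial (P : Subgroup G) :=
    ⟨⟨⟨h, hP hh⟩, 1, fun e => hh1 (congrArg Subtype.val e)⟩⟩
  obtain ⟨⟨z, hz⟩, hz1⟩ := (nontrivial_iff_exists_ne (1 : Subgroup.center (P : Subgroup G))).mp
    (P.isPGroup'.center_nontrivial)
  have hzc : ∀ y : (P : Subgroup G), y * z = z * y := fun y => Subgroup.mem_center_iff.mp hz y
  have hz1' : (z : G) ≠ 1 := fun e => hz1 (Subtype.ext (Subtype.ext e))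
  have hzH : (z : G) ∈ H := hC h hh hh1
    (Subgroup.mem_centralizer_singleton_iff.mpr (congrArg Subtype.val (hzc ⟨h, hP hh⟩)).symm)
  exact hC _ hzH hz1' (Subgroup.mem_centralizer_singleton_iff.mpr (congrArg Subtype.val (hzc ⟨g, hg⟩)))

open scoped Classical in
/-- The multiplicities in a character orthogonal to the differences are divisible by the least degree. -/
theorem ti_inner_dvd (hN : N = Subgroup.normalizer (H : Set G)) (P : Sylow p G) (hPH : (P : Subgroup G) = H) (hTI : Cfsg.IsTISubset (H : Set G))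
    (hC : ∀ k ∈ H, k ≠ 1 → Subgroup.centralizer ({k} : Set G) ≤ H)
    (hodd : Odd (Nat.card ↥N))
    (Z : Subgroup G) (hZ1 : Z ≠ ⊥) (hZH : Z ≤ H) (hZc : ∀ z ∈ Z, ∀ y ∈ H, z * y = y * z)
    (hZn : ∀ x ∈ N, ∀ z ∈ Z, x * z * x⁻¹ ∈ Z)
    (X : Finset (↥N → ℂ))
    (hX : (X : Set (↥N → ℂ)) =
      {χ : ↥N → ℂ | Cfsg.IsIrrCharacter _ χ ∧
        ∃ z ∈ Z.subgroupOf N, χ z ≠ χ 1})
    (c e : ℕ) (d : (↥N → ℂ) → ℕ)
    (he : e = (H.subgroupOf N).index)
    (hdeg : ∀ ψ ∈ X, ψ 1 = ((c * e * d ψ : ℕ) : ℂ))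
    (χ₁ : ↥N → ℂ) (h₁ : χ₁ ∈ X) (hd₁ : d χ₁ = 1)
    (ξ : IrrCharacter G)
    (horth : ∀ γ ∈ Cfsg.zspanOn (X : Set (↥N → ℂ)) {1}ᶜ,
      classInner (Cfsg.indFun N γ) (ξ : G → ℂ) = 0) :
    ∃ t : ℤ, classInner χ₁ (fun x : ↥N => (ξ : G → ℂ) x) = ((c * t : ℤ) : ℂ) := by
  subst hPH
  have hle : (P : Subgroup G) ≤ N := hN.symm ▸ Subgroup.le_normalizer
  haveI := Fintype.ofFinite (IrrCharacter N)
  set r : N → ℂ := fun x : N => (ξ : G → ℂ) x with hr
  have hrc : Cfsg.IsCharacter N r := IsCharacter.restrict (irr_isCharacter ξ) N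
  have hirrX : ∀ ψ ∈ X, Cfsg.IsIrrCharacter N ψ := fun ψ hψ => by
    have := hX ▸ (Finset.mem_coe.mpr hψ); exact this.1
  obtain ⟨m, hm⟩ := IsCharacter.exists_classInner_nat (IsIrrCharacter.isCharacter (hirrX χ₁ h₁)) hrc
  have hξcl := irr_isClassFunction ξ
  have hmul : ∀ ψ ∈ X, classInner ψ r = (d ψ : ℂ) * (m : ℂ) := by
    intro ψ hψ
    have hdm : (d ψ : ℂ) • χ₁ ∈ Cfsg.zspan (X : Set (N → ℂ)) := by
      rw [Nat.cast_smul_eq_nsmul]; exact nsmul_mem (Submodule.subset_span h₁) _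
    have hγ : ψ - (d ψ : ℂ) • χ₁ ∈ Cfsg.zspanOn (X : Set (N → ℂ)) {1}ᶜ :=
      mem_zspanOn_one.mpr ⟨Submodule.sub_mem _ (Submodule.subset_span hψ) hdm, by
        simp [hdeg ψ hψ, hdeg χ₁ h₁, hd₁]; ring⟩
    have h := horth _ hγ
    rw [classInner_indFun N _ hξcl, ← hr, classInner_sub_left, classInner_smul_left, hm, sub_eq_zero] at h
    exact h
  have hmulr : ∀ ψ ∈ X, classInner r ψ = (d ψ : ℂ) * (m : ℂ) := fun ψ hψ => by
    rw [← classInner_conj_symm, hmul ψ hψ, map_mul, map_natCast, map_natCast]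
  have hce : (c : ℂ) * e ≠ 0 := by
    intro h
    apply IsIrrCharacter.apply_one_ne_zero (hirrX χ₁ h₁)
    rw [hdeg χ₁ h₁, hd₁]; push_cast; rw [h, zero_mul]
  have hkey : ∀ z : N, (z : G) ∈ Z → z ≠ 1 →
      ((ξ : G → ℂ) 1 - (ξ : G → ℂ) z) * ((c : ℂ) * e) = (m : ℂ) * (Nat.card N : ℂ) := by
    intro z hz hz1
    have hexp : r = ∑ ψ : IrrCharacter N, classInner r (ψ : N → ℂ) • (ψ : N → ℂ) :=
      eq_sum_classInner (IsCharacter.isClassFunction hrc)
    have hval : ∀ x : N, (ξ : G → ℂ) x = ∑ ψ : IrrCharacter N, classInner r (ψ : N → ℂ) * (ψ : N → ℂ) x := by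
      intro x
      have := congrFun hexp x
      simpa [hr] using this
    have h1v := hval 1
    rw [OneMemClass.coe_one] at h1v
    rw [h1v, hval z, ← Finset.sum_sub_distrib, Finset.sum_mul]
    have hterm : ∀ ψ : IrrCharacter N,
        (classInner r (ψ : N → ℂ) * (ψ : N → ℂ) 1 - classInner r (ψ : N → ℂ) * (ψ : N → ℂ) z) * ((c : ℂ) * e) =
        (m : ℂ) * ((ψ : N → ℂ) 1 * (ψ : N → ℂ) 1 - (ψ : N → ℂ) 1 * (ψ : N → ℂ) z) := by
      intro ψ
      by_cases hψ : (ψ : N → ℂ) ∈ X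
      · rw [hmulr _ hψ, hdeg _ hψ]
        push_cast
        ring
      · have : (ψ : N → ℂ) z = (ψ : N → ℂ) 1 := by
          by_contra hne
          refine hψ ?_
          rw [← Finset.mem_coe, hX]
          exact ⟨ψ.2, z, hz, hne⟩
        rw [this]; ring
    rw [Finset.sum_congr rfl fun ψ _ => hterm ψ, ← Finset.mul_sum, Finset.sum_sub_distrib, sum_degree_mul,
      sum_degree_mul, if_pos rfl, if_neg hz1, sub_zero]
  have hcent : ∀ z ∈ Z, z ≠ 1 →
      N ⊓ Subgroup.centralizer ({z} : Set G) = (P : Subgroup G) := by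
    intro z hz hz1
    refine le_antisymm (inf_le_right.trans (hC z (hZH hz) hz1)) (le_inf hle fun y hy => ?_)
    exact Subgroup.mem_centralizer_singleton_iff.mpr (hZc z hz y hy).symm
  have hconst : ∀ z ∈ Z, ∀ z' ∈ Z, z ≠ 1 → z' ≠ 1 → (ξ : G → ℂ) z = (ξ : G → ℂ) z' := by
    intro z hz z' hz' h h'
    have a := hkey ⟨z, hle (hZH hz)⟩ hz fun e => h (congrArg Subtype.val e)
    have b := hkey ⟨z', hle (hZH hz')⟩ hz' fun e => h' (congrArg Subtype.val e)
    have := mul_right_cancel₀ hce (a.trans b.symm)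
    exact sub_right_injective this
  obtain ⟨z, hz, hz1⟩ : ∃ z ∈ Z, z ≠ (1 : G) := by
    by_contra hcon
    push Not at hcon
    exact hZ1 ((Subgroup.eq_bot_iff_forall _).mpr hcon)
  obtain ⟨n, D, hn, hD, t, ht⟩ := Cfsg.Agent.S1523.result p P hTI (hN ▸ hodd) Z hZ1 hZH (hN ▸ hZn) hZc
    (fun z hz z' hz' h h' => by rw [← hN, hcent z hz h, hcent z' hz' h']) (ξ : G → ℂ) ξ.2 hconst z hz hz1
  refine ⟨t, ?_⟩
  have h := hkey ⟨z, hle (hZH hz)⟩ hz fun e => hz1 (congrArg Subtype.val e)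
  simp only [hn, hD] at h
  rw [← Int.cast_sub, ht] at h
  have hNcard : Nat.card N = Nat.card (P : Subgroup G) * e := by
    rw [he, ← ((P : Subgroup G).subgroupOf N).card_mul_index,
      Nat.card_congr (Subgroup.subgroupOfEquivOfLe hle).toEquiv]
  rw [hNcard] at h
  push_cast at h ⊢
  have hPe : (Nat.card (P : Subgroup G) : ℂ) * e ≠ 0 := by
    refine mul_ne_zero natCard_ne_zero_complex ?_
    exact fun h0 => hce (by rw [h0, mul_zero])
  rw [hm]
  refine mul_right_cancel₀ hPe ?_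
  linear_combination -h

open scoped Classical in
/-- Sibley's theorem for odd order: the whole relevant set is coherent. -/
theorem sibley_nonabelian (hN : N = Subgroup.normalizer (H : Set G)) (P : Sylow p G) (hPH : (P : Subgroup G) = H) (hTI : Cfsg.IsTISubset (H : Set G))
    (hlt : H < N)
    (hC : ∀ k ∈ H, k ≠ 1 → Subgroup.centralizer ({k} : Set G) ≤ H)
    (hodd : Odd (Nat.card ↥N))
    (hna : ∃ a ∈ H, ∃ b ∈ H, a * b ≠ b * a) :
    Cfsg.IsCoherent (relSet (H.subgroupOf N)) {1}ᶜ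
      (fun α => Cfsg.indFun N α) := by
  obtain ⟨hτ, hτ1⟩ := ti_isometry H N hN hTI hC
  set K := H.subgroupOf N with hK
  set τ : (N → ℂ) → (G → ℂ) := fun α => Cfsg.indFun N α with hτdef
  haveI : K.Normal := by subst hN; exact Subgroup.normal_in_normalizer
  haveI := Fintype.ofFinite K
  haveI := Fintype.ofFinite (IrrCharacter K)
  have hC' : ∀ k ∈ K, k ≠ 1 → ∀ x : N, x * k = k * x → x ∈ K := by
    subst hN; exact frobTI_centralizer H hC
  set e := K.index with he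
  have hepos : 0 < e := Nat.pos_of_ne_zero Subgroup.index_ne_zero_of_finite
  have hKp : IsPGroup p K :=
    (hPH ▸ P.isPGroup').of_equiv (Subgroup.subgroupOfEquivOfLe hlt.le).symm
  obtain ⟨M, hM⟩ := IsPGroup.iff_card.mp hKp
  have hcop : Nat.Coprime e p := by
    refine ((hp.out.coprime_iff_not_dvd).mpr fun hd => P.not_dvd_index ?_).symm
    rw [hPH]
    exact hd.trans (Subgroup.relIndex_dvd_index_of_le hlt.le)
  have hKH1 : H ≠ ⊥ := by
    rintro rfl
    obtain ⟨a, ha, b, hb, hab⟩ := hna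
    exact hab (by rw [Subgroup.mem_bot.mp ha, Subgroup.mem_bot.mp hb])
  have hK1 : K ≠ ⊥ := fun h => hKH1 (Subgroup.subgroupOf_eq_bot.mp h |>.eq_bot_of_le hlt.le)
  have hK2 : K ≠ ⊤ := fun h => hlt.not_ge (Subgroup.subgroupOf_eq_top.mp h)
  -- a central subgroup inside the commutator
  haveI hnil : Group.IsNilpotent K := hKp.isNilpotent
  set C₀ : Subgroup K := commutator K ⊓ Subgroup.center K with hC₀
  have hC₀ne : C₀ ≠ ⊥ := by
    intro h
    have hK' : commutator K ≠ ⊥ := by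
      intro h'
      obtain ⟨a, ha, b, hb, hab⟩ := hna
      apply hab
      rw [commutator_def, Subgroup.commutator_eq_bot_iff_le_centralizer] at h'
      have h2 := Subgroup.mem_centralizer_iff.mp
        (h' (Subgroup.mem_top (⟨⟨a, hlt.le ha⟩, ha⟩ : K))) (⟨⟨b, hlt.le hb⟩, hb⟩ : K) (Subgroup.mem_top _)
      exact (congrArg (fun x : K => ((x : N) : G)) h2).symm
    haveI : Fact p.Prime := hp
    exact Lib.Solvable.inf_center_ne_bot hK' h
  set ZN : Subgroup N := C₀.map K.subtype with hZN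
  haveI : C₀.Characteristic := inferInstance
  haveI : ZN.Normal := ConjAct.normal_of_characteristic_of_normal
  set Z : Subgroup G := ZN.map N.subtype with hZ
  have hZsub : Z.subgroupOf N = ZN := Subgroup.comap_map_eq_self_of_injective N.subtype_injective ZN
  have hZH : Z ≤ H := by
    rintro _ ⟨_, ⟨k, -, rfl⟩, rfl⟩
    exact k.2
  have hZ1 : Z ≠ ⊥ := by
    rw [hZ, hZN, Ne, Subgroup.map_eq_bot_iff_of_injective _ N.subtype_injective,
      Subgroup.map_eq_bot_iff_of_injective _ K.subtype_injective]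
    exact hC₀ne
  have hZc : ∀ z ∈ Z, ∀ y ∈ H, z * y = y * z := by
    rintro _ ⟨_, ⟨k, hk, rfl⟩, rfl⟩ y hy
    exact congrArg (fun x : K => ((x : N) : G))
      (Subgroup.mem_center_iff.mp hk.2 ⟨⟨y, hlt.le hy⟩, hy⟩).symm
  have hZn : ∀ x ∈ N, ∀ z ∈ Z, x * z * x⁻¹ ∈ Z := by
    rintro x hx _ ⟨z, hz, rfl⟩
    exact ⟨⟨x, hx⟩ * z * ⟨x, hx⟩⁻¹, (inferInstance : ZN.Normal).conj_mem z hz _, rfl⟩
  have hZNK : ZN ≤ K := Subgroup.map_subtype_le _
  have hZN1 : ZN ≠ ⊥ := by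
    rw [hZN, Ne, Subgroup.map_eq_bot_iff_of_injective _ K.subtype_injective]; exact hC₀ne
  have hZNc : ∀ z ∈ ZN, ∀ k ∈ K, z * k = k * z := fun z hz k hk =>
    Subtype.ext (hZc _ ⟨z, hz, rfl⟩ _ hk)
  have hirr := off_irr K hC' ZN
  have hXset := coe_offSet (K := K) (Z := ZN) hZNK hirr
  set X := offSet K ZN with hXdef
  have hXS : (X : Set (N → ℂ)) ⊆ relSet K := by
    rw [hXset]
    rintro χ ⟨h1, z, hz, hne⟩
    exact ⟨h1, z, hZNK hz, hne⟩
  have hcohX : Cfsg.IsCoherent (X : Set (N → ℂ)) {1}ᶜ τ :=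
    coherent_offSet hodd hp.out hM hcop hZNK hZN1 hZNc hirr τ (by
      obtain ⟨a, b, c, d⟩ := hτ
      exact ⟨fun α hα β hβ => a α (zspanOn_mono hXS hα) β (zspanOn_mono hXS hβ),
        fun α hα n => b α (zspanOn_mono hXS hα) n,
        fun α hα β hβ => c α (zspanOn_mono hXS hα) β (zspanOn_mono hXS hβ),
        fun α hα => d α (zspanOn_mono hXS hα)⟩)
      fun α hα => hτ1 α (zspanOn_mono hXS hα)
  have hrel := relSet_eq K hC'
  set SS := (Finset.univ.filter fun θ : IrrCharacter K => θ ≠ trivIrr K).image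
    fun θ : IrrCharacter K => Cfsg.indFun K (θ : K → ℂ) with hSSdef
  have hSS : (SS : Set (N → ℂ)) = relSet K := by
    rw [hrel]
    ext φ
    simp only [hSSdef, Finset.coe_image, Set.mem_image, Finset.mem_coe, Finset.mem_filter, Finset.mem_univ,
      true_and, mem_inducedIrrAbove]
    exact ⟨fun ⟨θ, h, e⟩ => ⟨θ, h, fun a ha => by rw [show a = 1 from Subtype.ext (Subgroup.mem_bot.mp ha)], e.symm⟩,
      fun ⟨θ, h, _, e⟩ => ⟨θ, h, e.symm⟩⟩
  set Y := ((Finset.univ.filter fun θ : IrrCharacter K => θ ≠ trivIrr K ∧ degNat θ = 1).image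
    fun θ : IrrCharacter K => Cfsg.indFun K (θ : K → ℂ)) with hYdef
  have hYS : Y ⊆ SS := Finset.image_subset_image fun θ hθ =>
    Finset.mem_filter.mpr ⟨Finset.mem_univ _, (Finset.mem_filter.mp hθ).2.1⟩
  have hYS' : (Y : Set (N → ℂ)) ⊆ relSet K := hSS ▸ Finset.coe_subset.mpr hYS
  have hYdeg : ∀ η ∈ Y, η 1 = ((e : ℕ) : ℂ) := by
    intro η hη
    obtain ⟨θ, hθ, rfl⟩ := Finset.mem_image.mp hη
    rw [indFun_degree, (Finset.mem_filter.mp hθ).2.2, mul_one]
  have hmemY : ∀ η ∈ relSet K, η 1 = ((e : ℕ) : ℂ) → η ∈ Y := by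
    intro η hη h1
    rw [← hSS, Finset.mem_coe] at hη
    obtain ⟨θ, hθ, rfl⟩ := Finset.mem_image.mp hη
    rw [indFun_degree, Nat.cast_inj] at h1
    refine Finset.mem_image_of_mem _ (Finset.mem_filter.mpr ⟨Finset.mem_univ _, (Finset.mem_filter.mp hθ).2, ?_⟩)
    exact Nat.eq_of_mul_eq_mul_left hepos (h1.trans (mul_one e).symm)
  have hYc : ∀ η ∈ Y, Cfsg.conjFun η ∈ Y := fun η hη =>
    hmemY _ (relSet_conj K (hYS' hη)) (by simp [Cfsg.conjFun, hYdeg η hη])
  obtain ⟨χy, hχy⟩ := frob_exists_linear K hK1 hK2 hC'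
  obtain ⟨hd, -, -⟩ := redDeg_spec K hC' χy
  have hη₁ : (χy.1 : N → ℂ) ∈ Y := hmemY _ ⟨χy.1.2, χy.2⟩ (by rw [apply_one_eq_degNat, hd, hχy, mul_one])
  set η₁ : N → ℂ := (χy.1 : N → ℂ) with hη₁def
  have hirrS : ∀ ψ ∈ SS, Cfsg.IsIrrCharacter N ψ := fun ψ hψ => (hSS ▸ (Finset.mem_coe.mpr hψ) : ψ ∈ relSet K).1
  have hmonoτ : ∀ {T : Set (N → ℂ)}, T ⊆ relSet K →
      Cfsg.IsLinearIsometryOn (Cfsg.zspanOn T {1}ᶜ) τ ∧ ∀ α ∈ Cfsg.zspanOn T {1}ᶜ, τ α 1 = 0 := by
    intro T hT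
    obtain ⟨a, b, c, d⟩ := hτ
    exact ⟨⟨fun α hα β hβ => a α (zspanOn_mono hT hα) β (zspanOn_mono hT hβ),
        fun α hα n => b α (zspanOn_mono hT hα) n,
        fun α hα β hβ => c α (zspanOn_mono hT hα) β (zspanOn_mono hT hβ),
        fun α hα => d α (zspanOn_mono hT hα)⟩, fun α hα => hτ1 α (zspanOn_mono hT hα)⟩
  have hcohY : Cfsg.IsCoherent (Y : Set (N → ℂ)) {1}ᶜ τ :=
    coherent_of_bound Y (fun ψ hψ => hirrS ψ (hYS hψ)) e hepos (fun _ => 1)
      (fun ψ hψ => by rw [hYdeg ψ hψ, mul_one]) η₁ (Cfsg.conjFun η₁) hη₁ (hYc _ hη₁)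
      (relSet_conj_ne K hodd (hYS' hη₁)).symm rfl rfl (fun _ _ h => absurd h (by norm_num)) τ
      (hmonoτ hYS').1 (hmonoτ hYS').2
  -- degrees on X
  have hpow : ∀ θ : IrrCharacter K, ∃ i, degNat θ = p ^ i := by
    intro θ
    obtain ⟨t, -, ht, htd⟩ := IsIrrCharacter.exists_degree_dvd θ.2
    rw [← degNat_eq ht, hM] at htd
    obtain ⟨i, -, hi⟩ := (Nat.dvd_prime_pow hp.out).mp htd
    exact ⟨i, hi⟩
  obtain ⟨zz, hzz, hzz1⟩ : ∃ z ∈ ZN, z ≠ (1 : N) := by
    by_contra h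
    push Not at h
    exact hZN1 ((Subgroup.eq_bot_iff_forall _).mpr h)
  obtain ⟨θz, hnez⟩ := exists_irr_ne_apply_one (G := K) (g := ⟨zz, hZNK hzz⟩) fun h => hzz1 (congrArg Subtype.val h)
  set T := Finset.univ.filter (fun θ : IrrCharacter K => ¬ Above ZN (θ : K → ℂ)) with hT
  obtain ⟨θ₀, hθ₀, hmin⟩ := Finset.exists_min_image T degNat
    ⟨θz, Finset.mem_filter.mpr ⟨Finset.mem_univ _, fun hA => hnez (hA _ hzz)⟩⟩
  obtain ⟨a, ha⟩ := hpow θ₀
  set c := p ^ a with hc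
  have hcpos : 0 < c := pow_pos hp.out.pos _
  set d : (N → ℂ) → ℕ := fun χ => ⌊(χ 1).re⌋₊ / (c * e) with hd'
  have hdX : ∀ ψ ∈ X, ψ 1 = ((c * e * d ψ : ℕ) : ℂ) := by
    intro ψ hψ
    obtain ⟨θ, hθ, rfl⟩ := Finset.mem_image.mp hψ
    obtain ⟨i, hi⟩ := hpow θ
    have hai : a ≤ i := by
      have := hmin θ hθ
      rw [ha, hi] at this
      exact (Nat.pow_le_pow_iff_right hp.out.one_lt).mp this
    have e1 : e * p ^ i = c * e * p ^ (i - a) := by rw [hc, ← pow_sub_mul_pow p hai]; ring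
    simp only [hd']
    rw [indFun_degree, hi, e1, Complex.natCast_re, Nat.floor_natCast,
      Nat.mul_div_cancel_left _ (Nat.mul_pos hcpos hepos)]
  set χ₁ := Cfsg.indFun K (θ₀ : K → ℂ) with hχ₁
  have hχ₁X : χ₁ ∈ X := Finset.mem_image_of_mem _ hθ₀
  have hd₁ : d χ₁ = 1 := by
    simp only [hd', hχ₁]
    rw [indFun_degree, ha, ← he, mul_comm c e]
    simp only [Complex.natCast_re, Nat.floor_natCast]
    exact Nat.div_self (Nat.mul_pos hepos hcpos)
  have hXc : ∀ ψ ∈ X, Cfsg.conjFun ψ ∈ X := by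
    intro ψ hψ
    rw [← Finset.mem_coe, hXset] at hψ ⊢
    obtain ⟨h1, z, hz, hne⟩ := hψ
    exact ⟨IsIrrCharacter.conjugate h1, z, hz, fun h => hne (RingHom.injective _ h)⟩
  have hdisj : Disjoint X Y := by
    rw [Finset.disjoint_left]
    intro ψ hψX hψY
    obtain ⟨θ, hθ, rfl⟩ := Finset.mem_image.mp hψX
    have h1 := hYdeg _ hψY
    rw [indFun_degree, Nat.cast_inj] at h1
    have hdθ : degNat θ = 1 := Nat.eq_of_mul_eq_mul_left hepos (h1.trans (mul_one e).symm)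
    refine (Finset.mem_filter.mp hθ).2 fun z hz => ?_
    obtain ⟨k, hk, hkz⟩ := hz
    have h1' : (θ : K → ℂ) 1 = 1 := by rw [apply_one_eq_degNat, hdθ, Nat.cast_one]
    rw [← Subtype.ext hkz, IsCharacter.apply_of_mem_commutator (irr_isCharacter θ) h1' hk.1, h1']
  have hXYS : ((X ∪ Y : Finset (N → ℂ)) : Set (N → ℂ)) ⊆ relSet K := by
    rw [Finset.coe_union]; exact Set.union_subset hXS hYS'
  have hcohXY : Cfsg.IsCoherent ((X ∪ Y : Finset (N → ℂ)) : Set (N → ℂ)) {1}ᶜ τ := by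
    refine coherent_union X Y hdisj (fun ψ hψ => (hXYS hψ).1) hXc hYc
      (fun ψ hψ => relSet_conj_ne K hodd (hXYS hψ)) e c hepos hcpos d hdX hYdeg χ₁ hχ₁X hd₁ η₁ hη₁ τ
      (hmonoτ hXYS).1 (hmonoτ hXYS).2 hcohX hcohY ?_
    intro ξ hξ hnorm horth
    obtain ⟨ξ₀, hξ₀⟩ := IsGeneralizedCharacter.eq_pm_irr hξ hnorm
    obtain ⟨t, ht⟩ := ti_inner_dvd H N hN P hPH hTI hC hodd Z hZ1 hZH hZc hZn X (by rw [hXset, hZsub]) c e d he hdX
      χ₁ hχ₁X hd₁ ξ₀ fun γ hγ => by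
        have := horth γ hγ
        rcases hξ₀ with h | h
        · rwa [h] at this
        · rwa [h, classInner_neg_right, neg_eq_zero] at this
    obtain ⟨k, hk⟩ := IsCharacter.exists_classInner_nat (IsIrrCharacter.isCharacter (hirrS η₁ (hYS hη₁)))
      (IsCharacter.restrict (irr_isCharacter ξ₀) N)
    have hval : classInner (τ (χ₁ - (c : ℂ) • η₁)) (ξ₀ : G → ℂ) = ((c * (t - k) : ℤ) : ℂ) := by
      show classInner (Cfsg.indFun N _) _ = _
      rw [classInner_indFun N _ (irr_isClassFunction ξ₀), classInner_sub_left, classInner_smul_left, ht, hk]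
      push_cast
      ring
    rcases hξ₀ with h | h
    · exact ⟨t - k, by rw [h, hval]⟩
    · exact ⟨-(t - k), by rw [h, classInner_neg_right, hval]; push_cast; ring⟩
  -- the remaining characters
  have hXSS : X ⊆ SS := by rw [← Finset.coe_subset, hSS]; exact hXS
  set dN : (N → ℂ) → ℕ := fun χ => ⌊(χ 1).re⌋₊ with hdN
  have hbig : ∀ θ : IrrCharacter K, 2 * e * (e * degNat θ) < ∑ ξ ∈ X ∪ Y, dN ξ ^ 2 := by
    intro θ
    rw [Finset.sum_union hdisj]
    have hX2 : ∑ ξ ∈ X, dN ξ ^ 2 = e * ∑ θ ∈ T, degNat θ ^ 2 := by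
      have h := sum_wt_image T fun θ hθ ψ h => Finset.mem_filter.mpr
        ⟨Finset.mem_univ _, fun hA => (Finset.mem_filter.mp hθ).2 (above_of_indFun_eq h hA)⟩
      have h' : ∑ ξ ∈ X, wt ξ = ((∑ ξ ∈ X, dN ξ ^ 2 : ℕ) : ℝ) := by
        rw [Nat.cast_sum]
        refine Finset.sum_congr rfl fun ξ hξ => ?_
        rw [wt, IsIrrCharacter.classInner_self (hirrS ξ (hXSS hξ)), hdX ξ hξ]
        simp only [hdN, hdX ξ hξ, Complex.natCast_re, Nat.floor_natCast, Complex.one_re, div_one, Nat.cast_pow]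
      have h'' : ∑ ξ ∈ X, wt ξ = (e : ℝ) * ((∑ θ ∈ T, degNat θ ^ 2 : ℕ) : ℝ) := h
      rw [h'] at h''
      exact_mod_cast h''
    have hoff : ∑ θ ∈ T, degNat θ ^ 2 + ZN.relIndex K = Nat.card K := sum_degSq_off K ZN
    have hY1 : 0 < ∑ ξ ∈ Y, dN ξ ^ 2 := by
      refine Finset.sum_pos' (fun _ _ => Nat.zero_le _) ⟨η₁, hη₁, pow_pos ?_ 2⟩
      simp only [hdN, hYdeg η₁ hη₁, Complex.natCast_re, Nat.floor_natCast]
      exact hepos
    have hsq : degNat θ ^ 2 ≤ ZN.relIndex K := by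
      have h := sq_mul_card_le θ ⊥ (ZN.subgroupOf K) (fun b hb => by rw [Subgroup.mem_bot.mp hb]) fun x hx y => by
        rw [Subgroup.mem_bot]
        have hxy : x * y = y * x := Subtype.ext (hZNc _ (Subgroup.mem_subgroupOf.mp hx) _ y.2)
        rw [hxy]; group
      rw [← (ZN.subgroupOf K).index_mul_card] at h
      exact Nat.le_of_mul_le_mul_right h Nat.card_pos
    set r := ZN.relIndex K with hr
    set zc := Nat.card (ZN.subgroupOf K) with hzc
    have hcard : Nat.card K = r * zc := ((ZN.subgroupOf K).index_mul_card).symm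
    have hTe : e ∣ ∑ θ ∈ T, degNat θ ^ 2 := by
      have h : ∀ ξ ∈ X, e ^ 2 ∣ dN ξ ^ 2 := by
        intro ξ hξ
        simp only [hdN, hdX ξ hξ, Complex.natCast_re, Nat.floor_natCast]
        exact pow_dvd_pow_of_dvd ((dvd_mul_left e c).mul_right _) 2
      have h2 := Finset.dvd_sum h
      rw [hX2, sq] at h2
      exact Nat.dvd_of_mul_dvd_mul_left hepos h2
    have hzpos : 0 < zc := Nat.card_pos
    obtain ⟨w, hw⟩ : ∃ w, zc = w + 1 := ⟨zc - 1, by omega⟩
    have hTval : ∑ θ ∈ T, degNat θ ^ 2 = r * w := by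
      have : ∑ θ ∈ T, degNat θ ^ 2 + r = r * w + r := by rw [hoff, hcard, hw]; ring
      omega
    have hw0 : w ≠ 0 := by
      intro h0
      rw [h0] at hw
      exact hZN1 ((Subgroup.subgroupOf_eq_bot.mp (Subgroup.card_eq_one.mp hw)).eq_bot_of_le hZNK)
    have hrp : r.Coprime e := by
      obtain ⟨i, -, hi⟩ := (Nat.dvd_prime_pow hp.out).mp (hM ▸ (ZN.subgroupOf K).index_dvd_card)
      rw [hr, Subgroup.relIndex, hi]
      exact Nat.Coprime.pow_left i hcop.symm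
    rw [hTval] at hTe
    obtain ⟨s, hs⟩ := hrp.symm.dvd_of_dvd_mul_left hTe
    have hoddz : Odd zc := Odd.of_dvd_nat hodd ((Subgroup.card_subgroup_dvd_card _).trans
      (Subgroup.card_subgroup_dvd_card K))
    have hodde : Odd e := Odd.of_dvd_nat hodd K.index_dvd_card
    have hs2 : 2 ≤ s := by
      obtain ⟨u, hu⟩ := hoddz
      obtain ⟨v, hv⟩ := hodde
      rcases s with _ | _ | s
      · exact absurd (by rw [hs, mul_zero]) hw0
      · rw [zero_add, mul_one] at hs; omega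
      · omega
    rw [hX2, hTval, hs]
    have hθle : degNat θ ≤ r := le_trans (Nat.le_self_pow two_ne_zero _) hsq
    nlinarith [Nat.mul_le_mul (le_refl (e * e)) (Nat.mul_le_mul hθle hs2)]
  suffices h : ∀ (n : ℕ) (W : Finset (N → ℂ)), (SS \ W).card ≤ n → X ∪ Y ⊆ W → W ⊆ SS →
      Cfsg.IsCoherent (W : Set (N → ℂ)) {1}ᶜ τ → Cfsg.IsCoherent (SS : Set (N → ℂ)) {1}ᶜ τ by
    rw [← hSS]
    exact h _ _ le_rfl subset_rfl (Finset.union_subset hXSS hYS) hcohXY
  intro n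
  induction n with
  | zero =>
    intro W hn _ hW hc
    rwa [subset_antisymm hW (Finset.sdiff_eq_empty_iff_subset.mp (Finset.card_eq_zero.mp (Nat.le_zero.mp hn)))] at hc
  | succ n ih =>
    intro W hn h0 hW hc
    rcases (SS \ W).eq_empty_or_nonempty with he' | ⟨φ, hφ⟩
    · rwa [subset_antisymm hW (Finset.sdiff_eq_empty_iff_subset.mp he')] at hc
    rw [Finset.mem_sdiff] at hφ
    have hins : insert φ W ⊆ SS := Finset.insert_subset hφ.1 hW
    have hdN' : ∀ ξ ∈ SS, ξ 1 = (dN ξ : ℂ) := fun ξ hξ => by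
      obtain ⟨k, hk⟩ := IsCharacter.exists_apply_one (IsIrrCharacter.isCharacter (hirrS ξ hξ))
      simp [hdN, hk]
    have hη₁W : η₁ ∈ W := h0 (Finset.mem_union_right _ hη₁)
    have hsubrel : ((insert φ W : Finset (N → ℂ)) : Set (N → ℂ)) ⊆ relSet K := hSS ▸ Finset.coe_subset.mpr hins
    obtain ⟨θ, hθ, hθe⟩ := Finset.mem_image.mp hφ.1
    have hdη : dN η₁ = e := by simp [hdN, hYdeg η₁ hη₁]
    have hdφ : dN φ = e * degNat θ := by
      simp only [hdN, ← hθe, indFun_degree, Complex.natCast_re, Nat.floor_natCast]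
      rfl
    refine ih (insert φ W) ?_ (h0.trans (Finset.subset_insert _ _)) hins
      (Cfsg.Agent.S1530.result N W φ (fun ξ hξ => hirrS ξ (hW hξ)) (hirrS φ hφ.1) hφ.2 dN
        (fun ξ hξ => hdN' ξ (hins hξ)) τ (hmonoτ hsubrel).1 (hmonoτ hsubrel).2 hc η₁ hη₁W
        (by rw [hdη, hdφ]; exact dvd_mul_right _ _) (by
          rw [hdη, hdφ]
          exact lt_of_lt_of_le (hbig θ) (Finset.sum_le_sum_of_subset h0)))
    refine Nat.lt_succ_iff.mp (lt_of_lt_of_le (Finset.card_lt_card ?_) hn)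
    refine Finset.ssubset_iff_subset_ne.mpr ⟨Finset.sdiff_subset_sdiff subset_rfl (Finset.subset_insert _ _), fun e => ?_⟩
    have : φ ∈ SS \ insert φ W := e ▸ Finset.mem_sdiff.mpr hφ
    simp at this

end TI

end Cfsg.Agent.Lib.OddChar
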