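import Cfsg.Agent.Lib.OddChar.Sibley

/-!
The case division for coherence over a TI subgroup with Frobenius normalizer.
-/

namespace Cfsg.Agent.Lib.OddChar

open Cfsg.Agent.Lib.Characters

set_option linter.unusedSectionVars false
set_option linter.style.haveILetI false

universe u

variable {G : Type u} [Group G] [Fintype G] (H N : Subgroup G) [Fintype N]

/-- When the kernel has order one more than the index there is a single relevant character. -/
theorem single_relevant (hN : N = Subgroup.normalizer (H : Set G)) (hH : H ≠ ⊥) (hlt : H < N)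
    (hC : ∀ k ∈ H, k ≠ 1 → Subgroup.centralizer ({k} : Set G) ≤ H)
    (he : Nat.card H = (H.subgroupOf N).index + 1) :
    Nat.card {χ : N → ℂ // χ ∈ relSet (H.subgroupOf N)} = 1 ∧
      ∃ p : ℕ, p.Prime ∧ Cfsg.IsElementaryAbelian p H := by
  classical
  set K := H.subgroupOf N with hK
  haveI : K.Normal := by subst hN; exact Subgroup.normal_in_normalizer
  haveI := Fintype.ofFinite K
  haveI := Fintype.ofFinite (IrrCharacter K)
  haveI := Fintype.ofFinite {χ : IrrCharacter N // IsRelevant K (χ : N → ℂ)}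
  have hC' : ∀ k ∈ K, k ≠ 1 → ∀ x : N, x * k = k * x → x ∈ K := by
    subst hN; exact frobTI_centralizer H hC
  have hK1 : K ≠ ⊥ := fun h => hH (Subgroup.subgroupOf_eq_bot.mp h |>.eq_bot_of_le hlt.le)
  have hK2 : K ≠ ⊤ := fun h => hlt.not_ge (Subgroup.subgroupOf_eq_top.mp h)
  have hKc : Nat.card K = Nat.card H := Nat.card_congr (Subgroup.subgroupOfEquivOfLe hlt.le).toEquiv
  have hcount := frob_linear_count K hC'
  obtain ⟨χ₀, hχ₀⟩ := frob_exists_linear K hK1 hK2 hC'
  set F := Finset.univ.filter (fun χ : {χ : IrrCharacter N // IsRelevant K (χ : N → ℂ)} => redDeg K χ = 1) with hF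
  have hF0 : 1 ≤ F.card := Finset.card_pos.mpr ⟨χ₀, Finset.mem_filter.mpr ⟨Finset.mem_univ _, hχ₀⟩⟩
  have hle : (commutator K).index ≤ K.index + 1 := by
    rw [← he, ← hKc]
    exact Nat.le_of_dvd Nat.card_pos (commutator K).index_dvd_card
  have hpos : 0 < K.index := Nat.pos_of_ne_zero Subgroup.index_ne_zero_of_finite
  rw [← hcount] at hle
  have hF1 : F.card = 1 := le_antisymm (by nlinarith) hF0
  have hidx : (commutator K).index = Nat.card K := by rw [hKc, he, ← hcount, hF1, mul_one]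
  have hbot : commutator K = ⊥ := by
    rw [← Subgroup.card_eq_one]
    have h := (commutator K).card_mul_index
    rw [hidx] at h
    exact Nat.eq_of_mul_eq_mul_right Nat.card_pos (h.trans (one_mul _).symm)
  have hab : ∀ a b : K, a * b = b * a := by
    intro a b
    rw [commutator_def, Subgroup.commutator_eq_bot_iff_le_centralizer] at hbot
    exact Subgroup.mem_centralizer_iff.mp (hbot (Subgroup.mem_top b)) a (Subgroup.mem_top a)
  have hdeg : ∀ χ : {χ : IrrCharacter N // IsRelevant K (χ : N → ℂ)}, redDeg K χ = 1 := by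
    intro χ
    obtain ⟨t, -, ht, -, htab⟩ := frob_exists_degree K hC' χ.1.2 χ.2
    have h1 := (redDeg_spec K hC' χ).1
    rw [apply_one_eq_degNat, htab hab, mul_one, Nat.cast_inj] at ht
    rw [ht] at h1
    exact (Nat.eq_of_mul_eq_mul_left hpos ((mul_one _).trans h1)).symm
  refine ⟨?_, ?_⟩
  · rw [Nat.card_eq_one_iff_exists]
    refine ⟨⟨(χ₀.1 : N → ℂ), χ₀.1.2, χ₀.2⟩, fun y => ?_⟩
    obtain ⟨f, hf⟩ := Finset.card_eq_one.mp hF1
    have h1 : (⟨⟨y.1, y.2.1⟩, y.2.2⟩ : {χ : IrrCharacter N // IsRelevant K (χ : N → ℂ)}) ∈ F :=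
      Finset.mem_filter.mpr ⟨Finset.mem_univ _, hdeg _⟩
    have h2 : χ₀ ∈ F := Finset.mem_filter.mpr ⟨Finset.mem_univ _, hχ₀⟩
    rw [hf, Finset.mem_singleton] at h1 h2
    exact Subtype.ext (congrArg (fun x : {χ : IrrCharacter N // IsRelevant K (χ : N → ℂ)} => (x.1 : N → ℂ))
      (h1.trans h2.symm))
  · obtain ⟨p, hp, hpd⟩ := Nat.exists_prime_and_dvd (n := Nat.card K) (by omega)
    haveI := Fact.mk hp
    obtain ⟨k₀, hk₀⟩ := exists_prime_orderOf_dvd_card' (G := K) p hpd
    refine ⟨p, hp, ⟨⟨fun a b => Subtype.ext (congrArg (fun x : K => ((x : N) : G))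
      (hab ⟨⟨a, hlt.le a.2⟩, a.2⟩ ⟨⟨b, hlt.le b.2⟩, b.2⟩))⟩⟩, fun a ha => ?_⟩
    by_cases ha1 : a = 1
    · rw [ha1, one_pow]
    have hk1 : (k₀ : N) ≠ 1 := fun h => by
      rw [show k₀ = 1 from Subtype.ext h, orderOf_one] at hk₀
      exact hp.ne_one hk₀.symm
    have hcent : Subgroup.centralizer ({(k₀ : N)} : Set N) = K := by
      refine le_antisymm (fun x hx => hC' _ k₀.2 hk1 x (Subgroup.mem_centralizer_singleton_iff.mp hx))
        fun x hx => ?_
      exact Subgroup.mem_centralizer_singleton_iff.mpr (congrArg Subtype.val (hab ⟨x, hx⟩ k₀))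
    have hclass := card_conj_eq_index (G := N) (k₀ : N)
    rw [hcent, Nat.card_eq_fintype_card, Fintype.card_subtype] at hclass
    set C := Finset.univ.filter (fun y : N => IsConj (k₀ : N) y) with hCdef
    set P₁ := Finset.univ.filter (fun y : N => y ∈ K ∧ y ≠ 1) with hP₁
    have hsub : C = P₁ := by
      refine Finset.eq_of_subset_of_card_le (fun y hy => ?_) ?_
      · obtain ⟨c, rfl⟩ := isConj_iff.mp (Finset.mem_filter.mp hy).2
        exact Finset.mem_filter.mpr ⟨Finset.mem_univ _, (inferInstance : K.Normal).conj_mem _ k₀.2 c,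
          fun h => hk1 (conj_eq_one_iff.mp h)⟩
      · have h2 : P₁.card + 1 ≤ Nat.card K := by
          rw [Nat.card_eq_fintype_card, Fintype.card_subtype, ← Finset.card_insert_of_notMem (a := (1 : N))
            (show (1 : N) ∉ P₁ by simp [hP₁])]
          refine Finset.card_le_card fun y hy => ?_
          rcases Finset.mem_insert.mp hy with rfl | hy
          · simp
          · exact Finset.mem_filter.mpr ⟨Finset.mem_univ _, (Finset.mem_filter.mp hy).2.1⟩
        omega
    have hmem : (⟨a, hlt.le ha⟩ : N) ∈ P₁ :=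
      Finset.mem_filter.mpr ⟨Finset.mem_univ _, ha, fun h => ha1 (congrArg Subtype.val h)⟩
    rw [← hsub] at hmem
    obtain ⟨c, hc⟩ := isConj_iff.mp (Finset.mem_filter.mp hmem).2
    have hc' : (c : G) * ((k₀ : N) : G) * (c : G)⁻¹ = a := congrArg Subtype.val hc
    have hkp : ((k₀ : N) : G) ^ p = 1 := by
      have := congrArg (fun x : K => ((x : N) : G)) (hk₀ ▸ pow_orderOf_eq_one k₀ : k₀ ^ p = 1)
      simpa using this
    rw [← hc', conj_pow, hkp, mul_one, mul_inv_cancel]

/-- A nonabelian kernel of odd order forces an odd index. -/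
theorem odd_index_of_nonabelian (hN : N = Subgroup.normalizer (H : Set G)) (hlt : H < N)
    (hC : ∀ k ∈ H, k ≠ 1 → Subgroup.centralizer ({k} : Set G) ≤ H) (hHodd : Odd (Nat.card H))
    (hna : ∃ a ∈ H, ∃ b ∈ H, a * b ≠ b * a) : Odd (Nat.card N) := by
  classical
  by_contra hev
  rw [Nat.not_odd_iff_even, even_iff_two_dvd] at hev
  haveI : Fact (Nat.Prime 2) := ⟨Nat.prime_two⟩
  obtain ⟨t, ht⟩ := exists_prime_orderOf_dvd_card' (G := N) 2 hev
  have ht2 : (t : G) * t = 1 := by
    have h := congrArg Subtype.val (ht ▸ pow_orderOf_eq_one t : t ^ 2 = 1)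
    simpa [pow_two] using h
  have htH : (t : G) ∉ H := by
    intro h
    have h2 : orderOf (⟨(t : G), h⟩ : H) = 2 := by
      rw [Subgroup.orderOf_mk, Subgroup.orderOf_coe, ht]
    have := Odd.of_dvd_nat hHodd (h2 ▸ orderOf_dvd_natCard (⟨(t : G), h⟩ : H))
    exact absurd this (by decide)
  have hnorm : ∀ k ∈ H, (t : G) * k * (t : G)⁻¹ ∈ H := by
    intro k hk
    have h := t.2
    have h' : (t : G) ∈ Subgroup.normalizer (H : Set G) := hN ▸ h
    exact (Subgroup.mem_set_normalizer_iff.mp h' k).mp hk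
  let f : H → H := fun k => ⟨(k : G)⁻¹ * ((t : G) * k * (t : G)⁻¹), H.mul_mem (H.inv_mem k.2) (hnorm k k.2)⟩
  have hinj : Function.Injective f := by
    intro k l h
    have h' : (k : G)⁻¹ * ((t : G) * k * (t : G)⁻¹) = (l : G)⁻¹ * ((t : G) * l * (t : G)⁻¹) := congrArg Subtype.val h
    by_contra hne
    apply htH
    refine hC ((l : G) * (k : G)⁻¹) (H.mul_mem l.2 (H.inv_mem k.2))
      (fun e => hne (Subtype.ext (mul_inv_eq_one.mp e).symm)) (Subgroup.mem_centralizer_singleton_iff.mpr ?_)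
    calc (t : G) * ((l : G) * (k : G)⁻¹)
        = (l : G) * ((l : G)⁻¹ * ((t : G) * l * (t : G)⁻¹)) * ((t : G) * (k : G)⁻¹ * (t : G)⁻¹ * k) * (k : G)⁻¹ * t := by
          group
      _ = (l : G) * (k : G)⁻¹ * t := by rw [← h']; group
  obtain hsurj := Finite.injective_iff_surjective.mp hinj
  have hinv : ∀ x ∈ H, (t : G) * x * (t : G)⁻¹ = x⁻¹ := by
    intro x hx
    obtain ⟨k, hk⟩ := hsurj ⟨x, hx⟩
    have hk' : (k : G)⁻¹ * ((t : G) * k * (t : G)⁻¹) = x := congrArg Subtype.val hk
    have hti : (t : G)⁻¹ = t := inv_eq_of_mul_eq_one_right ht2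
    rw [← hk']
    simp only [hti, mul_inv_rev, inv_inv, mul_assoc]
    rw [show (t : G) * (t : G) = 1 from ht2]
    group
  obtain ⟨a, ha, b, hb, hab⟩ := hna
  apply hab
  have h := hinv _ (H.mul_mem ha hb)
  rw [show (t : G) * (a * b) * (t : G)⁻¹ = ((t : G) * a * (t : G)⁻¹) * ((t : G) * b * (t : G)⁻¹) by group,
    hinv a ha, hinv b hb, mul_inv_rev] at h
  have := congrArg (·⁻¹) h
  simpa using this.symm

/-- The case division. -/
theorem sibley_cases (hN : N = Subgroup.normalizer (H : Set G)) (hH : H ≠ ⊥)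
    (hTI : Cfsg.IsTISubset (H : Set G)) (hlt : H < N)
    (hC : ∀ k ∈ H, k ≠ 1 → Subgroup.centralizer ({k} : Set G) ≤ H) :
    Nat.card H = (H.subgroupOf N).index + 1 ∨
      (Nat.card H = 2 ^ (Nat.card G).factorization 2 ∧
        (⁅H, H⁆.subgroupOf H).index < 4 * (H.subgroupOf N).index ^ 2) ∨
      Cfsg.IsCoherent (relSet (H.subgroupOf N)) {1}ᶜ (fun α => Cfsg.indFun N α) := by
  classical
  set K := H.subgroupOf N with hK
  haveI : K.Normal := by subst hN; exact Subgroup.normal_in_normalizer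
  haveI := Fintype.ofFinite K
  by_cases he : Nat.card H = K.index + 1
  · exact Or.inl he
  right
  have hC' : ∀ k ∈ K, k ≠ 1 → ∀ x : N, x * k = k * x → x ∈ K := by
    subst hN; exact frobTI_centralizer H hC
  have hK1 : K ≠ ⊥ := fun h => hH (Subgroup.subgroupOf_eq_bot.mp h |>.eq_bot_of_le hlt.le)
  have hK2 : K ≠ ⊤ := fun h => hlt.not_ge (Subgroup.subgroupOf_eq_top.mp h)
  let eKH : K ≃* H := Subgroup.subgroupOfEquivOfLe hlt.le
  have hKc : Nat.card K = Nat.card H := Nat.card_congr eKH.toEquiv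
  obtain ⟨hτ, hτ1⟩ := ti_isometry H N hN hTI hC
  rcases feit_coherence K hK1 hK2 hC' (hKc ▸ he) _ hτ hτ1 with h | ⟨p, hp, hpg, ⟨u, v, huv⟩, hidx⟩
  · exact Or.inr h
  haveI := Fact.mk hp
  have hHp : IsPGroup p H := hpg.of_equiv eKH
  obtain ⟨P, hP⟩ := sylow_of_frobenius H hH hHp hC
  have hna : ∃ a ∈ H, ∃ b ∈ H, a * b ≠ b * a :=
    ⟨_, (eKH u).2, _, (eKH v).2, fun h => huv (eKH.injective (Subtype.ext (by simpa using h)))⟩
  by_cases h2 : p = 2
  · left
    subst h2
    refine ⟨by rw [← hP]; exact P.card_eq_multiplicity, ?_⟩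
    have hcm : (⁅H, H⁆.subgroupOf H).index = (commutator K).index := by
      rw [← Subgroup.map_subtype_commutator, Subgroup.subgroupOf,
        Subgroup.comap_map_eq_self_of_injective H.subtype_injective]
      exact index_commutator_congr eKH.symm ▸ rfl
    rw [hcm]
    obtain ⟨m, hm⟩ : ∃ m, Nat.card K = 2 ^ m := IsPGroup.iff_card.mp hpg
    obtain ⟨j, -, hj⟩ := (Nat.dvd_prime_pow Nat.prime_two).mp (hm ▸ (commutator K).index_dvd_card)
    have hlt' : (commutator K).index ≠ 4 * K.index ^ 2 + 1 := by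
      intro h
      rw [hj] at h
      rcases j with _ | j
      · have : 0 < K.index := Nat.pos_of_ne_zero Subgroup.index_ne_zero_of_finite
        simp at h
        omega
      · rw [pow_succ] at h; omega
    have hne : (commutator K).index ≠ 4 * K.index ^ 2 := by
      intro h
      have hcop : Nat.Coprime K.index 2 := by
        refine (Nat.prime_two.coprime_iff_not_dvd.mpr fun hd => P.not_dvd_index ?_).symm
        rw [hP]
        exact hd.trans (Subgroup.relIndex_dvd_index_of_le hlt.le)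
      have hd : K.index ∣ 2 ^ j := hj ▸ h ▸ dvd_mul_of_dvd_right (dvd_pow_self _ two_ne_zero) 4
      exact hK2 (Subgroup.index_eq_one.mp (Nat.Coprime.eq_one_of_dvd (Nat.Coprime.pow_right j hcop) hd))
    omega
  · right
    have hHodd : Odd (Nat.card H) := by
      obtain ⟨m, hm⟩ := IsPGroup.iff_card.mp hHp
      rw [hm]
      exact (hp.odd_of_ne_two h2).pow
    exact sibley_nonabelian H N hN P hP hTI hlt hC (odd_index_of_nonabelian H N hN hlt hC hHodd hna) hna

end Cfsg.Agent.Lib.OddChar
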